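import Cfsg.Agent.SporadicStructure.DodecadStab
import Cfsg.Agent.SporadicStructure.M11InvPerms
import Cfsg.Agent.ClassificationK.GTwoModel
import Cfsg.Prelude.Def_Spor_Mathieu

/-!
The Sylow 2-subgroups of the explicit Mathieu group of degree 12 are isomorphic to the model group
`GTwoModel.T (2 * 2)` of order 64.
-/

set_option autoImplicit false
open scoped Pointwise
open Cfsg

namespace Cfsg.Agent.MTwelveType.SylowModel

open Cfsg.Agent.ClassificationK.GTwoModel
open Cfsg.Agent.SporadicStructure.M11InvPerms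

/-! ### homomorphisms out of the model group -/

section lift

variable {G : Type*} [Group G] {m : ℕ} [NeZero m]

theorem pow_val_add {A : G} (hA : A ^ m = 1) (x y : ZMod m) :
    A ^ (x + y).val = A ^ x.val * A ^ y.val := by
  rw [ZMod.val_add, ← pow_eq_pow_mod _ hA, pow_add]

theorem pow_val_neg {A : G} (hA : A ^ m = 1) (x : ZMod m) :
    A ^ (-x).val = (A ^ x.val)⁻¹ := by
  rw [eq_inv_iff_mul_eq_one, ← pow_val_add hA]
  simp

/-- power of an element by a boolean -/
def bp (g : G) : Bool → G
  | true => g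
  | false => 1

/-- the map defined on the normal form -/
def liftFun (A B C D : G) (x : T m) : G :=
  A ^ x.i.val * B ^ x.j.val * (bp C x.e * bp D x.d)

theorem liftFun_mul {A B C D : G} (hA : A ^ m = 1) (hB : B ^ m = 1) (hAB : A * B = B * A)
    (hC : C * C = 1) (hD : D * D = 1) (hCD : C * D = D * C)
    (hCA : C * A = A⁻¹ * C) (hCB : C * B = B⁻¹ * C) (hDA : D * A = B * D) (hDB : D * B = A * D)
    (x y : T m) : liftFun A B C D (x * y) = liftFun A B C D x * liftFun A B C D y := by
  have hAB' : ∀ i j : ℕ, A ^ i * B ^ j = B ^ j * A ^ i := fun i j =>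
    ((show Commute A B from hAB).pow_pow i j).eq
  have hCA' : ∀ i : ℕ, C * A ^ i = (A ^ i)⁻¹ * C := by
    intro i
    have : SemiconjBy C A A⁻¹ := hCA
    simpa using (this.pow_right i).eq
  have hCB' : ∀ i : ℕ, C * B ^ i = (B ^ i)⁻¹ * C := by
    intro i
    have : SemiconjBy C B B⁻¹ := hCB
    simpa using (this.pow_right i).eq
  have hDA' : ∀ i : ℕ, D * A ^ i = B ^ i * D := by
    intro i
    have : SemiconjBy D A B := hDA
    simpa using (this.pow_right i).eq
  have hDB' : ∀ i : ℕ, D * B ^ i = A ^ i * D := by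
    intro i
    have : SemiconjBy D B A := hDB
    simpa using (this.pow_right i).eq
  -- rewriting of `A^i B^j` through `C` and `D`
  have key1 : ∀ i j : ZMod m, C * (A ^ i.val * B ^ j.val) =
      (A ^ (-i).val * B ^ (-j).val) * C := by
    intro i j
    rw [pow_val_neg hA, pow_val_neg hB, ← mul_assoc, hCA', mul_assoc, hCB', ← mul_assoc]
  have key2 : ∀ i j : ZMod m, D * (A ^ i.val * B ^ j.val) =
      (A ^ j.val * B ^ i.val) * D := by
    intro i j
    rw [← mul_assoc, hDA', mul_assoc, hDB', ← mul_assoc, hAB']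
  have key3 : ∀ i j i' j' : ZMod m, (A ^ i.val * B ^ j.val) * (A ^ i'.val * B ^ j'.val) =
      A ^ (i + i').val * B ^ (j + j').val := by
    intro i j i' j'
    rw [pow_val_add hA, pow_val_add hB]
    calc A ^ i.val * B ^ j.val * (A ^ i'.val * B ^ j'.val)
        = A ^ i.val * (B ^ j.val * A ^ i'.val) * B ^ j'.val := by group
      _ = A ^ i.val * (A ^ i'.val * B ^ j.val) * B ^ j'.val := by rw [hAB']
      _ = _ := by group
  have key4 : ∀ e d : Bool, ∀ i j : ZMod m, bp C e * bp D d * (A ^ i.val * B ^ j.val) =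
      (A ^ (sg m e * cond d j i).val * B ^ (sg m e * cond d i j).val) * (bp C e * bp D d) := by
    intro e d i j
    cases e <;> cases d
    · simp [bp]
    · simp only [bp, sg_false, cond_true, one_mul, key2]
    · simp only [bp, sg_true, cond_false, mul_one, key1, neg_mul, one_mul]
    · simp only [bp, sg_true, cond_true, neg_mul, one_mul]
      rw [mul_assoc C D, key2, ← mul_assoc, key1]
      simp only [mul_assoc]
  have key5 : ∀ e d e' d' : Bool, bp C e * bp D d * (bp C e' * bp D d') =
      bp C (xor e e') * bp D (xor d d') := by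
    have hDC : D * C = C * D := hCD.symm
    have hCC' : ∀ g : G, C * (C * g) = g := fun g => by rw [← mul_assoc, hC, one_mul]
    have hDC' : ∀ g : G, D * (C * g) = C * (D * g) := fun g => by
      rw [← mul_assoc, hDC, mul_assoc]
    intro e d e' d'
    cases e <;> cases d <;> cases e' <;> cases d' <;>
      simp [bp, mul_assoc, hC, hD, hDC, hCC', hDC']
  obtain ⟨i, j, e, d⟩ := x
  obtain ⟨i', j', e', d'⟩ := y
  rw [T.mul_mk]
  simp only [liftFun]
  calc A ^ (i + sg m e * cond d j' i').val * B ^ (j + sg m e * cond d i' j').val *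
        (bp C (xor e e') * bp D (xor d d'))
      = (A ^ i.val * B ^ j.val) *
          (A ^ (sg m e * cond d j' i').val * B ^ (sg m e * cond d i' j').val) *
          (bp C e * bp D d * (bp C e' * bp D d')) := by rw [key3, key5]
    _ = (A ^ i.val * B ^ j.val) *
          ((A ^ (sg m e * cond d j' i').val * B ^ (sg m e * cond d i' j').val) *
          (bp C e * bp D d)) * (bp C e' * bp D d') := by simp only [mul_assoc]
    _ = (A ^ i.val * B ^ j.val) * (bp C e * bp D d * (A ^ i'.val * B ^ j'.val)) *
          (bp C e' * bp D d') := by rw [key4]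
    _ = _ := by simp only [mul_assoc]

/-- four elements satisfying the relations define a homomorphism from the model group -/
def liftHom {A B C D : G} (hA : A ^ m = 1) (hB : B ^ m = 1) (hAB : A * B = B * A)
    (hC : C * C = 1) (hD : D * D = 1) (hCD : C * D = D * C)
    (hCA : C * A = A⁻¹ * C) (hCB : C * B = B⁻¹ * C) (hDA : D * A = B * D) (hDB : D * B = A * D) :
    T m →* G :=
  MonoidHom.mk' (liftFun A B C D) (liftFun_mul hA hB hAB hC hD hCD hCA hCB hDA hDB)

end lift

/-! ### explicit permutations -/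

/-- table of `pA` -/
def tA : List ℕ := [2, 9, 4, 3, 6, 11, 0, 14, 16, 8, 5, 23, 12, 13, 15, 20, 1, 19, 18, 17, 7, 22, 21, 10]
/-- table of the inverse of `pA` -/
def tAi : List ℕ := [6, 16, 0, 3, 2, 10, 4, 20, 9, 1, 23, 5, 12, 13, 7, 14, 8, 19, 18, 17, 15, 22, 21, 11]
/-- certificate for `pA` -/
def cA : List ℕ := [1, 667, 3780, 3170, 1054, 2390, 1048, 3647, 2305, 2467, 2379, 2120, 1586, 1139, 1959, 411, 3544, 437, 3840, 856, 1036, 4013, 2331]
/-- table of `pB` -/
def tB : List ℕ := [0, 9, 2, 12, 4, 23, 6, 20, 16, 8, 11, 10, 13, 18, 7, 14, 1, 22, 3, 21, 15, 17, 19, 5]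
/-- table of the inverse of `pB` -/
def tBi : List ℕ := [0, 16, 2, 18, 4, 23, 6, 14, 9, 1, 11, 10, 3, 12, 15, 20, 8, 21, 13, 22, 7, 19, 17, 5]
/-- certificate for `pB` -/
def cB : List ℕ := [1, 3824, 3328, 2383, 3146, 2796, 1126, 1581, 936, 606, 3423, 1032, 3916, 1948, 1760, 2611, 3697, 1184, 1476, 3609, 2151, 1964, 3126]
/-- table of `pC` -/
def tC : List ℕ := [2, 9, 0, 18, 6, 11, 4, 14, 16, 1, 23, 5, 13, 12, 7, 20, 8, 21, 3, 22, 15, 17, 19, 10]
/-- certificate for `pC` -/
def cC : List ℕ := [1, 3052, 3780, 1694, 2065, 33, 3439, 2556, 3193, 2195, 2752, 1996, 1794, 640, 1959, 3887, 231, 2546, 1863, 1808, 3451, 3110, 999]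
/-- table of `pD` -/
def tD : List ℕ := [12, 8, 13, 6, 18, 22, 3, 20, 1, 16, 17, 19, 0, 2, 15, 14, 9, 10, 4, 11, 7, 23, 5, 21]
/-- certificate for `pD` -/
def cD : List ℕ := [1, 1105, 199, 2140, 17, 2080, 130, 1041, 3817, 3454, 144, 1437, 3708, 2688, 1334, 2754, 1765, 3888, 3543, 2515, 2344, 4041, 1739]

/-- first element of order 4 -/
def pA : Equiv.Perm GolayPt where
  toFun := tabFun tA
  invFun := tabFun tAi
  left_inv := by unfold Function.LeftInverse; decide +kernel
  right_inv := by unfold Function.RightInverse Function.LeftInverse; decide +kernel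

/-- second element of order 4 -/
def pB : Equiv.Perm GolayPt where
  toFun := tabFun tB
  invFun := tabFun tBi
  left_inv := by unfold Function.LeftInverse; decide +kernel
  right_inv := by unfold Function.RightInverse Function.LeftInverse; decide +kernel

/-- the inverting involution -/
def pC : Equiv.Perm GolayPt where
  toFun := tabFun tC
  invFun := tabFun tC
  left_inv := by unfold Function.LeftInverse; decide +kernel
  right_inv := by unfold Function.RightInverse Function.LeftInverse; decide +kernel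

/-- the swapping involution -/
def pD : Equiv.Perm GolayPt where
  toFun := tabFun tD
  invFun := tabFun tD
  left_inv := by unfold Function.LeftInverse; decide +kernel
  right_inv := by unfold Function.RightInverse Function.LeftInverse; decide +kernel

set_option maxRecDepth 100000 in
theorem pA_mem : pA ∈ M24 := mem_M24_of_cert pA (fun t => cA.getD t.val 0) (by decide +kernel)

set_option maxRecDepth 100000 in
theorem pB_mem : pB ∈ M24 := mem_M24_of_cert pB (fun t => cB.getD t.val 0) (by decide +kernel)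

set_option maxRecDepth 100000 in
theorem pC_mem : pC ∈ M24 := mem_M24_of_cert pC (fun t => cC.getD t.val 0) (by decide +kernel)

set_option maxRecDepth 100000 in
theorem pD_mem : pD ∈ M24 := mem_M24_of_cert pD (fun t => cD.getD t.val 0) (by decide +kernel)

theorem pA_dd : ∀ p ∈ dd, pA p ∈ dd := by decide +kernel
theorem pB_dd : ∀ p ∈ dd, pB p ∈ dd := by decide +kernel
theorem pC_dd : ∀ p ∈ dd, pC p ∈ dd := by decide +kernel
theorem pD_dd : ∀ p ∈ dd, pD p ∈ dd := by decide +kernel

theorem squareDodecad_eq : Spor.squareDodecad = dd := by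
  unfold Spor.squareDodecad dd
  rw [qrWord_eq]

theorem mem_M12 {g : Equiv.Perm GolayPt} (h : g ∈ M24) (hd : ∀ p ∈ dd, g p ∈ dd) :
    g ∈ Spor.M12 := by
  refine Subgroup.mem_inf.mpr ⟨h, ?_⟩
  rw [MulAction.mem_stabilizer_iff, squareDodecad_eq]
  apply Finset.eq_of_subset_of_card_le
  · intro x hx
    obtain ⟨y, hy, rfl⟩ := Finset.mem_smul_finset.mp hx
    exact hd y hy
  · rw [Finset.card_smul_finset]

theorem card_M12 : Nat.card Spor.M12 = 95040 := by
  have h1 : Spor.M12 = SporadicStructure.DodecadStab.DFix dd [] := by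
    ext g
    rw [SporadicStructure.DodecadStab.mem_DFix]
    constructor
    · intro h
      obtain ⟨h2, h3⟩ := Subgroup.mem_inf.mp h
      rw [MulAction.mem_stabilizer_iff, squareDodecad_eq] at h3
      exact ⟨h2, h3, by simp⟩
    · rintro ⟨h2, h3, -⟩
      refine Subgroup.mem_inf.mpr ⟨h2, ?_⟩
      rw [MulAction.mem_stabilizer_iff, squareDodecad_eq]
      exact h3
  rw [h1, SporadicStructure.DodecadStab.card_DFix dd_mem [] List.nodup_nil (by simp) (by simp)]
  decide

/-! ### the homomorphism -/

/-- the first generator in `M12` -/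
def A : Spor.M12 := ⟨pA, mem_M12 pA_mem pA_dd⟩
/-- the second generator in `M12` -/
def B : Spor.M12 := ⟨pB, mem_M12 pB_mem pB_dd⟩
/-- the third generator in `M12` -/
def C : Spor.M12 := ⟨pC, mem_M12 pC_mem pC_dd⟩
/-- the fourth generator in `M12` -/
def D : Spor.M12 := ⟨pD, mem_M12 pD_mem pD_dd⟩

theorem ext_M12 {x y : Spor.M12} (h : ∀ p : GolayPt, x.1 p = y.1 p) : x = y :=
  Subtype.ext (Equiv.ext h)

theorem relA : A ^ (2 * 2) = 1 := ext_M12 (by decide +kernel)
theorem relB : B ^ (2 * 2) = 1 := ext_M12 (by decide +kernel)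
theorem relAB : A * B = B * A := ext_M12 (by decide +kernel)
theorem relC : C * C = 1 := ext_M12 (by decide +kernel)
theorem relD : D * D = 1 := ext_M12 (by decide +kernel)
theorem relCD : C * D = D * C := ext_M12 (by decide +kernel)
theorem relCA : C * A = A⁻¹ * C := ext_M12 (by decide +kernel)
theorem relCB : C * B = B⁻¹ * C := ext_M12 (by decide +kernel)
theorem relDA : D * A = B * D := ext_M12 (by decide +kernel)
theorem relDB : D * B = A * D := ext_M12 (by decide +kernel)

instance : NeZero (2 * 2) := ⟨by decide⟩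

/-- the model group in `M12` -/
def hom : T (2 * 2) →* Spor.M12 :=
  liftHom relA relB relAB relC relD relCD relCA relCB relDA relDB

theorem hom_apply (x : T (2 * 2)) :
    hom x = A ^ x.i.val * B ^ x.j.val * (bp C x.e * bp D x.d) := rfl

set_option maxRecDepth 100000 in
theorem ker_aux : ∀ i j : ZMod (2 * 2), ∀ e d : Bool,
    (∀ p : GolayPt, (A ^ i.val * B ^ j.val * (bp C e * bp D d)).1 p = p) →
      i = 0 ∧ j = 0 ∧ e = false ∧ d = false := by
  decide +kernel

theorem hom_injective : Function.Injective hom := by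
  rw [injective_iff_map_eq_one]
  rintro ⟨i, j, e, d⟩ h
  rw [hom_apply] at h
  obtain ⟨rfl, rfl, rfl, rfl⟩ := ker_aux i j e d (fun p => by rw [h]; rfl)
  rfl

theorem card_range_hom : Nat.card hom.range = 64 := by
  rw [← Nat.card_congr (MonoidHom.ofInjective hom_injective).toEquiv, T.card_T]
  norm_num

theorem card_sylow (P : Sylow 2 Spor.M12) : Nat.card P = 64 := by
  rw [P.card_eq_multiplicity, card_M12]
  have : (95040 : ℕ) = 2 ^ 6 * 1485 := by norm_num
  rw [this, Nat.factorization_mul (by norm_num) (by norm_num), Finsupp.add_apply,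
    Nat.Prime.factorization_pow Nat.prime_two, Finsupp.single_eq_same,
    Nat.factorization_eq_zero_of_not_dvd (by norm_num)]
  rfl

/-- the Sylow 2-subgroups of `M12` are isomorphic to the model group -/
theorem exists_equiv (P : Sylow 2 ↥Cfsg.Spor.M12) :
    Nonempty (Cfsg.Agent.ClassificationK.GTwoModel.T (2 * 2) ≃*
      ↥(P : Subgroup ↥Cfsg.Spor.M12)) := by
  have h1 : IsPGroup 2 hom.range := IsPGroup.of_card (n := 6) (by rw [card_range_hom]; norm_num)
  obtain ⟨Q, hQ⟩ := h1.exists_le_sylow
  have h2 : hom.range = (Q : Subgroup Spor.M12) := by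
    apply Subgroup.eq_of_le_of_card_ge hQ
    rw [card_range_hom]
    exact (card_sylow Q).le
  exact ⟨((MonoidHom.ofInjective hom_injective).trans (MulEquiv.subgroupCongr h2)).trans
    (Sylow.equiv Q P)⟩

end Cfsg.Agent.MTwelveType.SylowModel
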