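import Cfsg.Agent.MTwelveType.SylowModel
import Cfsg.Agent.S0421

/-!
# A simple group of order 95040 is the explicit Mathieu group `Cfsg.Spor.M12` (S1741, end)
-/

set_option autoImplicit false
open scoped Pointwise

namespace Cfsg.Agent.MTwelveType.IsoEnd

open Cfsg

/-- the stabilizer of the dodecad of squares in the group `M24` and `Spor.M12` -/
def stabEquiv : ↥(MulAction.stabilizer Cfsg.M24 Cfsg.Spor.squareDodecad) ≃* ↥Cfsg.Spor.M12 where
  toFun g := ⟨((g : Cfsg.M24) : Equiv.Perm GolayPt), Subgroup.mem_inf.2 ⟨(g : Cfsg.M24).2, g.2⟩⟩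
  invFun g := ⟨⟨g, (Subgroup.mem_inf.1 g.2).1⟩, (Subgroup.mem_inf.1 g.2).2⟩
  left_inv _ := rfl
  right_inv _ := rfl
  map_mul' _ _ := rfl

theorem isoM12_of_card {G : Type*} [Group G] [Finite G] [h : IsSimpleGroup G] (hG : Nat.card G = 95040) :
    Cfsg.Spor.IsoM12 G := by
  obtain ⟨e⟩ := Cfsg.Agent.S0421.result (G := G) ⟨h, hG⟩ Cfsg.Spor.squareDodecad
    (by rw [SylowModel.squareDodecad_eq]; exact Cfsg.Agent.SporadicStructure.M11InvPerms.dd_mem)
  exact ⟨e.trans stabEquiv⟩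

end Cfsg.Agent.MTwelveType.IsoEnd
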