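import Cfsg.Agent.MTwelveType.Fusion
import Cfsg.Agent.TwoFusion.StronglyEmbeddedBasic

/-!
# Sylow type `M₁₂`: no strongly embedded subgroup (S1741, task T8)
-/

set_option autoImplicit false

namespace Cfsg.Agent.MTwelveType.Embedded

open Cfsg.Agent.ClassificationK.GTwoModel Cfsg.Agent.ClassificationK.GTwoModel.T
open Cfsg.Agent.MTwelveType.Base Subgroup

variable {G : Type*} [Group G] [Finite G] {S : Sylow 2 G} {f : T (2 * 2) →* G}

omit [Finite G] in
theorem orderOf_conj' (k x : G) : orderOf (k * x * k⁻¹) = orderOf x :=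
  orderOf_injective (MulAut.conj k).toMonoidHom (MulAut.conj k).injective x

theorem mem_cen_z (P : Pat S f) (x : T (2 * 2)) : f x ∈ centralizer {f (z 2)} := by
  have := P
  rw [mem_centralizer_singleton_iff, ← map_mul, ← map_mul, Fusion.z_comm]

/-- an involution of `M ≥ S` is conjugate in `M` to an involution of `S` -/
theorem exists_model (P : Pat S f) (M : Subgroup G) (hSM : (S : Subgroup G) ≤ M) (x : G) (hxM : x ∈ M)
    (hx : orderOf x = 2) : ∃ y : T (2 * 2), y * y = 1 ∧ y ≠ 1 ∧ ∃ m ∈ M, m * f y * m⁻¹ = x := by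
  have hx2 : x * x = 1 := by rw [← pow_two, ← hx, pow_orderOf_eq_one]
  have hx1 : x ≠ 1 := fun h => by rw [h, orderOf_one] at hx; omega
  have hp : IsPGroup 2 (zpowers (⟨x, hxM⟩ : M)) := by
    refine IsPGroup.of_card (n := 1) ?_
    rw [Nat.card_zpowers, Subgroup.orderOf_mk, hx, pow_one]
  obtain ⟨R, hR⟩ := hp.exists_le_sylow
  obtain ⟨g, hg⟩ := MulAction.exists_smul_eq M R (S.subtype hSM)
  have h1 : g * ⟨x, hxM⟩ * g⁻¹ ∈ (S.subtype hSM : Subgroup M) := by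
    rw [← hg, Sylow.coe_subgroup_smul]
    exact ⟨⟨x, hxM⟩, hR (mem_zpowers _), rfl⟩
  have h2 : (g : G) * x * (g : G)⁻¹ ∈ (S : Subgroup G) := h1
  obtain ⟨v, hv⟩ := P.exists_of_mem h2
  refine ⟨v, ?_, ?_, (g : G)⁻¹, M.inv_mem g.2, ?_⟩
  · apply P.inj
    rw [map_mul, hv, map_one]
    calc (g : G) * x * (g : G)⁻¹ * (g * x * (g : G)⁻¹) = g * (x * x) * (g : G)⁻¹ := by group
      _ = 1 := by rw [hx2]; group
  · rintro rfl
    apply hx1
    rw [map_one] at hv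
    calc x = (g : G)⁻¹ * (g * x * (g : G)⁻¹) * g := by group
      _ = 1 := by rw [← hv]; group
  · rw [hv]; group

omit [Finite G] in
theorem conj_trans {M : Subgroup G} {a b c : G} (h1 : ∃ m ∈ M, m * a * m⁻¹ = b) (h2 : ∃ m ∈ M, m * b * m⁻¹ = c) :
    ∃ m ∈ M, m * a * m⁻¹ = c := by
  obtain ⟨m, hm, rfl⟩ := h1
  obtain ⟨n, hn, rfl⟩ := h2
  exact ⟨n * m, M.mul_mem hn hm, by group⟩

omit [Finite G] in
theorem conj_symm {M : Subgroup G} {a b : G} (h1 : ∃ m ∈ M, m * a * m⁻¹ = b) :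
    ∃ m ∈ M, m * b * m⁻¹ = a := by
  obtain ⟨m, hm, rfl⟩ := h1
  exact ⟨m⁻¹, M.inv_mem hm, by group⟩

/-- `M` has two classes of involutions -/
theorem fus_in (P : Pat S f) (M : Subgroup G) (hSM : (S : Subgroup G) ≤ M) (hz : centralizer {f (z 2)} ≤ M)
    (g : G) (hg : g ∈ M) (hga : g * f (a' 2) * g⁻¹ = f (z 2))
    (hgs : (∃ m ∈ M, m * f (z 2) * m⁻¹ = f (s 2)) ∨ ∃ m ∈ M, m * f (t 2) * m⁻¹ = f (s 2))
    (x : G) (hxM : x ∈ M) (hx : orderOf x = 2) :
    (∃ m ∈ M, m * f (z 2) * m⁻¹ = x) ∨ ∃ m ∈ M, m * f (t 2) * m⁻¹ = x := by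
  obtain ⟨y, hy, hy1, hyx⟩ := exists_model P M hSM x hxM hx
  have hfM : ∀ x, f x ∈ M := fun x => hSM (P.mem_S x)
  have hmap : ∀ {p q : T (2 * 2)}, (∃ k, k * p * k⁻¹ = q) → ∃ m ∈ M, m * f p * m⁻¹ = f q := by
    rintro p q ⟨k, rfl⟩
    exact ⟨f k, hfM k, by rw [map_mul, map_mul, map_inv]⟩
  have hcen : ∀ {a b : G}, (∃ c, c * f (z 2) = f (z 2) * c ∧ c * a * c⁻¹ = b) → ∃ m ∈ M, m * a * m⁻¹ = b := by
    rintro a b ⟨c, hc, h⟩
    exact ⟨c, hz (mem_centralizer_singleton_iff.2 hc), h⟩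
  have hza : ∃ m ∈ M, m * f (z 2) * m⁻¹ = f (a' 2) := conj_symm ⟨g, hg, hga⟩
  rcases inv_trichotomy y hy hy1 with h | h | h
  · left
    refine conj_trans ?_ hyx
    rcases conj_of_InE y h hy1 with rfl | h1 | h1
    · exact ⟨1, M.one_mem, by simp⟩
    · exact conj_trans hza (hmap h1)
    · exact conj_trans (conj_trans hza (hcen (Fusion.exists_ar P))) (hmap h1)
  · right
    refine conj_trans ?_ hyx
    rcases conj_of_InTT y h with h1 | h1 | h1
    · exact hmap h1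
    · exact conj_trans (hcen (Fusion.exists_tu P)) (hmap h1)
    · exact conj_trans (hcen (Fusion.exists_tw P)) (hmap h1)
  · have h1 := hmap (conj_of_InSS y h)
    rcases hgs with h2 | h2
    · exact Or.inl (conj_trans (conj_trans h2 h1) hyx)
    · exact Or.inr (conj_trans (conj_trans h2 h1) hyx)

/-- elements conjugating a z-type of `M` into `M` lie in `M` -/
theorem mem_of_z (P : Pat S f) (M : Subgroup G) (hSM : (S : Subgroup G) ≤ M) (hz : centralizer {f (z 2)} ≤ M)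
    (g : G) (hg : g ∈ M) (hga : g * f (a' 2) * g⁻¹ = f (z 2))
    (hgs : (∃ m ∈ M, m * f (z 2) * m⁻¹ = f (s 2)) ∨ ∃ m ∈ M, m * f (t 2) * m⁻¹ = f (s 2))
    (x : G) (hx : IsConj (f (z 2)) x) (hxM : x ∈ M) (k : G) (hk : k * x * k⁻¹ ∈ M) : k ∈ M := by
  have hz2 : orderOf (f (z 2)) = 2 := by
    rw [orderOf_injective f P.inj]
    exact orderOf_eq_prime (by decide) (by decide)
  have hord : ∀ y, IsConj (f (z 2)) y → orderOf y = 2 := by
    rintro y hy
    obtain ⟨c, rfl⟩ := isConj_iff.1 hy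
    exact (orderOf_conj' _ _).trans hz2
  have hcl : ∀ y, IsConj (f (z 2)) y → y ∈ M → ∃ m ∈ M, m * f (z 2) * m⁻¹ = y := by
    intro y hy hyM
    rcases fus_in P M hSM hz g hg hga hgs y hyM (hord y hy) with h | ⟨m, hm, h⟩
    · exact h
    · exact absurd (hy.trans (isConj_iff.2 ⟨m, h⟩ : IsConj (f (t 2)) y).symm) P.nzt
  obtain ⟨m, hm, rfl⟩ := hcl x hx hxM
  obtain ⟨n, hn, h⟩ := hcl _ (hx.trans (isConj_iff.2 ⟨k, rfl⟩)) hk
  have h1 : n⁻¹ * k * m ∈ centralizer {f (z 2)} := by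
    rw [mem_centralizer_singleton_iff]
    calc n⁻¹ * k * m * f (z 2) = n⁻¹ * (k * (m * f (z 2) * m⁻¹) * k⁻¹) * k * m := by group
      _ = n⁻¹ * (n * f (z 2) * n⁻¹) * k * m := by rw [h]
      _ = f (z 2) * (n⁻¹ * k * m) := by group
  have h2 : k = n * (n⁻¹ * k * m) * m⁻¹ := by group
  rw [h2]
  exact M.mul_mem (M.mul_mem hn (hz h1)) (M.inv_mem hm)

/-- there is no such `M ≠ G` containing `C(z)` and `C(t)` -/
theorem false_of_embedded (P : Pat S f) (M : Subgroup G) (hM : M ≠ ⊤) (hSM : (S : Subgroup G) ≤ M)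
    (hz : centralizer {f (z 2)} ≤ M) (ht : centralizer {f (t 2)} ≤ M)
    (g : G) (hg : g ∈ M) (hga : g * f (a' 2) * g⁻¹ = f (z 2))
    (hgs : (∃ m ∈ M, m * f (z 2) * m⁻¹ = f (s 2)) ∨ ∃ m ∈ M, m * f (t 2) * m⁻¹ = f (s 2)) : False := by
  have hz2 : orderOf (f (z 2)) = 2 := by
    rw [orderOf_injective f P.inj]
    exact orderOf_eq_prime (by decide) (by decide)
  have ht2 : orderOf (f (t 2)) = 2 := by
    rw [orderOf_injective f P.inj]
    exact orderOf_eq_prime (by decide) (by decide)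
  -- elements conjugating an involution of `M` into `M` lie in `M`
  have key : ∀ x, orderOf x = 2 → x ∈ M → ∀ k, k * x * k⁻¹ ∈ M → k ∈ M := by
    intro x hx hxM k hk
    have hx2 : orderOf (k * x * k⁻¹) = 2 := (orderOf_conj' _ _).trans hx
    rcases fus_in P M hSM hz g hg hga hgs x hxM hx with ⟨m, hm, h⟩ | ⟨m, hm, h⟩
    · exact mem_of_z P M hSM hz g hg hga hgs x (isConj_iff.2 ⟨m, h⟩) hxM k hk
    · rcases fus_in P M hSM hz g hg hga hgs _ hk hx2 with ⟨n, hn, h'⟩ | ⟨n, hn, h'⟩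
      · exfalso
        apply P.nzt
        have h1 : IsConj (f (z 2)) (k * x * k⁻¹) := isConj_iff.2 ⟨n, h'⟩
        have h2 : IsConj x (k * x * k⁻¹) := isConj_iff.2 ⟨k, rfl⟩
        have h3 : IsConj (f (t 2)) x := isConj_iff.2 ⟨m, h⟩
        exact (h1.trans h2.symm).trans h3.symm
      · have h1 : n⁻¹ * k * m ∈ centralizer {f (t 2)} := by
          rw [mem_centralizer_singleton_iff]
          calc n⁻¹ * k * m * f (t 2) = n⁻¹ * (k * (m * f (t 2) * m⁻¹) * k⁻¹) * k * m := by group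
            _ = n⁻¹ * (n * f (t 2) * n⁻¹) * k * m := by rw [h, h']
            _ = f (t 2) * (n⁻¹ * k * m) := by group
        have h2 : k = n * (n⁻¹ * k * m) * m⁻¹ := by group
        rw [h2]
        exact M.mul_mem (M.mul_mem hn (ht h1)) (M.inv_mem hm)
  have hE : Cfsg.IsStronglyEmbedded M := by
    refine ⟨hM, ?_, ?_⟩
    · have h1 : orderOf (⟨f (z 2), hSM (P.mem_S _)⟩ : M) = 2 := by
        rw [Subgroup.orderOf_mk, hz2]
      have h2 : 2 ∣ Nat.card M := by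
        rw [← h1]; exact orderOf_dvd_natCard _
      exact even_iff_two_dvd.2 h2
    · intro k hk
      rw [← Nat.not_even_iff_odd]
      intro he
      have : Fact (Nat.Prime 2) := ⟨Nat.prime_two⟩
      obtain ⟨y, hy⟩ := exists_prime_orderOf_dvd_card' 2 (even_iff_two_dvd.1 he)
      have hy' : orderOf (y : G) = 2 := by rw [← hy, Subgroup.orderOf_coe]
      obtain ⟨x, hxM, hx⟩ := y.2.2
      have hx' : k * x * k⁻¹ = (y : G) := hx
      apply hk
      refine key x ?_ hxM k (by rw [hx']; exact y.2.1)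
      rw [← hx', orderOf_conj'] at hy'
      exact hy'
  exact P.nzt (Cfsg.Agent.TwoFusion.StronglyEmbeddedBasic.isConj_of_involutions hE _ _ hz2 ht2)

end Cfsg.Agent.MTwelveType.Embedded
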