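import Cfsg.Agent.MTwelveType.Base

/-!
# S1741, step (C2): `s` is not conjugate in `C(z)` into `Q`
-/

set_option autoImplicit false
set_option linter.unusedSectionVars false

namespace Cfsg.Agent.MTwelveType.NotQ

open Cfsg.Agent.ClassificationK.GTwoModel Cfsg.Agent.ClassificationK.GTwoModel.T
open Cfsg.Agent.MTwelveType.Base

/-! ### Sylow argument -/

/-- If `Q₀` is a maximal `2`-subgroup of `N` then every `2`-subgroup of `N` is conjugate in `N` into `Q₀`. -/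
theorem exists_conj_le_of_maximal {G : Type*} [Group G] [Finite G] {N Q₀ D₀ : Subgroup G}
    (hQ : IsPGroup 2 Q₀) (hQN : Q₀ ≤ N)
    (hmax : ∀ R : Subgroup G, IsPGroup 2 R → Q₀ ≤ R → R ≤ N → R ≤ Q₀)
    (hD : IsPGroup 2 D₀) (hDN : D₀ ≤ N) : ∃ n ∈ N, ∀ d ∈ D₀, n * d * n⁻¹ ∈ Q₀ := by
  have hQ' : IsPGroup 2 (Q₀.subgroupOf N) := hQ.comap_subtype
  have hD' : IsPGroup 2 (D₀.subgroupOf N) := hD.comap_subtype
  obtain ⟨P₁, hP₁⟩ := hQ'.exists_le_sylow
  obtain ⟨P₂, hP₂⟩ := hD'.exists_le_sylow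
  obtain ⟨n, hn⟩ := MulAction.exists_smul_eq N P₂ P₁
  have h1 : (P₁ : Subgroup N).map N.subtype ≤ Q₀ := by
    refine hmax _ (P₁.isPGroup'.map _) ?_ (Subgroup.map_subtype_le _)
    intro x hx
    exact ⟨⟨x, hQN hx⟩, hP₁ (show x ∈ Q₀ from hx), rfl⟩
  refine ⟨n, n.2, fun d hd => h1 ?_⟩
  refine ⟨n * ⟨d, hDN hd⟩ * n⁻¹, ?_, rfl⟩
  have h2 : (⟨d, hDN hd⟩ : N) ∈ (P₂ : Subgroup N) := hP₂ (show d ∈ D₀ from hd)
  rw [← hn, Sylow.coe_subgroup_smul]
  exact ⟨_, h2, rfl⟩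

/-! ### the stabiliser of `{x, x z}` in `C(z)` -/

/-- the elements of `C(z)` normalising `{x, x z}` -/
def NN {G : Type*} [Group G] (z x : G) (hz : z * z = 1) : Subgroup G where
  carrier := {g | g * z * g⁻¹ = z ∧ (g * x * g⁻¹ = x ∨ g * x * g⁻¹ = x * z)}
  one_mem' := by simp
  mul_mem' := by
    rintro g h ⟨hg, hg'⟩ ⟨hh, hh'⟩
    refine ⟨?_, ?_⟩
    · calc g * h * z * (g * h)⁻¹ = g * (h * z * h⁻¹) * g⁻¹ := by group
        _ = z := by rw [hh, hg]
    · have e1 : g * h * x * (g * h)⁻¹ = g * (h * x * h⁻¹) * g⁻¹ := by group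
      have e2 : g * (x * z) * g⁻¹ = g * x * g⁻¹ * (g * z * g⁻¹) := by group
      rcases hh' with h1 | h1 <;> rcases hg' with h2 | h2
      · left; rw [e1, h1, h2]
      · right; rw [e1, h1, h2]
      · right; rw [e1, h1, e2, h2, hg]
      · left; rw [e1, h1, e2, h2, hg, mul_assoc, hz, mul_one]
  inv_mem' := by
    rintro g ⟨hg, hg'⟩
    have hg1 : g⁻¹ * z * g⁻¹⁻¹ = z := by
      calc g⁻¹ * z * g⁻¹⁻¹ = g⁻¹ * (g * z * g⁻¹) * g⁻¹⁻¹ := by rw [hg]
        _ = z := by group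
    refine ⟨hg1, ?_⟩
    rcases hg' with h | h
    · left
      calc g⁻¹ * x * g⁻¹⁻¹ = g⁻¹ * (g * x * g⁻¹) * g⁻¹⁻¹ := by rw [h]
        _ = x := by group
    · right
      have h1 : x = g⁻¹ * x * g⁻¹⁻¹ * z := by
        calc x = g⁻¹ * (g * x * g⁻¹) * g⁻¹⁻¹ := by group
          _ = g⁻¹ * (x * z) * g⁻¹⁻¹ := by rw [h]
          _ = g⁻¹ * x * g⁻¹⁻¹ * (g⁻¹ * z * g⁻¹⁻¹) := by group
          _ = g⁻¹ * x * g⁻¹⁻¹ * z := by rw [hg1]
      calc g⁻¹ * x * g⁻¹⁻¹ = g⁻¹ * x * g⁻¹⁻¹ * (z * z) := by rw [hz, mul_one]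
        _ = (g⁻¹ * x * g⁻¹⁻¹ * z) * z := by simp only [mul_assoc]
        _ = x * z := by rw [← h1]

theorem mem_NN {G : Type*} [Group G] {z x g : G} {hz : z * z = 1} :
    g ∈ NN z x hz ↔ g * z * g⁻¹ = z ∧ (g * x * g⁻¹ = x ∨ g * x * g⁻¹ = x * z) := Iff.rfl

/-- conjugating `NN` -/
theorem conj_mem_NN {G : Type*} [Group G] {z x y c g : G} {hz : z * z = 1} (hc : c * z * c⁻¹ = z)
    (hcx : c * x * c⁻¹ = y) (hg : g ∈ NN z x hz) : c * g * c⁻¹ ∈ NN z y hz := by
  obtain ⟨h1, h2⟩ := hg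
  have hc' : c⁻¹ * z * c = z := by
    calc c⁻¹ * z * c = c⁻¹ * (c * z * c⁻¹) * c := by rw [hc]
      _ = z := by group
  refine ⟨?_, ?_⟩
  · calc c * g * c⁻¹ * z * (c * g * c⁻¹)⁻¹ = c * (g * (c⁻¹ * z * c) * g⁻¹) * c⁻¹ := by group
      _ = z := by rw [hc', h1, hc]
  · have e : c * g * c⁻¹ * y * (c * g * c⁻¹)⁻¹ = c * (g * x * g⁻¹) * c⁻¹ := by
      rw [← hcx]; group
    rcases h2 with h | h
    · left; rw [e, h, hcx]
    · right
      rw [e, h]
      calc c * (x * z) * c⁻¹ = c * x * c⁻¹ * (c * z * c⁻¹) := by group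
        _ = y * z := by rw [hcx, hc]

/-! ### facts in the model -/

/-- the group `D = A₀ ⟨s⟩` of order 16 -/
def InD (x : T (2 * 2)) : Prop := x.d = false ∧ (if x.e then 2 * x.i ≠ 2 * x.j else 2 * x.i = 2 * x.j)
instance : DecidablePred InD := fun x => by unfold InD; infer_instance

theorem InD_iff : ∀ x : T (2 * 2),
    InD x ↔ (x * s 2 * x⁻¹ = s 2 ∨ x * s 2 * x⁻¹ = s 2 * z 2) := by decide
theorem z_central : ∀ x : T (2 * 2), x * z 2 * x⁻¹ = z 2 := by decide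
theorem a'_conj : ∀ x : T (2 * 2), x * a' 2 * x⁻¹ = a' 2 ∨ x * a' 2 * x⁻¹ = a' 2 * z 2 := by decide
theorem t_conj_Q : ∀ x : T (2 * 2), InQ x → (x * t 2 * x⁻¹ = t 2 ∨ x * t 2 * x⁻¹ = t 2 * z 2) := by decide
theorem InQ_of_sq : ∀ x : T (2 * 2), x * x = z 2 → InQ x := by decide
theorem InD_of_InSS : ∀ x : T (2 * 2), InSS x → InD x := by decide
set_option maxRecDepth 100000 in
theorem InSS_eq : ∀ x : T (2 * 2), InSS x → (∃ p, InD p ∧ p * p = z 2 ∧ x = p * s 2) ∨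
    (∃ p q, InD p ∧ p * p = z 2 ∧ InD q ∧ q * q = z 2 ∧ x = p * (q * s 2)) := by decide
theorem InD_cases : ∀ x : T (2 * 2), InD x → ¬ InV x → (x * x ≠ 1 ∨ InSS x) := by decide
theorem InD_a' : InD (a' 2) := by decide
set_option maxRecDepth 100000 in
theorem InV_of_conj : ∀ x : T (2 * 2), x * x = 1 → (∀ y : T (2 * 2), y * x * y⁻¹ = x ∨ y * x * y⁻¹ = x * z 2) →
    InV x := by decide
set_option maxRecDepth 100000 in
theorem InQ_mul : ∀ x y : T (2 * 2), InQ x → InQ y → InQ (x * y) := by decide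
set_option maxRecDepth 100000 in
theorem InD_mul : ∀ x y : T (2 * 2), InD x → InD y → InD (x * y) := by decide
theorem InQ_inv : ∀ x : T (2 * 2), InQ x → InQ x⁻¹ := by decide
theorem InQ_one : InQ (1 : T (2 * 2)) := by decide
theorem InQ_t : InQ (t 2) := by decide
theorem s_ne_z : s 2 ≠ z 2 := by decide
theorem a'_ne_z : a' 2 ≠ z 2 := by decide
theorem z_sq : z 2 * z 2 = (1 : T (2 * 2)) := by decide
theorem z_ne_one : z 2 ≠ (1 : T (2 * 2)) := by decide
theorem a'_ne_one : a' 2 ≠ (1 : T (2 * 2)) := by decide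
theorem t_sq : t 2 * t 2 = (1 : T (2 * 2)) := by decide
theorem a'_comm_D : ∀ x : T (2 * 2), InD x → x * a' 2 = a' 2 * x := by decide
theorem InQ_a' : InQ (a' 2) ∧ InQ (a' 2 * z 2) := by decide

theorem card_InSS : Fintype.card {x : T (2 * 2) // InSS x} = 8 := by decide
theorem card_InE : Fintype.card {x : T (2 * 2) // InE x ∧ x ≠ 1 ∧ x ≠ z 2} = 6 := by decide
theorem card_D13 : Fintype.card {x : T (2 * 2) // InD x ∧ ¬ (InV x ∧ x ≠ 1)} = 13 := by decide
set_option maxRecDepth 100000 in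
theorem card_Q9 : ∀ e : T (2 * 2), InE e → e ≠ 1 → e ≠ z 2 →
    Fintype.card {x : T (2 * 2) // InQ x ∧ x * e = e * x ∧ ¬ (InE x ∧ x ≠ 1)} = 9 := by decide
theorem card_InQ : Fintype.card {x : T (2 * 2) // InQ x} = 32 := by decide

/-- `Q` as a subgroup of the model -/
def Qs : Subgroup (T (2 * 2)) where
  carrier := {x | InQ x}
  one_mem' := InQ_one
  mul_mem' := fun {x y} hx hy => InQ_mul x y hx hy
  inv_mem' := fun {x} hx => InQ_inv x hx

theorem mem_Qs {x : T (2 * 2)} : x ∈ Qs ↔ InQ x := Iff.rfl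

/-! ### the two cases -/

section main

variable {G : Type*} [Group G] [Finite G] {S : Sylow 2 G} {f : T (2 * 2) →* G}

theorem f_zz (f : T (2 * 2) →* G) : f (z 2) * f (z 2) = 1 := by rw [← map_mul, z_sq, map_one]

theorem f_ne_one (P : Pat S f) {x : T (2 * 2)} (hx : x ≠ 1) : f x ≠ 1 :=
  fun h => hx (P.inj (h.trans f.map_one.symm))

theorem conj_f (f : T (2 * 2) →* G) (x y : T (2 * 2)) : f x * f y * (f x)⁻¹ = f (x * y * x⁻¹) := by
  rw [map_mul, map_mul, map_inv]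

theorem mem_NN_f {x y : T (2 * 2)}
    (h : x * y * x⁻¹ = y ∨ x * y * x⁻¹ = y * z 2) : f x ∈ NN (f (z 2)) (f y) (f_zz f) := by
  refine ⟨by rw [conj_f, z_central], ?_⟩
  rcases h with h | h
  · left; rw [conj_f, h]
  · right; rw [conj_f, h, map_mul]

theorem isConj_conj {g a b : G} (h : g * a * g⁻¹ = b) : IsConj a b := isConj_iff.2 ⟨g, h⟩

/-- the `2`-subgroup `D` inside `G`, moved by `c`, as a subgroup of `NN z y`. -/
theorem exists_good (P : Pat S f) {y : T (2 * 2)} {c : G} (hc : c * f (z 2) * c⁻¹ = f (z 2))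
    (hcs : c * f (s 2) * c⁻¹ = f y) {Q₀ : Subgroup G} (hQ : IsPGroup 2 Q₀)
    (hQN : Q₀ ≤ NN (f (z 2)) (f y) (f_zz f))
    (hmax : ∀ R : Subgroup G, IsPGroup 2 R → Q₀ ≤ R → R ≤ NN (f (z 2)) (f y) (f_zz f) → R ≤ Q₀) :
    ∃ g : G, g * f (z 2) * g⁻¹ = f (z 2) ∧
      (g * f (s 2) * g⁻¹ = f y ∨ g * f (s 2) * g⁻¹ = f (y * z 2)) ∧
      ∀ x, InD x → g * f x * g⁻¹ ∈ Q₀ := by
  set D₀ : Subgroup G := ((S : Subgroup G) ⊓ NN (f (z 2)) (f (s 2)) (f_zz f)).map
    (MulAut.conj c).toMonoidHom with hD₀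
  have hD : IsPGroup 2 D₀ := (S.isPGroup'.to_le inf_le_left).map _
  have hDN : D₀ ≤ NN (f (z 2)) (f y) (f_zz f) := by
    rintro _ ⟨d, hd, rfl⟩
    exact conj_mem_NN hc hcs hd.2
  obtain ⟨n, hn, hnD⟩ := exists_conj_le_of_maximal hQ hQN hmax hD hDN
  refine ⟨n * c, ?_, ?_, ?_⟩
  · calc n * c * f (z 2) * (n * c)⁻¹ = n * (c * f (z 2) * c⁻¹) * n⁻¹ := by group
      _ = f (z 2) := by rw [hc, hn.1]
  · have e : n * c * f (s 2) * (n * c)⁻¹ = n * f y * n⁻¹ := by rw [← hcs]; group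
    rcases hn.2 with h | h
    · left; rw [e, h]
    · right; rw [e, h, map_mul]
  · intro x hx
    have h1 : f x ∈ (S : Subgroup G) ⊓ NN (f (z 2)) (f (s 2)) (f_zz f) :=
      ⟨P.mem_S x, mem_NN_f ((InD_iff x).1 hx)⟩
    have h2 := hnD (c * f x * c⁻¹) ⟨f x, h1, rfl⟩
    have e : n * c * f x * (n * c)⁻¹ = n * (c * f x * c⁻¹) * n⁻¹ := by group
    rw [e]; exact h2

theorem caseA (P : Pat S f) (h : IsConj (f (z 2)) (f (s 2))) {c : G}
    (hc : c * f (z 2) * c⁻¹ = f (z 2)) (hcs : c * f (s 2) * c⁻¹ = f (a' 2)) : False := by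
  obtain ⟨g, hgz, hgs, hgD⟩ := exists_good P hc hcs S.isPGroup'
    (fun x hx => by
      obtain ⟨x, rfl⟩ := P.exists_of_mem hx
      exact mem_NN_f (a'_conj x))
    (fun R hR hSR _ => (S.is_maximal' hR hSR).le)
  have hex : ∀ x, InD x → ∃ y, f y = g * f x * g⁻¹ := fun x hx => P.exists_of_mem (hgD x hx)
  -- elements with square `z` go into `Q`
  have hsq : ∀ x, InD x → x * x = z 2 → ∃ y, InQ y ∧ f y = g * f x * g⁻¹ := by
    intro x hx hxx
    obtain ⟨y, hy⟩ := hex x hx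
    refine ⟨y, InQ_of_sq y (P.inj ?_), hy⟩
    rw [map_mul, hy]
    calc g * f x * g⁻¹ * (g * f x * g⁻¹) = g * (f x * f x) * g⁻¹ := by group
      _ = f (z 2) := by rw [← map_mul, hxx, hgz]
  have hs : ∃ y, InQ y ∧ f y = g * f (s 2) * g⁻¹ := by
    rcases hgs with h1 | h1
    · exact ⟨a' 2, InQ_a'.1, h1.symm⟩
    · exact ⟨a' 2 * z 2, InQ_a'.2, h1.symm⟩
  have hmul : ∀ x x', (∃ y, InQ y ∧ f y = g * f x * g⁻¹) → (∃ y, InQ y ∧ f y = g * f x' * g⁻¹) →
      ∃ y, InQ y ∧ f y = g * f (x * x') * g⁻¹ := by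
    rintro x x' ⟨y, hy, hy'⟩ ⟨w, hw, hw'⟩
    refine ⟨y * w, InQ_mul y w hy hw, ?_⟩
    rw [map_mul, map_mul, hy', hw']; group
  have hSS : ∀ x : {x : T (2 * 2) // InSS x}, ∃ y : {y : T (2 * 2) // InE y ∧ y ≠ 1 ∧ y ≠ z 2},
      f y = g * f x * g⁻¹ := by
    rintro ⟨x, hx⟩
    have h1 : ∃ y, InQ y ∧ f y = g * f x * g⁻¹ := by
      rcases InSS_eq x hx with ⟨p, hp, hpp, rfl⟩ | ⟨p, q, hp, hpp, hq, hqq, rfl⟩
      · exact hmul _ _ (hsq p hp hpp) hs
      · exact hmul _ _ (hsq p hp hpp) (hmul _ _ (hsq q hq hqq) hs)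
    obtain ⟨y, hy, hy'⟩ := h1
    have hyz : IsConj (f (z 2)) (f y) :=
      (h.trans (Pat.isConj_SS hx)).trans (isConj_conj hy'.symm)
    have hx1 := sq_of_InSS x hx
    have hy1 : y ≠ 1 := by
      rintro rfl
      rw [map_one] at hy'
      have : f x = 1 := by
        have := congrArg (fun k => g⁻¹ * k * g) hy'
        simpa [mul_assoc] using this.symm
      exact f_ne_one P hx1.2 this
    have hyy : y * y = 1 := by
      apply P.inj
      rw [map_mul, hy', map_one]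
      calc g * f x * g⁻¹ * (g * f x * g⁻¹) = g * (f x * f x) * g⁻¹ := by group
        _ = 1 := by rw [← map_mul, hx1.1, map_one]; group
    refine ⟨⟨y, ?_, hy1, ?_⟩, hy'⟩
    · rcases inv_trichotomy y hyy hy1 with h2 | h2 | h2
      · exact h2
      · exact absurd (hyz.trans (P.isConj_TT h2).symm) P.nzt
      · exact absurd hy (not_InQ_of_InSS y h2)
    · rintro rfl
      have h3 : f x = f (z 2) := by
        calc f x = g⁻¹ * (g * f x * g⁻¹) * g := by group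
          _ = g⁻¹ * (g * f (z 2) * g⁻¹) * g := by rw [← hy', hgz]
          _ = f (z 2) := by group
      have h4 := P.inj h3
      subst h4
      exact absurd hx (by decide)
  choose F hF using hSS
  have hinj : Function.Injective F := by
    intro x y hxy
    have h1 : g * f x * g⁻¹ = g * f y * g⁻¹ := by rw [← hF, ← hF, hxy]
    have h2 : f x = f y := by
      calc f x = g⁻¹ * (g * f x * g⁻¹) * g := by group
        _ = g⁻¹ * (g * f y * g⁻¹) * g := by rw [h1]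
        _ = f y := by group
    exact Subtype.ext (P.inj h2)
  have := Fintype.card_le_of_injective F hinj
  rw [card_InSS, card_InE] at this
  omega

theorem card_S (P : Pat S f) : Nat.card (S : Subgroup G) = 64 := by
  rw [← P.range, ← Nat.card_congr (MonoidHom.ofInjective P.inj).toEquiv, card_T]
  norm_num

theorem card_Qs : Nat.card Qs = 32 := by
  have h1 : Nat.card Qs = Nat.card {x : T (2 * 2) // InQ x} :=
    Nat.card_congr (Equiv.subtypeEquivRight fun x => Iff.rfl)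
  rw [h1, Nat.card_eq_fintype_card, card_InQ]

/-- `f Q` is a maximal `2`-subgroup of `N_{C(z)}(⟨t, z⟩)`. -/
theorem maximal_Q (P : Pat S f) {R : Subgroup G} (hR : IsPGroup 2 R) (hQR : Qs.map f ≤ R)
    (hRN : R ≤ NN (f (z 2)) (f (t 2)) (f_zz f)) : R ≤ Qs.map f := by
  by_contra hcon
  -- `|R| ≥ 64`
  have hcQ : Nat.card (Qs.map f) = 32 := by
    rw [← Nat.card_congr (Subgroup.equivMapOfInjective Qs f P.inj).toEquiv, card_Qs]
  have hlt : Nat.card (Qs.map f) < Nat.card R := by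
    refine lt_of_le_of_ne (Nat.card_le_card_of_injective _ (Subgroup.inclusion_injective hQR)) ?_
    intro h
    exact hcon (Subgroup.eq_of_le_of_card_ge hQR h.symm.le).symm.le
  have h64 : 64 ≤ Nat.card R := by
    obtain ⟨k, hk⟩ := Subgroup.card_dvd_of_le hQR
    rw [hcQ] at hlt hk
    rcases k with _ | _ | k
    · omega
    · omega
    · omega
  have hRC : R ≤ Subgroup.centralizer {f (z 2)} := by
    intro r hr
    rw [Subgroup.mem_centralizer_singleton_iff]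
    have := (hRN hr).1
    calc r * f (z 2) = r * f (z 2) * r⁻¹ * r := by group
      _ = f (z 2) * r := by rw [this]
  have hSC : (S : Subgroup G) ≤ Subgroup.centralizer {f (z 2)} := by
    intro x hx
    obtain ⟨x, rfl⟩ := P.exists_of_mem hx
    rw [Subgroup.mem_centralizer_singleton_iff]
    have := conj_f f x (z 2)
    rw [z_central] at this
    calc f x * f (z 2) = f x * f (z 2) * (f x)⁻¹ * f x := by group
      _ = f (z 2) * f x := by rw [this]
  obtain ⟨k, hkC, hk⟩ := exists_conj_le_of_maximal S.isPGroup' hSC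
    (fun R' hR' hSR' _ => (S.is_maximal' hR' hSR').le) hR hRC
  rw [Subgroup.mem_centralizer_singleton_iff] at hkC
  -- `k R k⁻¹ = S`
  have hRS : R.map (MulAut.conj k).toMonoidHom = (S : Subgroup G) := by
    refine Subgroup.eq_of_le_of_card_ge ?_ ?_
    · rintro _ ⟨r, hr, rfl⟩
      exact hk r hr
    · rw [card_S P, ← Nat.card_congr (Subgroup.equivMapOfInjective R _ (MulAut.conj k).injective).toEquiv]
      exact h64
  have htR : f (t 2) ∈ R := hQR ⟨t 2, InQ_t, rfl⟩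
  obtain ⟨τ, hτ⟩ := P.exists_of_mem (hk _ htR)
  have hτ1 : τ * τ = 1 := by
    apply P.inj
    rw [map_mul, hτ, map_one]
    calc k * f (t 2) * k⁻¹ * (k * f (t 2) * k⁻¹) = k * (f (t 2) * f (t 2)) * k⁻¹ := by group
      _ = 1 := by rw [← map_mul, t_sq, map_one]; group
  have hτV : InV τ := by
    refine InV_of_conj τ hτ1 fun y => ?_
    have hy : f y ∈ R.map (MulAut.conj k).toMonoidHom := hRS ▸ P.mem_S y
    obtain ⟨r, hr, hry⟩ := hy
    have hry' : k * r * k⁻¹ = f y := hry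
    have h1 : f y * f τ * (f y)⁻¹ = k * (r * f (t 2) * r⁻¹) * k⁻¹ := by
      rw [hτ, ← hry']; group
    rcases (hRN hr).2 with h2 | h2
    · left
      apply P.inj
      rw [← conj_f, h1, h2, hτ]
    · right
      apply P.inj
      rw [← conj_f, h1, h2, map_mul, hτ]
      calc k * (f (t 2) * f (z 2)) * k⁻¹ = k * f (t 2) * k⁻¹ * (k * f (z 2) * k⁻¹) := by group
        _ = k * f (t 2) * k⁻¹ * f (z 2) := by rw [hkC]; group
  have hτt : IsConj (f (t 2)) (f τ) := isConj_conj hτ.symm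
  by_cases hτ0 : τ = 1
  · rw [hτ0, map_one, isConj_one_left] at hτt
    exact f_ne_one P (x := t 2) (by decide) hτt
  · exact P.nzt ((P.isConj_E (InE_of_InV τ hτV) hτ0).trans hτt.symm)

theorem caseB (P : Pat S f) (h : IsConj (f (t 2)) (f (s 2))) {c : G}
    (hc : c * f (z 2) * c⁻¹ = f (z 2)) (hcs : c * f (s 2) * c⁻¹ = f (t 2)) : False := by
  have hQS : IsPGroup 2 (Qs.map f) := by
    refine S.isPGroup'.to_le ?_
    rintro _ ⟨x, _, rfl⟩
    exact P.mem_S x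
  obtain ⟨g, hgz, -, hgD⟩ := exists_good P hc hcs hQS
    (by rintro _ ⟨x, hx, rfl⟩; exact mem_NN_f (t_conj_Q x hx))
    (fun R hR hQR hRN => maximal_Q P hR hQR hRN)
  have hex : ∀ x, InD x → ∃ y, InQ y ∧ f y = g * f x * g⁻¹ := fun x hx => hgD x hx
  have hback : ∀ {x y : T (2 * 2)}, f y = g * f x * g⁻¹ → f x = g⁻¹ * f y * g := by
    intro x y hxy
    rw [hxy]; group
  obtain ⟨e, heQ, he⟩ := hex (a' 2) InD_a'
  have he1 : e ≠ 1 := by
    rintro rfl
    have := hback he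
    rw [map_one] at this
    exact f_ne_one P a'_ne_one (by rw [this]; group)
  have hez : e ≠ z 2 := by
    rintro rfl
    have := hback he
    have h3 : f (a' 2) = f (z 2) := by
      rw [this]
      calc g⁻¹ * f (z 2) * g = g⁻¹ * (g * f (z 2) * g⁻¹) * g := by rw [hgz]
        _ = f (z 2) := by group
    exact a'_ne_z (P.inj h3)
  have hee : e * e = 1 := by
    apply P.inj
    rw [map_mul, he, map_one]
    calc g * f (a' 2) * g⁻¹ * (g * f (a' 2) * g⁻¹) = g * (f (a' 2) * f (a' 2)) * g⁻¹ := by group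
      _ = 1 := by
        have : a' 2 * a' 2 = (1 : T (2 * 2)) := by decide
        rw [← map_mul, this, map_one]; group
  have hze : IsConj (f (z 2)) (f e) := P.za.trans (isConj_conj he.symm)
  have heE : InE e := by
    rcases inv_trichotomy e hee he1 with h2 | h2 | h2
    · exact h2
    · exact absurd (hze.trans (P.isConj_TT h2).symm) P.nzt
    · exact absurd heQ (not_InQ_of_InSS e h2)
  have hall : ∀ x : {x : T (2 * 2) // InD x ∧ ¬ (InV x ∧ x ≠ 1)},
      ∃ y : {y : T (2 * 2) // InQ y ∧ y * e = e * y ∧ ¬ (InE y ∧ y ≠ 1)}, f y = g * f x * g⁻¹ := by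
    rintro ⟨x, hx, hxV⟩
    obtain ⟨y, hyQ, hy⟩ := hex x hx
    refine ⟨⟨y, hyQ, ?_, ?_⟩, hy⟩
    · apply P.inj
      rw [map_mul, map_mul, hy, he]
      calc g * f x * g⁻¹ * (g * f (a' 2) * g⁻¹) = g * (f x * f (a' 2)) * g⁻¹ := by group
        _ = g * (f (a' 2) * f x) * g⁻¹ := by rw [← map_mul, a'_comm_D x hx, map_mul]
        _ = g * f (a' 2) * g⁻¹ * (g * f x * g⁻¹) := by group
    · rintro ⟨hyE, hy1⟩
      have hzx : IsConj (f (z 2)) (f x) := (P.isConj_E hyE hy1).trans (isConj_conj hy.symm).symm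
      have hx1 : x ≠ 1 := by
        rintro rfl
        rw [map_one] at hy
        exact f_ne_one P hy1 (by rw [hy]; group)
      have hxV' : ¬ InV x := fun h' => hxV ⟨h', hx1⟩
      rcases InD_cases x hx hxV' with h2 | h2
      · apply h2
        apply P.inj
        obtain ⟨k, hk⟩ := isConj_iff.1 hzx
        rw [map_mul, ← hk, map_one]
        calc k * f (z 2) * k⁻¹ * (k * f (z 2) * k⁻¹) = k * (f (z 2) * f (z 2)) * k⁻¹ := by group
          _ = 1 := by rw [f_zz]; group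
      · exact P.nzt (hzx.trans (h.trans (Pat.isConj_SS h2)).symm)
  choose F hF using hall
  have hinj : Function.Injective F := by
    intro x y hxy
    have h1 : g * f x * g⁻¹ = g * f y * g⁻¹ := by rw [← hF, ← hF, hxy]
    have h2 : f x = f y := by
      calc f x = g⁻¹ * (g * f x * g⁻¹) * g := by group
        _ = g⁻¹ * (g * f y * g⁻¹) * g := by rw [h1]
        _ = f y := by group
    exact Subtype.ext (P.inj h2)
  have := Fintype.card_le_of_injective F hinj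
  rw [card_D13, card_Q9 e heE he1 hez] at this
  omega

/-- **(C2)**: `s` is not conjugate in `C(z)` to an element of `Q`. -/
theorem s_not_Q (P : Pat S f)
    (har : ∃ c : G, c * f (z 2) = f (z 2) * c ∧ c * f (a' 2) * c⁻¹ = f (r 2))
    (htu : ∃ c : G, c * f (z 2) = f (z 2) * c ∧ c * f (t 2) * c⁻¹ = f (u 2))
    (htw : ∃ c : G, c * f (z 2) = f (z 2) * c ∧ c * f (t 2) * c⁻¹ = f (w 2)) :
    ∀ c : G, c * f (z 2) = f (z 2) * c → ∀ q, InQ q → c * f (s 2) * c⁻¹ ≠ f q := by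
  intro c hc q hq hcq
  have hc' : c * f (z 2) * c⁻¹ = f (z 2) := by rw [hc]; group
  -- a chain of elements of `C(z)`
  have key : ∀ x y : T (2 * 2), (∃ d : G, d * f (z 2) * d⁻¹ = f (z 2) ∧ d * f x * d⁻¹ = f y) →
      q = y → ∃ d : G, d * f (z 2) * d⁻¹ = f (z 2) ∧ d * f (s 2) * d⁻¹ = f x := by
    rintro x y ⟨d, hd, hdx⟩ rfl
    refine ⟨d⁻¹ * c, ?_, ?_⟩
    · calc d⁻¹ * c * f (z 2) * (d⁻¹ * c)⁻¹ = d⁻¹ * (c * f (z 2) * c⁻¹) * d := by group
        _ = d⁻¹ * (d * f (z 2) * d⁻¹) * d := by rw [hc', hd]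
        _ = f (z 2) := by group
    · calc d⁻¹ * c * f (s 2) * (d⁻¹ * c)⁻¹ = d⁻¹ * (c * f (s 2) * c⁻¹) * d := by group
        _ = d⁻¹ * (d * f x * d⁻¹) * d := by rw [hcq, hdx]
        _ = f x := by group
  have hmodel : ∀ {x : T (2 * 2)}, (∃ g : T (2 * 2), g * x * g⁻¹ = q) →
      ∃ d : G, d * f (z 2) * d⁻¹ = f (z 2) ∧ d * f x * d⁻¹ = f q := by
    rintro x ⟨g, hg⟩
    exact ⟨f g, by rw [conj_f, z_central], by rw [conj_f, hg]⟩
  have htrans : ∀ {x y : T (2 * 2)}, (∃ d : G, d * f (z 2) = f (z 2) * d ∧ d * f x * d⁻¹ = f y) →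
      (∃ d : G, d * f (z 2) * d⁻¹ = f (z 2) ∧ d * f y * d⁻¹ = f q) →
      ∃ d : G, d * f (z 2) * d⁻¹ = f (z 2) ∧ d * f x * d⁻¹ = f q := by
    rintro x y ⟨d, hd, hdx⟩ ⟨e, he, hey⟩
    refine ⟨e * d, ?_, ?_⟩
    · calc e * d * f (z 2) * (e * d)⁻¹ = e * (d * f (z 2) * d⁻¹) * e⁻¹ := by group
        _ = e * (f (z 2) * d * d⁻¹) * e⁻¹ := by rw [hd]
        _ = f (z 2) := by rw [mul_inv_cancel_right, he]
    · calc e * d * f x * (e * d)⁻¹ = e * (d * f x * d⁻¹) * e⁻¹ := by group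
        _ = f q := by rw [hdx, hey]
  have hq1 : q ≠ 1 := by
    rintro rfl
    rw [map_one] at hcq
    refine f_ne_one P (x := s 2) (by decide) ?_
    calc f (s 2) = c⁻¹ * (c * f (s 2) * c⁻¹) * c := by group
      _ = 1 := by rw [hcq]; group
  have hqz : q ≠ z 2 := by
    rintro rfl
    refine s_ne_z (P.inj ?_)
    calc f (s 2) = c⁻¹ * (c * f (s 2) * c⁻¹) * c := by group
      _ = c⁻¹ * (c * f (z 2) * c⁻¹) * c := by rw [hcq, hc']
      _ = f (z 2) := by group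
  have hqq : q * q = 1 := by
    apply P.inj
    rw [map_mul, ← hcq, map_one]
    have : s 2 * s 2 = (1 : T (2 * 2)) := by decide
    calc c * f (s 2) * c⁻¹ * (c * f (s 2) * c⁻¹) = c * (f (s 2) * f (s 2)) * c⁻¹ := by group
      _ = 1 := by rw [← map_mul, this, map_one]; group
  have hsq : IsConj (f (s 2)) (f q) := isConj_conj hcq
  rcases P.sz with hsz | hst
  · -- case (a)
    have hqE : InE q := by
      rcases inv_trichotomy q hqq hq1 with h2 | h2 | h2
      · exact h2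
      · exact absurd ((hsz.trans hsq).trans (P.isConj_TT h2).symm) P.nzt
      · exact absurd hq (not_InQ_of_InSS q h2)
    rcases conj_of_InE q hqE hq1 with h3 | h3 | h3
    · exact hqz h3
    · obtain ⟨d, hd, hds⟩ := key (a' 2) q (hmodel h3) rfl
      exact caseA P hsz hd hds
    · obtain ⟨d, hd, hds⟩ := key (a' 2) q (htrans har (hmodel h3)) rfl
      exact caseA P hsz hd hds
  · -- case (b)
    have hqT : InTT q := by
      rcases inv_trichotomy q hqq hq1 with h2 | h2 | h2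
      · exact absurd ((P.isConj_E h2 hq1).trans (hst.trans hsq).symm) P.nzt
      · exact h2
      · exact absurd hq (not_InQ_of_InSS q h2)
    rcases conj_of_InTT q hqT with h3 | h3 | h3
    · obtain ⟨d, hd, hds⟩ := key (t 2) q (hmodel h3) rfl
      exact caseB P hst hd hds
    · obtain ⟨d, hd, hds⟩ := key (t 2) q (htrans htu (hmodel h3)) rfl
      exact caseB P hst hd hds
    · obtain ⟨d, hd, hds⟩ := key (t 2) q (htrans htw (hmodel h3)) rfl
      exact caseB P hst hd hds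

end main

end Cfsg.Agent.MTwelveType.NotQ
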