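import Cfsg.Agent.MTwelveType.GZero
import Cfsg.Agent.MTwelveType.NotQ
import Cfsg.Agent.MTwelveType.Embedded
import Cfsg.Agent.TwoFusion.IsolatedCenter
import Cfsg.Agent.S0215

/-!
# Groups with Sylow 2-subgroups of type `M₁₂`: the pattern `s ~ t` does not occur (S1741, task T8a)
-/

set_option autoImplicit false

namespace Cfsg.Agent.MTwelveType.CaseB

open Cfsg Subgroup
open Cfsg.Agent.ClassificationK.GTwoModel Cfsg.Agent.ClassificationK.GTwoModel.T
open Cfsg.Agent.MTwelveType.Base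

/-! ### isolated involutions -/

theorem exists_eq_mul_of_isolated {H : Type*} [Group H] [Finite H] (R : Sylow 2 H) (u : H) (hu : orderOf u = 2)
    (huR : u ∈ R) (hiso : ∀ g : H, g * u * g⁻¹ ∈ R → g * u * g⁻¹ = u) (h : H) :
    ∃ o ∈ oddCore H, ∃ c, c * u = u * c ∧ h = o * c := by
  obtain ⟨N, hNn, hNodd, hN⟩ := Cfsg.Agent.S0215.result R u hu huR hiso
  have hNle : N ≤ oddCore H := Cfsg.Agent.Lib.Cores.le_pPrimeCore hNn (Nat.coprime_two_right.mpr hNodd)
  have hu2 : u * u = 1 := by rw [← pow_two, ← hu, pow_orderOf_eq_one]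
  have hA2 : IsPGroup 2 (zpowers u) := IsPGroup.of_card (n := 1) (by rw [Nat.card_zpowers, hu, pow_one])
  obtain ⟨o, ho, c, hc, rfl⟩ := Cfsg.Agent.TwoFusion.IsolatedCenter.exists_eq_mul (zpowers u) hA2 (by
    intro x hx g
    obtain ⟨n, rfl⟩ := mem_zpowers_iff.1 hx
    rcases Int.even_or_odd' n with ⟨k, rfl | rfl⟩
    · have : u ^ (2 * k) = 1 := by rw [zpow_mul, zpow_two, hu2, one_zpow]
      rw [this]
      simp
    · have : u ^ (2 * k + 1) = u := by rw [zpow_add, zpow_mul, zpow_two, hu2, one_zpow, one_mul, zpow_one]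
      rw [this]
      exact hNle (hN g)) h
  refine ⟨o, ho, c, ?_, rfl⟩
  exact (mem_centralizer_iff.1 hc u (mem_zpowers u)).symm

/-! ### facts on the model -/

theorem cen_t_cases : ∀ y : T (2 * 2), InE y → y ≠ 1 → y * t 2 = t 2 * y → (y = z 2 ∨ y = a' 2 ∨ y = b' 2) := by decide

theorem u_b' : u 2 * b' 2 * (u 2)⁻¹ = a' 2 := by decide
theorem u_t : u 2 * t 2 * (u 2)⁻¹ = t 2 := by decide

theorem card_cen_t : Fintype.card {x : T (2 * 2) // x * t 2 = t 2 * x} = 16 := by decide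

theorem z_sq : z 2 * z 2 = (1 : T (2 * 2)) := by decide
theorem z_ne_one : z 2 ≠ (1 : T (2 * 2)) := by decide

/-- the subgroup `E` of the model -/
def Es : Subgroup (T (2 * 2)) where
  carrier := {x | InE x}
  one_mem' := by show InE 1; decide
  mul_mem' := fun {a b} ha hb => GZero.InE_mul a b ha hb
  inv_mem' := by
    intro x hx
    have : ∀ x : T (2 * 2), InE x → InE x⁻¹ := by decide
    exact this x hx

theorem mem_Es {x : T (2 * 2)} : x ∈ Es ↔ InE x := Iff.rfl

/-! ### main argument -/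

section

variable {G : Type*} [Group G] [Finite G] {S : Sylow 2 G} {f : T (2 * 2) →* G}

/-- in pattern (b), the z-types of the model are the elements of `E` -/
theorem InE_of_isConj (P : Pat S f) (hts : IsConj (f (t 2)) (f (s 2))) {y : T (2 * 2)} {x : G}
    (h : IsConj (f (z 2)) x) (hy : f y = x) : InE y ∧ y ≠ 1 := by
  subst hy
  have hord : orderOf (f y) = 2 := by
    obtain ⟨c, hc⟩ := isConj_iff.1 h
    rw [← hc, Embedded.orderOf_conj', orderOf_injective f P.inj]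
    exact orderOf_eq_prime (by decide) (by decide)
  rw [orderOf_injective f P.inj] at hord
  have h2 : y * y = 1 := (pow_two y).symm.trans (orderOf_dvd_iff_pow_eq_one.1 hord.dvd)
  have h1 : y ≠ 1 := fun h1 => by rw [h1, orderOf_one] at hord; omega
  refine ⟨?_, h1⟩
  rcases inv_trichotomy y h2 h1 with h3 | h3 | h3
  · exact h3
  · exact absurd (h.trans (P.isConj_TT h3).symm) P.nzt
  · exact absurd (h.trans (hts.trans (Pat.isConj_SS h3)).symm) P.nzt

/-- `z` is isolated in `C_S(t)` with respect to `C(t)` -/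
theorem isolated (P : Pat S f) (hts : IsConj (f (t 2)) (f (s 2))) (k : G) (hk : k * f (t 2) * k⁻¹ = f (t 2))
    (y : T (2 * 2)) (hy : y * t 2 = t 2 * y) (hky : k * f (z 2) * k⁻¹ = f y) : y = z 2 := by
  obtain ⟨g₀, hg₀, -, hg⟩ := GZero.exists_g0 P
  have hnzs : ¬ IsConj (f (z 2)) (f (s 2)) := fun h => P.nzt (h.trans hts.symm)
  rcases hg with ⟨h, -⟩ | ⟨-, -, q, hq, hgq⟩
  · exact absurd h hnzs
  -- `a'` is not conjugate to `z` in `C(t)`
  have key : ∀ k : G, k * f (t 2) * k⁻¹ = f (t 2) → k * f (z 2) * k⁻¹ ≠ f (a' 2) := by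
    intro k hkt hkz
    obtain ⟨x, hx⟩ := conj_of_InSS q hq
    have e1 : (g₀ * k) * f (z 2) * (g₀ * k)⁻¹ = f (z 2) := by
      calc (g₀ * k) * f (z 2) * (g₀ * k)⁻¹ = g₀ * (k * f (z 2) * k⁻¹) * g₀⁻¹ := by group
        _ = f (z 2) := by rw [hkz, hg₀]
    have e2 : (g₀ * k) * f (t 2) * (g₀ * k)⁻¹ = f x * f (s 2) * (f x)⁻¹ := by
      calc (g₀ * k) * f (t 2) * (g₀ * k)⁻¹ = g₀ * (k * f (t 2) * k⁻¹) * g₀⁻¹ := by group
        _ = f x * f (s 2) * (f x)⁻¹ := by rw [hkt, hgq, ← hx, map_mul, map_mul, map_inv]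
    refine NotQ.s_not_Q P (Fusion.exists_ar P) (Fusion.exists_tu P) (Fusion.exists_tw P) ((g₀ * k)⁻¹ * f x) ?_ (t 2)
      NotQ.InQ_t ?_
    · have e3 : f x * f (z 2) = f (z 2) * f x := by rw [← map_mul, ← map_mul, Fusion.z_comm]
      have e4 : (g₀ * k)⁻¹ * f (z 2) = f (z 2) * (g₀ * k)⁻¹ := by
        calc (g₀ * k)⁻¹ * f (z 2) = (g₀ * k)⁻¹ * ((g₀ * k) * f (z 2) * (g₀ * k)⁻¹) := by rw [e1]
          _ = _ := by group
      rw [mul_assoc, e3, ← mul_assoc, e4, mul_assoc]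
    · calc (g₀ * k)⁻¹ * f x * f (s 2) * ((g₀ * k)⁻¹ * f x)⁻¹
          = (g₀ * k)⁻¹ * (f x * f (s 2) * (f x)⁻¹) * (g₀ * k) := by group
        _ = (g₀ * k)⁻¹ * ((g₀ * k) * f (t 2) * (g₀ * k)⁻¹) * (g₀ * k) := by rw [e2]
        _ = f (t 2) := by group
  obtain ⟨hE, hy1⟩ := InE_of_isConj P hts (isConj_iff.2 ⟨k, hky⟩) rfl
  rcases cen_t_cases y hE hy1 hy with h | rfl | rfl
  · exact h
  · exact absurd hky (key k hk)
  · exfalso
    refine key (f (u 2) * k) ?_ ?_
    · calc f (u 2) * k * f (t 2) * (f (u 2) * k)⁻¹ = f (u 2) * (k * f (t 2) * k⁻¹) * (f (u 2))⁻¹ := by group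
        _ = f (t 2) := by rw [hk, ← map_inv, ← map_mul, ← map_mul, u_t]
    · calc f (u 2) * k * f (z 2) * (f (u 2) * k)⁻¹ = f (u 2) * (k * f (z 2) * k⁻¹) * (f (u 2))⁻¹ := by group
        _ = f (a' 2) := by rw [hky, ← map_inv, ← map_mul, ← map_mul, u_b']

/-- `C(t) = O(C(t)) (C(t) ∩ C(z))` -/
theorem exists_eq_mul_t (P : Pat S f) (hts : IsConj (f (t 2)) (f (s 2))) (h : G)
    (hh : h ∈ centralizer {f (t 2)}) :
    ∃ o ∈ centralizerPPrimeCore 2 (f (t 2)), ∃ c ∈ centralizer {f (z 2)}, c ∈ centralizer {f (t 2)} ∧ h = o * c := by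
  set H : Subgroup G := centralizer {f (t 2)} with hH
  set R : Subgroup G := (centralizer {t 2}).map f with hR
  have hRH : R ≤ H := by
    rintro _ ⟨y, hy, rfl⟩
    rw [SetLike.mem_coe, mem_centralizer_singleton_iff] at hy
    rw [hH, mem_centralizer_singleton_iff, ← map_mul, ← map_mul, hy]
  have hRp : IsPGroup 2 R := S.isPGroup'.to_le (by
    rw [← P.range, MonoidHom.range_eq_map]; exact map_mono le_top)
  have hRcard : Nat.card R = 16 := by
    rw [← Nat.card_congr (equivMapOfInjective (centralizer {t 2}) f P.inj).toEquiv, ← card_cen_t,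
      ← Nat.card_eq_fintype_card]
    refine Nat.card_congr (Equiv.subtypeEquivRight fun x => ?_)
    rw [mem_centralizer_singleton_iff]
  obtain ⟨R', hR'⟩ := (hRp.comap_subtype (K := H)).exists_le_sylow
  have hR'eq : (R' : Subgroup H) = R.subgroupOf H := by
    symm
    apply Subgroup.eq_of_le_of_card_ge hR'
    have h1 : Nat.card ↥((R' : Subgroup H).map H.subtype) ≤ 16 :=
      Fusion.card_le_of_cen_t P _ (R'.isPGroup'.map _) (map_subtype_le _)
    rw [Nat.card_congr (equivMapOfInjective (R' : Subgroup H) H.subtype H.subtype_injective).toEquiv.symm] at h1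
    have h2 : Nat.card (R.subgroupOf H) = 16 := by
      rw [Nat.card_congr (subgroupOfEquivOfLe hRH).toEquiv, hRcard]
    rw [← h2] at h1
    exact h1
  have hzH : f (z 2) ∈ H := by
    rw [hH, mem_centralizer_singleton_iff, ← map_mul, ← map_mul, Fusion.z_comm]
  have hz2 : orderOf (⟨f (z 2), hzH⟩ : H) = 2 := by
    rw [Subgroup.orderOf_mk, orderOf_injective f P.inj]
    exact orderOf_eq_prime (by decide) (by decide)
  obtain ⟨o, ho, c, hc, hoc⟩ := exists_eq_mul_of_isolated R' ⟨f (z 2), hzH⟩ hz2 (by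
    show _ ∈ (R' : Subgroup H)
    rw [hR'eq, mem_subgroupOf]
    exact ⟨z 2, by rw [SetLike.mem_coe, mem_centralizer_singleton_iff, Fusion.z_comm], rfl⟩) (by
    intro k hk
    change _ ∈ (R' : Subgroup H) at hk
    rw [hR'eq, mem_subgroupOf] at hk
    obtain ⟨y, hy, hyk⟩ := hk
    rw [SetLike.mem_coe, mem_centralizer_singleton_iff] at hy
    have hkt : (k : G) * f (t 2) * (k : G)⁻¹ = f (t 2) := by
      rw [mem_centralizer_singleton_iff.1 k.2, mul_inv_cancel_right]
    have h1 : (k : G) * f (z 2) * (k : G)⁻¹ = f y := hyk.symm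
    have h2 := isolated P hts k hkt y hy h1
    apply Subtype.ext
    show (k : G) * f (z 2) * (k : G)⁻¹ = f (z 2)
    rw [h1, h2]) ⟨h, hh⟩
  refine ⟨o, ⟨o, ho, rfl⟩, c, ?_, c.2, congrArg Subtype.val hoc⟩
  rw [mem_centralizer_singleton_iff]
  exact congrArg Subtype.val hc

theorem false_of_isConj_ts [IsSimpleGroup G] (P : Pat S f) (hts : IsConj (f (t 2)) (f (s 2))) (W : Subgroup G)
    (hW : Odd (Nat.card W))
    (hWC : ∀ x, InE x → x ≠ 1 → W ⊓ centralizer {f x} = centralizerPPrimeCore 2 (f x))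
    (hWn : ∀ x, InE x → x ≠ 1 → centralizer {f x} ≤ normalizer (W : Set G))
    (hWV : ∀ g, (∀ x, InV x → ∃ y, InV y ∧ g * f x * g⁻¹ = f y) → g ∈ normalizer (W : Set G))
    (hSW : (S : Subgroup G) ≤ normalizer (W : Set G)) (hWt : centralizerPPrimeCore 2 (f (t 2)) ≤ W)
    (hQ : ∀ c ∈ centralizer {f (z 2)}, ∀ q, InQ q → ∃ q', InQ q' ∧
      ∃ o ∈ centralizerPPrimeCore 2 (f (z 2)), c * f q * c⁻¹ = f q' * o) : False := by
  obtain ⟨g₀, hg₀, hg₀V, hg⟩ := GZero.exists_g0 P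
  have hnzs : ¬ IsConj (f (z 2)) (f (s 2)) := fun h => P.nzt (h.trans hts.symm)
  rcases hg with ⟨h, -⟩ | ⟨-, hg₀E, q, hq, hgq⟩
  · exact absurd h hnzs
  have hsg : ∀ M : Subgroup G, (S : Subgroup G) ≤ M → g₀ ∈ M →
      (∃ m ∈ M, m * f (z 2) * m⁻¹ = f (s 2)) ∨ ∃ m ∈ M, m * f (t 2) * m⁻¹ = f (s 2) := by
    intro M hSM hgM
    obtain ⟨x, hx⟩ := conj_of_InSS q hq
    refine Or.inr ⟨(f x)⁻¹ * g₀, M.mul_mem (M.inv_mem (hSM (P.mem_S x))) hgM, ?_⟩
    calc (f x)⁻¹ * g₀ * f (t 2) * ((f x)⁻¹ * g₀)⁻¹ = (f x)⁻¹ * (g₀ * f (t 2) * g₀⁻¹) * f x := by group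
      _ = (f x)⁻¹ * (f x * f (s 2) * (f x)⁻¹) * f x := by rw [hgq, ← hx, map_mul, map_mul, map_inv]
      _ = f (s 2) := by group
  have hEz : InE (z 2) := by decide
  by_cases hM : normalizer (W : Set G) = ⊤
  · -- `W = 1`
    have hWnorm : W.Normal := normalizer_eq_top_iff.1 hM
    have hWbot : W = ⊥ := by
      rcases hWnorm.eq_bot_or_eq_top with h | h
      · exact h
      · exfalso
        have h1 : orderOf (f (z 2)) = 2 := by
          rw [orderOf_injective f P.inj]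
          exact orderOf_eq_prime (by decide) (by decide)
        have h2 : 2 ∣ Nat.card W := by
          rw [h, card_top, ← h1]
          exact orderOf_dvd_natCard _
        exact (Nat.not_odd_iff_even.2 (even_iff_two_dvd.2 h2)) hW
    have hOz : centralizerPPrimeCore 2 (f (z 2)) = ⊥ := by
      rw [← hWC _ hEz z_ne_one, hWbot, bot_inf_eq]
    have hOt : centralizerPPrimeCore 2 (f (t 2)) = ⊥ := by
      rw [eq_bot_iff, ← hWbot]; exact hWt
    set M : Subgroup G := normalizer ((Es.map f : Subgroup G) : Set G) with hMdef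
    have hmem : ∀ g : G, (∀ x, InE x → ∃ y, InE y ∧ g * f x * g⁻¹ = f y) → g ∈ M := by
      intro g hg
      rw [hMdef]
      apply mem_normalizer_fintype
      rintro _ ⟨x, hx, rfl⟩
      obtain ⟨y, hy, h⟩ := hg x hx
      exact ⟨y, hy, h.symm⟩
    have hzM : centralizer {f (z 2)} ≤ M := by
      intro c hc
      refine hmem c fun x hx => ?_
      by_cases hx1 : x = 1
      · exact ⟨1, by decide, by rw [hx1, map_one]; group⟩
      · obtain ⟨q', hq', o, ho, h⟩ := hQ c hc x (InQ_of_InE x hx)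
        rw [hOz, mem_bot] at ho
        rw [ho, mul_one] at h
        have h1 : IsConj (f (z 2)) (f q') := (P.isConj_E hx hx1).trans (isConj_iff.2 ⟨c, h⟩)
        exact ⟨q', (InE_of_isConj P hts h1 rfl).1, h⟩
    have hSM : (S : Subgroup G) ≤ M := by
      refine le_trans ?_ hzM
      rw [← P.range]
      rintro _ ⟨x, rfl⟩
      exact Embedded.mem_cen_z P x
    have htM : centralizer {f (t 2)} ≤ M := by
      intro h hh
      obtain ⟨o, ho, c, hc, -, rfl⟩ := exists_eq_mul_t P hts h hh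
      rw [hOt, mem_bot] at ho
      rw [ho, one_mul]
      exact hzM hc
    have hgM : g₀ ∈ M := hmem g₀ hg₀E
    refine Embedded.false_of_embedded P M ?_ hSM hzM htM g₀ hgM hg₀ (hsg M hSM hgM)
    intro htop
    have hn : (Es.map f : Subgroup G).Normal := normalizer_eq_top_iff.1 htop
    rcases hn.eq_bot_or_eq_top with h | h
    · have h1 : f (z 2) ∈ (⊥ : Subgroup G) := by
        rw [← h]; exact ⟨z 2, hEz, rfl⟩
      rw [mem_bot, ← map_one f] at h1
      exact z_ne_one (P.inj h1)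
    · have h1 : f (s 2) ∈ Es.map f := by rw [h]; exact mem_top _
      obtain ⟨x, hx, hxs⟩ := h1
      have h2 := P.inj hxs
      subst h2
      have : ¬ InE (s 2) := by decide
      exact this hx
  · -- `M = N(W)`
    have hgM : g₀ ∈ normalizer (W : Set G) := hWV g₀ hg₀V
    have hzM := hWn _ hEz z_ne_one
    refine Embedded.false_of_embedded P _ hM hSW hzM ?_ g₀ hgM hg₀ (hsg _ hSW hgM)
    intro h hh
    obtain ⟨o, ho, c, hc, -, rfl⟩ := exists_eq_mul_t P hts h hh
    exact mul_mem (le_normalizer (hWt ho)) (hzM hc)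

end

end Cfsg.Agent.MTwelveType.CaseB
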