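import Mathlib
import Cfsg.Prelude.Def_Involutions
import Cfsg.Prelude.Def_CaseTheorems
import Cfsg.Agent.SignalizersComponents.SFTwo
import Cfsg.Agent.S0205
import Cfsg.Agent.Lib.Cores
import Cfsg.Agent.TwoFusion.StronglyEmbeddedBasic

/-!
# Elementary abelian Sylow 2-subgroups with 2-nilpotent involution centralizers

`Y` finite, `V` a Sylow 2-subgroup which is elementary abelian of order at least 8, all `C_Y(v)`,
`1 ≠ v ∈ V`, 2-nilpotent and at least two classes of involutions: then `V O(Y)` is normal in `Y`.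
-/

set_option autoImplicit false

namespace Cfsg.Agent.MTwelveType.AbelSylow

open Subgroup

universe u

variable {Y : Type u} [Group Y] [Finite Y]

/-- An involution of a subgroup `M` containing the Sylow 2-subgroup `V` is conjugate in `M` into
`V`. -/
theorem exists_conj_mem (V : Sylow 2 Y) {M : Subgroup Y} (hVM : (V : Subgroup Y) ≤ M) {t : Y}
    (ht : t ∈ M) (h2 : orderOf t = 2) : ∃ m ∈ M, m * t * m⁻¹ ∈ V := by
  set P : Sylow 2 M := V.subtype hVM with hP
  have hz : IsPGroup 2 (zpowers (⟨t, ht⟩ : M)) := by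
    rw [IsPGroup.iff_card]
    exact ⟨1, by rw [Nat.card_zpowers, Subgroup.orderOf_mk, h2, pow_one]⟩
  obtain ⟨Q, hQ⟩ := hz.exists_le_sylow
  obtain ⟨m, hm⟩ := MulAction.exists_smul_eq M Q P
  refine ⟨m, m.2, ?_⟩
  have h1 : (⟨t, ht⟩ : M) ∈ Q := hQ (mem_zpowers _)
  have h3 : m * ⟨t, ht⟩ * m⁻¹ ∈ (m • Q : Sylow 2 M) := by
    rw [← SetLike.mem_coe, Sylow.coe_smul] 
    exact Set.mem_smul_set.mpr ⟨⟨t, ht⟩, h1, rfl⟩
  rw [hm] at h3
  exact h3

/-- A subgroup containing `N(V)` and the centralizers of the involutions of the abelian Sylow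
2-subgroup `V` is everything or is strongly embedded; the latter is impossible if there are two
classes of involutions. -/
theorem eq_top_of_le (V : Sylow 2 Y) (hcomm : ∀ a ∈ V, ∀ b ∈ V, a * b = b * a)
    (hV : (V : Subgroup Y) ≠ ⊥) {M : Subgroup Y}
    (hN : normalizer ((V : Subgroup Y) : Set Y) ≤ M)
    (hC : ∀ v ∈ V, v ≠ 1 → centralizer {v} ≤ M)
    (h2 : ∃ x y : Y, orderOf x = 2 ∧ orderOf y = 2 ∧ ¬ IsConj x y) : M = ⊤ := by
  by_contra hne
  have hVM : (V : Subgroup Y) ≤ M := le_normalizer.trans hN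
  have hVc : IsMulCommutative (V : Subgroup Y) := ⟨⟨fun a b => Subtype.ext (hcomm a a.2 b b.2)⟩⟩
  have hSE : Cfsg.IsStronglyEmbedded M := by
    refine ⟨hne, ?_, ?_⟩
    · have h3 : Nat.card (V : Subgroup Y) ∣ Nat.card M := card_dvd_of_le hVM
      obtain ⟨n, hn⟩ := V.isPGroup'.exists_card_eq
      have hn0 : n ≠ 0 := by
        rintro rfl
        rw [pow_zero, card_eq_one] at hn
        exact hV hn
      rw [even_iff_two_dvd]
      refine dvd_trans ?_ h3
      rw [hn]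
      exact dvd_pow_self 2 hn0
    · intro g hg
      by_contra hodd
      rw [Nat.not_odd_iff_even, even_iff_two_dvd] at hodd
      obtain ⟨⟨t, ht⟩, ht2⟩ := exists_prime_orderOf_dvd_card' 2 hodd
      rw [Subgroup.orderOf_mk] at ht2
      obtain ⟨htM, s, hs, hst⟩ := ht
      have hst' : g * s * g⁻¹ = t := hst
      have hs2 : orderOf s = 2 := by
        rw [← ht2, ← hst', TwoFusion.StronglyEmbeddedBasic.orderOf_conj]
      obtain ⟨m₁, hm₁, h1⟩ := exists_conj_mem V hVM htM ht2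
      obtain ⟨m₂, hm₂, h3⟩ := exists_conj_mem V hVM hs hs2
      -- `v = y u y⁻¹`
      set y : Y := m₁ * g * m₂⁻¹ with hy
      have hv : y * (m₂ * s * m₂⁻¹) * y⁻¹ = m₁ * t * m₁⁻¹ := by
        rw [hy, ← hst']; group
      obtain ⟨n, hn, hn'⟩ := Sylow.conj_eq_normalizer_conj_of_mem V (m₂ * s * m₂⁻¹) y⁻¹ h3
        (by rw [inv_inv, hv]; exact h1)
      rw [inv_inv] at hn'
      have hne1 : m₂ * s * m₂⁻¹ ≠ 1 := by
        intro h
        have : orderOf (m₂ * s * m₂⁻¹) = 2 := by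
          rw [TwoFusion.StronglyEmbeddedBasic.orderOf_conj]; exact hs2
        rw [h, orderOf_one] at this
        omega
      have hc : n * y ∈ centralizer {m₂ * s * m₂⁻¹} := by
        rw [mem_centralizer_singleton_iff]
        have h5 : n * (y * (m₂ * s * m₂⁻¹) * y⁻¹) * n⁻¹ = m₂ * s * m₂⁻¹ := by
          rw [hn']; group
        calc n * y * (m₂ * s * m₂⁻¹)
            = (n * (y * (m₂ * s * m₂⁻¹) * y⁻¹) * n⁻¹) * (n * y) := by group
          _ = (m₂ * s * m₂⁻¹) * (n * y) := by rw [h5]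
      have hyM : y ∈ M := by
        have h6 := M.mul_mem (M.inv_mem (hN hn)) (hC _ h3 hne1 hc)
        simpa using h6
      apply hg
      have h7 := M.mul_mem (M.mul_mem (M.inv_mem hm₁) hyM) hm₂
      have h8 : m₁⁻¹ * y * m₂ = g := by rw [hy]; group
      rwa [h8] at h7
  obtain ⟨a, b, ha, hb, hab⟩ := h2
  exact hab (TwoFusion.StronglyEmbeddedBasic.isConj_of_involutions hSE a b ha hb)

omit [Finite Y] in
/-- An element of odd order of `N ⊔ V` lies in `N` if `V` normalizes `N` and has exponent 2. -/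
theorem mem_of_odd {N V : Subgroup Y} (hVN : V ≤ normalizer (N : Set Y))
    (hexp : ∀ a ∈ V, a * a = 1) {x : Y} (hx : x ∈ N ⊔ V) (ho : Odd (orderOf x)) : x ∈ N := by
  rw [← SetLike.mem_coe, Subgroup.coe_mul_of_right_le_normalizer_left N V hVN, Set.mem_mul] at hx
  obtain ⟨n, hn, s, hs, rfl⟩ := hx
  have key : ∀ k : ℕ, (n * s) ^ k * (s ^ k)⁻¹ ∈ N := by
    intro k
    induction k with
    | zero => simp
    | succ k ih =>
      have h1 : (n * s) ^ (k + 1) * (s ^ (k + 1))⁻¹ =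
          n * (s * ((n * s) ^ k * (s ^ k)⁻¹) * s⁻¹) := by
        rw [pow_succ' (n * s), pow_succ' s]; group
      rw [h1]
      exact N.mul_mem hn ((mem_normalizer_iff.mp (hVN hs) _).mp ih)
  have h2 := key (orderOf (n * s))
  rw [pow_orderOf_eq_one, one_mul] at h2
  obtain ⟨k, hk⟩ := ho
  have hs2 := hexp s hs
  have h3 : s ^ orderOf (n * s) = s := by
    rw [hk, pow_add, pow_mul, pow_two, hs2, one_pow, one_mul, pow_one]
  rw [h3] at h2
  exact N.mul_mem hn (by simpa using N.inv_mem h2)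

/-- **Theorem B.** -/
theorem sup_oddCore_normal (V : Sylow 2 Y) (hexp : ∀ a ∈ V, a * a = 1) (hrank : 8 ≤ Nat.card V)
    (hcen : ∀ v ∈ V, v ≠ 1 → ∃ N : Subgroup Y, N ≤ Subgroup.centralizer {v} ∧
      Odd (Nat.card N) ∧ (∀ c ∈ Subgroup.centralizer {v}, ∀ n ∈ N, c * n * c⁻¹ ∈ N) ∧
      Subgroup.centralizer {v} ≤ N ⊔ V)
    (h2 : ∃ x y : Y, orderOf x = 2 ∧ orderOf y = 2 ∧ ¬ IsConj x y) :
    ((V : Subgroup Y) ⊔ Cfsg.oddCore Y).Normal := by
  classical
  have hcomm : ∀ a ∈ V, ∀ b ∈ V, a * b = b * a := by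
    intro a ha b hb
    have h1 := hexp a ha
    have h2 := hexp b hb
    have h3 := hexp (a * b) (V.mul_mem ha hb)
    have ha' : a⁻¹ = a := inv_eq_of_mul_eq_one_right h1
    have hb' : b⁻¹ = b := inv_eq_of_mul_eq_one_right h2
    have hab : (a * b)⁻¹ = a * b := inv_eq_of_mul_eq_one_right h3
    rw [← hab, mul_inv_rev, ha', hb']
  have hVbot : (V : Subgroup Y) ≠ ⊥ := by
    intro h
    have : Nat.card V = 1 := by
      have h3 : Nat.card (V : Subgroup Y) = 1 := by rw [h]; exact Subgroup.card_bot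
      exact h3
    omega
  choose! θ hθC hθodd hθn hθle using hcen
  have hVC : ∀ v ∈ V, (V : Subgroup Y) ≤ centralizer {v} := by
    intro v hv a ha
    rw [mem_centralizer_singleton_iff]
    exact hcomm a ha v hv
  have hVn : ∀ v ∈ V, v ≠ 1 → (V : Subgroup Y) ≤ normalizer ((θ v : Subgroup Y) : Set Y) := by
    intro v hv hv1 a ha
    rw [mem_normalizer_iff]
    intro x
    refine ⟨hθn v hv hv1 a (hVC v hv ha) x, fun hx => ?_⟩
    have h3 := hθn v hv hv1 a⁻¹ ((centralizer {v}).inv_mem (hVC v hv ha)) _ hx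
    have h4 : a⁻¹ * (a * x * a⁻¹) * a⁻¹⁻¹ = x := by group
    rwa [h4] at h3
  -- characterization of `θ v`
  have hmem : ∀ v ∈ V, v ≠ 1 → ∀ x : Y, x ∈ θ v ↔ x ∈ centralizer {v} ∧ Odd (orderOf x) := by
    intro v hv hv1 x
    constructor
    · intro hx
      refine ⟨hθC v hv hv1 hx, ?_⟩
      exact (hθodd v hv hv1).of_dvd_nat ((θ v).orderOf_dvd_natCard hx)
    · rintro ⟨hx, ho⟩
      exact mem_of_odd (hVn v hv hv1) (fun a ha => hexp a ha) (hθle v hv hv1 hx) ho
  have hθ2 : ∀ v ∈ V, v ≠ 1 → ¬ 2 ∣ Nat.card (θ v) := by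
    intro v hv hv1
    rw [← even_iff_two_dvd, Nat.not_even_iff_odd]
    exact hθodd v hv hv1
  obtain ⟨hW2, -⟩ := Cfsg.Agent.SignalizersComponents.SFTwo.result (V : Subgroup Y) hcomm
    (fun a ha => by rw [pow_two]; exact hexp a ha) (by norm_num; exact hrank) θ hθC hθ2
    (fun a ha ha1 b hb x hx => hθn a ha ha1 b (hVC a ha hb) x hx)
    (fun a ha ha1 => S0205.result (hθodd a ha ha1))
    (fun a ha ha1 b hb hb1 x hx => (hmem b hb hb1 x).mpr ⟨hx.2, ((hmem a ha ha1 x).mp hx.1).2⟩)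
  set W : Subgroup Y := ⨆ a : {a : Y // a ∈ (V : Subgroup Y) ∧ a ≠ 1}, θ a with hW
  have hθW : ∀ v ∈ V, v ≠ 1 → θ v ≤ W := fun v hv hv1 =>
    le_iSup (fun a : {a : Y // a ∈ (V : Subgroup Y) ∧ a ≠ 1} => θ a) ⟨v, hv, hv1⟩
  -- `N(V)` normalizes `W`
  have hconj : ∀ n ∈ normalizer ((V : Subgroup Y) : Set Y), W.map (MulAut.conj n).toMonoidHom ≤ W := by
    intro n hn
    rw [hW, Subgroup.map_iSup]
    refine iSup_le ?_
    rintro ⟨v, hv, hv1⟩
    have hv' : n * v * n⁻¹ ∈ V := (mem_normalizer_iff.mp hn v).mp hv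
    have hv1' : n * v * n⁻¹ ≠ 1 := by
      intro h
      apply hv1
      have h3 : v = n⁻¹ * (n * v * n⁻¹) * n := by group
      rw [h3, h]; group
    refine le_trans ?_ (hθW _ hv' hv1')
    rintro _ ⟨x, hx, rfl⟩
    have hx' := (hmem v hv hv1 x).mp hx
    rw [hmem _ hv' hv1']
    refine ⟨?_, ?_⟩
    · rw [mem_centralizer_singleton_iff]
      have h4 := mem_centralizer_singleton_iff.mp hx'.1
      show n * x * n⁻¹ * (n * v * n⁻¹) = n * v * n⁻¹ * (n * x * n⁻¹)
      calc n * x * n⁻¹ * (n * v * n⁻¹) = n * (x * v) * n⁻¹ := by group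
        _ = n * (v * x) * n⁻¹ := by rw [h4]
        _ = n * v * n⁻¹ * (n * x * n⁻¹) := by group
    · have h4 : orderOf (n * x * n⁻¹) = orderOf x :=
        TwoFusion.StronglyEmbeddedBasic.orderOf_conj n x
      show Odd (orderOf (n * x * n⁻¹))
      rw [h4]; exact hx'.2
  have hNW : normalizer ((V : Subgroup Y) : Set Y) ≤ normalizer (W : Set Y) := by
    intro n hn
    rw [mem_normalizer_iff]
    intro x
    constructor
    · intro hx
      exact hconj n hn ⟨x, hx, rfl⟩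
    · intro hx
      have h3 := hconj n⁻¹ ((normalizer ((V : Subgroup Y) : Set Y)).inv_mem hn) ⟨_, hx, rfl⟩
      have h4 : (MulAut.conj n⁻¹).toMonoidHom (n * x * n⁻¹) = x := by
        show n⁻¹ * (n * x * n⁻¹) * n⁻¹⁻¹ = x
        group
      rwa [h4] at h3
  have hCW : ∀ v ∈ V, v ≠ 1 → centralizer {v} ≤ normalizer (W : Set Y) := by
    intro v hv hv1
    refine (hθle v hv hv1).trans (sup_le ((hθW v hv hv1).trans le_normalizer) ?_)
    exact le_normalizer.trans hNW
  have hWtop := eq_top_of_le V hcomm hVbot hNW hCW h2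
  have hWn : W.Normal := normalizer_eq_top_iff.mp hWtop
  have hWO : W ≤ Cfsg.oddCore Y := by
    refine Lib.Cores.le_pPrimeCore hWn ?_
    rw [Nat.coprime_comm, Nat.Prime.coprime_iff_not_dvd Nat.prime_two]
    exact hW2
  have hOn : (Cfsg.oddCore Y).Normal := Lib.Cores.pPrimeCore_normal 2
  have htop := eq_top_of_le V hcomm hVbot
    (M := normalizer ((V : Subgroup Y) : Set Y) ⊔ Cfsg.oddCore Y) le_sup_left (by
      intro v hv hv1
      refine (hθle v hv hv1).trans (sup_le ?_ ?_)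
      · exact ((hθW v hv hv1).trans hWO).trans le_sup_right
      · exact le_normalizer.trans le_sup_left) h2
  rw [← normalizer_eq_top_iff, eq_top_iff, ← htop]
  refine sup_le ?_ (le_sup_right.trans le_normalizer)
  intro n hn
  rw [mem_normalizer_iff]
  have hmap : ∀ n ∈ normalizer ((V : Subgroup Y) : Set Y), ∀ x ∈ (V : Subgroup Y) ⊔ Cfsg.oddCore Y,
      n * x * n⁻¹ ∈ (V : Subgroup Y) ⊔ Cfsg.oddCore Y := by
    intro n hn x hx
    obtain ⟨a, ha, b, hb, rfl⟩ := mem_sup_of_normal_right.mp hx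
    have h3 : n * (a * b) * n⁻¹ = (n * a * n⁻¹) * (n * b * n⁻¹) := by group
    rw [h3]
    refine mul_mem (mem_sup_left ((mem_normalizer_iff.mp hn a).mp ha))
      (mem_sup_right (hOn.conj_mem b hb n))
  intro x
  refine ⟨hmap n hn x, fun hx => ?_⟩
  have h3 := hmap n⁻¹ ((normalizer ((V : Subgroup Y) : Set Y)).inv_mem hn) _ hx
  have h4 : n⁻¹ * (n * x * n⁻¹) * n⁻¹⁻¹ = x := by group
  rwa [h4] at h3

end Cfsg.Agent.MTwelveType.AbelSylow
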