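import Cfsg.Agent.MTwelveType.CentCore
import Cfsg.Agent.TwoFusion.IsolatedCenter

/-!
Passing to the quotient by the core.
-/

set_option autoImplicit false

open Subgroup
open Cfsg.Agent.ClassificationK.GTwoModel
open Cfsg.Agent.ClassificationK.GTwoModel.T
open Cfsg.Agent.MTwelveType.CentModel
open Cfsg.Agent.MTwelveType.Lift
open Cfsg.Agent.MTwelveType.CentCore

namespace Cfsg.Agent.MTwelveType.CentQuot

universe u

/-- a normal subgroup of odd order meets a Sylow 2-subgroup trivially -/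
theorem eq_one_of_mem {C : Type*} [Group C] [Finite C] (S : Sylow 2 C) (N : Subgroup C)
    (hN : Odd (Nat.card N)) {x : C} (hx : x ∈ (S : Subgroup C)) (hxN : x ∈ N) : x = 1 := by
  have h1 : orderOf x ∣ Nat.card N := by
    have h3 := orderOf_dvd_natCard (⟨x, hxN⟩ : N)
    rwa [← Subgroup.orderOf_coe] at h3
  obtain ⟨k, hk⟩ := (IsPGroup.iff_orderOf.1 S.isPGroup') ⟨x, hx⟩
  rw [← Subgroup.orderOf_coe] at hk
  change orderOf x = 2 ^ k at hk
  have h2 : orderOf x = 1 := by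
    rw [hk] at h1 ⊢
    rcases Nat.eq_zero_or_pos k with h0 | h0
    · rw [h0, pow_zero]
    · exfalso
      have h4 : 2 ∣ Nat.card N := (dvd_pow_self 2 h0.ne').trans h1
      exact (Nat.not_even_iff_odd.2 hN) (even_iff_two_dvd.2 h4)
  exact orderOf_eq_one_iff.1 h2

/-- fusion in a Sylow 2-subgroup is not changed modulo a normal subgroup of odd order -/
theorem isConj_of_mk {C : Type*} [Group C] [Finite C] (S : Sylow 2 C) (N : Subgroup C) [N.Normal]
    (hN : Odd (Nat.card N)) {x y : C} (hx : x ∈ (S : Subgroup C)) (hy : y ∈ (S : Subgroup C))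
    (h : IsConj (QuotientGroup.mk' N x) (QuotientGroup.mk' N y)) : IsConj x y := by
  obtain ⟨g, hg⟩ := isConj_iff.1 h
  obtain ⟨g, rfl⟩ := QuotientGroup.mk'_surjective N g
  rw [← map_mul, ← map_inv, ← map_mul, QuotientGroup.mk'_apply, QuotientGroup.mk'_apply,
    eq_comm, QuotientGroup.eq] at hg
  obtain ⟨k, hk⟩ := S.isPGroup' ⟨x, hx⟩
  have hk' : x ^ 2 ^ k = 1 := congrArg Subtype.val hk
  have h1 : g * x * g⁻¹ ∈ (S : Subgroup C) ⊔ N := by
    have h2 : g * x * g⁻¹ = y * (y⁻¹ * (g * x * g⁻¹)) := by group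
    rw [h2]
    exact mul_mem (mem_sup_left hy) (mem_sup_right hg)
  obtain ⟨n, hn, hnS⟩ := Cfsg.Agent.TwoFusion.IsolatedCenter.exists_conj_mem S N (g * x * g⁻¹)
    ⟨k, by rw [conj_pow, hk', mul_one, mul_inv_cancel]⟩ h1
  refine isConj_iff.2 ⟨n * g, ?_⟩
  have h3 : n * (g * x * g⁻¹) * n⁻¹ * y⁻¹ ∈ N := by
    have h4 : n * (g * x * g⁻¹) * n⁻¹ * y⁻¹ =
        n * (y * ((y⁻¹ * (g * x * g⁻¹)) * n⁻¹) * y⁻¹) := by group
    rw [h4]
    exact N.mul_mem hn ((inferInstance : N.Normal).conj_mem _ (N.mul_mem hg (N.inv_mem hn)) y)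
  have h5 := eq_one_of_mem S N hN (mul_mem hnS (inv_mem hy)) h3
  rw [mul_inv_eq_one] at h5
  rw [← h5]
  group

section

variable {C : Type u} [Group C] [Finite C] {S : Sylow 2 C} {f : T (2 * 2) →* C}

theorem odd_card_oddCore : Odd (Nat.card (Cfsg.oddCore C)) := by
  have h := Cfsg.Agent.Lib.Cores.pPrimeCore_coprime (G := C) 2
  exact Nat.coprime_two_right.1 h

/-- the situation passes to the quotient by the core -/
theorem quot (h : CSet S f) :
    CSet (S.mapSurjective (QuotientGroup.mk'_surjective (Cfsg.oddCore C)))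
      ((QuotientGroup.mk' (Cfsg.oddCore C)).comp f) := by
  have hmem : ∀ x, f x ∈ (S : Subgroup C) := by
    intro x
    rw [← h.range]
    exact ⟨x, rfl⟩
  have hback : ∀ x y, IsConj ((QuotientGroup.mk' (Cfsg.oddCore C)).comp f x)
      ((QuotientGroup.mk' (Cfsg.oddCore C)).comp f y) → IsConj (f x) (f y) := fun x y hxy =>
    isConj_of_mk S (Cfsg.oddCore C) odd_card_oddCore (hmem x) (hmem y) hxy
  have hinj : Function.Injective ((QuotientGroup.mk' (Cfsg.oddCore C)).comp f) := by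
    rw [injective_iff_map_eq_one]
    intro x hx
    rw [MonoidHom.comp_apply, QuotientGroup.mk'_apply, QuotientGroup.eq_one_iff] at hx
    have h1 := eq_one_of_mem S _ odd_card_oddCore (hmem x) hx
    exact h.inj (by rw [h1, map_one])
  refine ⟨hinj, ?_, ?_, ?_, ?_, ?_, ?_, ?_⟩
  · rw [MonoidHom.range_comp, h.range]
    rfl
  · rw [mem_center_iff]
    intro g
    obtain ⟨g, rfl⟩ := QuotientGroup.mk'_surjective _ g
    rw [MonoidHom.comp_apply, ← map_mul, mem_center_iff.1 h.cen g, map_mul]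
  · intro y hy hc
    exact h.hs y hy (hback _ _ hc)
  · exact (QuotientGroup.mk' (Cfsg.oddCore C)).map_isConj h.htu
  · exact (QuotientGroup.mk' (Cfsg.oddCore C)).map_isConj h.htw
  · exact (QuotientGroup.mk' (Cfsg.oddCore C)).map_isConj h.har
  · intro x hx y hy hc
    exact h.hE x hx y hy (hback _ _ hc)

theorem oddCore_quot : Cfsg.oddCore (C ⧸ Cfsg.oddCore C) = ⊥ :=
  Cfsg.Agent.Lib.Cores.pPrimeCore_quotient_pPrimeCore 2

theorem Q_normal_mod (hB : ThmB.{u}) (h : CSet S f) (c : C) (q : T (2 * 2)) (hq : q ∈ Q) :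
    ∃ q' ∈ Q, ∃ o ∈ Cfsg.oddCore C, c * f q * c⁻¹ = f q' * o := by
  have h1 := (quot h).Q_normal hB oddCore_quot
  obtain ⟨q', hq', he⟩ := h1.conj_mem _ ⟨q, hq, rfl⟩ (QuotientGroup.mk' _ c)
  refine ⟨q', hq', (f q')⁻¹ * (c * f q * c⁻¹), ?_, by group⟩
  rw [MonoidHom.comp_apply, MonoidHom.comp_apply, ← map_mul, ← map_inv, ← map_mul,
    QuotientGroup.mk'_apply, QuotientGroup.mk'_apply, QuotientGroup.eq] at he
  exact he

theorem card_mod (hB : ThmB.{u}) (h : CSet S f) :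
    Nat.card C = 192 * Nat.card (Cfsg.oddCore C) := by
  have h1 := (quot h).Q_normal hB oddCore_quot
  have h2 := (quot h).card oddCore_quot h1
  rw [Subgroup.card_eq_card_quotient_mul_card_subgroup (Cfsg.oddCore C), h2]

theorem fpf_mod (hB : ThmB.{u}) (h : CSet S f) (x : C) (hx : Odd (orderOf x))
    {v : T (2 * 2)} (hv : v ∈ Q) (hv1 : v ≠ 1) (hvz : v ≠ z 2)
    (hxv : x * f v * x⁻¹ * (f v)⁻¹ ∈ Cfsg.oddCore C ∨
      x * f v * x⁻¹ * (f (v * z 2))⁻¹ ∈ Cfsg.oddCore C) : x ∈ Cfsg.oddCore C := by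
  have h1 := (quot h).Q_normal hB oddCore_quot
  have h2 := (quot h).fpf oddCore_quot h1 (QuotientGroup.mk' _ x)
    (Odd.of_dvd_nat hx (orderOf_map_dvd _ x)) hv hv1 hvz ?_
  · rwa [QuotientGroup.mk'_apply, QuotientGroup.eq_one_iff] at h2
  · rcases hxv with h3 | h3
    · left
      rw [← QuotientGroup.eq_one_iff, ← QuotientGroup.mk'_apply, map_mul, map_inv,
        mul_inv_eq_one] at h3
      rw [MonoidHom.comp_apply, ← map_mul, ← map_inv, ← map_mul]
      exact h3
    · right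
      rw [← QuotientGroup.eq_one_iff, ← QuotientGroup.mk'_apply, map_mul, map_inv,
        mul_inv_eq_one] at h3
      rw [MonoidHom.comp_apply, ← map_mul, ← map_inv, ← map_mul]
      exact h3

end

end Cfsg.Agent.MTwelveType.CentQuot
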