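import Cfsg.Agent.MTwelveType.Base

/-!
# Groups with Sylow 2-subgroups of type `M₁₂`: fusion (S1741, task T5)

* `exists_pat`: a finite simple group with Sylow 2-subgroup of type `M₁₂` and at least two classes of involutions has one
  of the two fusion patterns;
* `exists_ar`, `exists_tu`, `exists_tw`: fusion in `C(z)`;
* `card_le_of_cen_t`: 2-subgroups of `C(t)` have order at most 16.
-/

set_option autoImplicit false

namespace Cfsg.Agent.MTwelveType.Fusion

open Cfsg.Agent.ClassificationK.GTwoModel Cfsg.Agent.ClassificationK.GTwoModel.T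
open Cfsg.Agent.ClassificationK.SylowConj Cfsg.Agent.ClassificationK.GTwoFusion
open Cfsg.Agent.ClassificationK.GTwoFusionB Cfsg.Agent.MTwelveType.Base

variable {G : Type*} [Group G]

/-! ### facts on the model -/

theorem z_comm (x : T (2 * 2)) : z 2 * x = x * z 2 := z_central x

set_option maxRecDepth 100000 in
theorem comm_diag : ∀ p q : T (2 * 2), p.i = p.j → q.i = q.j → p * q * p⁻¹ * q⁻¹ ≠ 1 →
    p * q * p⁻¹ * q⁻¹ = z 2 := by decide

set_option maxRecDepth 100000 in
theorem comm_antidiag : ∀ p q : T (2 * 2), p.i = -p.j → q.i = -q.j → p * q * p⁻¹ * q⁻¹ ≠ 1 →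
    p * q * p⁻¹ * q⁻¹ = z 2 := by decide

theorem comm_a'_u : a' 2 * u 2 * (a' 2)⁻¹ * (u 2)⁻¹ = z 2 := by decide

set_option maxRecDepth 100000 in
theorem inv_diag : ∀ p : T (2 * 2), p.i = p.j → p * p = 1 → p ≠ 1 → p ≠ z 2 →
    (InTT p ∨ ∃ g, g * p * g⁻¹ = r 2) := by decide

set_option maxRecDepth 100000 in
theorem exists_conj_r : ∀ p : T (2 * 2), InE p → ¬ InV p → ∃ g, g * p * g⁻¹ = r 2 := by decide

/-! ### moving elements -/

section move

variable [Finite G] {S : Sylow 2 G} {f : T (2 * 2) →* G}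

/-- moving `x` to the central involution `z`, and `C_S(x)` into `S` -/
theorem exists_move_z (hr : f.range = (S : Subgroup G)) {x : T (2 * 2)}
    (h : IsConj (f x) (f (z 2))) :
    ∃ g, g * f x * g⁻¹ = f (z 2) ∧ ∀ c, c * x = x * c → ∃ p, f p = g * f c * g⁻¹ := by
  have hS : (S : Subgroup G) ≤ Subgroup.centralizer {f (z 2)} := by
    rw [← hr]
    rintro _ ⟨y, rfl⟩
    rw [Subgroup.mem_centralizer_singleton_iff, ← map_mul, ← map_mul, z_comm]
  have hQ : IsPGroup 2 ((Subgroup.centralizer {x}).map f) :=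
    S.isPGroup'.to_le (by rw [← hr, MonoidHom.range_eq_map]; exact Subgroup.map_mono le_top)
  obtain ⟨g, hg, hgS⟩ := exists_conj_of_central S h hS ((Subgroup.centralizer {x}).map f) hQ (by
    rintro _ ⟨y, hy, rfl⟩
    rw [SetLike.mem_coe, Subgroup.mem_centralizer_singleton_iff] at hy
    rw [Subgroup.mem_centralizer_singleton_iff, ← map_mul, ← map_mul, hy])
  refine ⟨g, hg, fun c hc => ?_⟩
  have h1 := hgS (f c) ⟨c, by rw [SetLike.mem_coe, Subgroup.mem_centralizer_singleton_iff]; exact hc, rfl⟩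
  rw [← hr] at h1
  exact h1

theorem hmax_of_card {y : T (2 * 2)} (hf : Function.Injective f) (hr : f.range = (S : Subgroup G)) (n : ℕ)
    (hn : ∀ R : Subgroup G, IsPGroup 2 R → R ≤ Subgroup.centralizer {f y} → Nat.card R ≤ n)
    (hy : n ≤ Nat.card (Subgroup.centralizer {y})) (R : Subgroup G) (hR : IsPGroup 2 R)
    (hRy : R ≤ Subgroup.centralizer {f y}) :
    Nat.card R ≤ Nat.card ↥((S : Subgroup G) ⊓ Subgroup.centralizer {f y}) := by
  refine ((hn R hR hRy).trans hy).trans ?_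
  refine Nat.card_le_card_of_injective
    (fun x : Subgroup.centralizer {y} => (⟨f x, ?_, ?_⟩ : ↥((S : Subgroup G) ⊓ Subgroup.centralizer {f y}))) ?_
  · rw [← hr]; exact ⟨_, rfl⟩
  · have := x.2
    rw [Subgroup.mem_centralizer_singleton_iff] at this
    change f x ∈ Subgroup.centralizer {f y}
    rw [Subgroup.mem_centralizer_singleton_iff, ← map_mul, ← map_mul, this]
  · intro x x' h
    exact Subtype.ext (hf (Subtype.mk.inj h))

/-- moving `x` to `y`, where `C_S(y)` is a Sylow 2-subgroup of `C(y)`, and `C_S(x)` into `C_S(y)` -/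
theorem exists_move (hr : f.range = (S : Subgroup G)) (hf : Function.Injective f) {x y : T (2 * 2)}
    (h : IsConj (f x) (f y))
    (hmax : ∀ R : Subgroup G, IsPGroup 2 R → R ≤ Subgroup.centralizer {f y} →
      Nat.card R ≤ Nat.card ↥((S : Subgroup G) ⊓ Subgroup.centralizer {f y})) :
    ∃ g, g * f x * g⁻¹ = f y ∧ ∀ c, c * x = x * c → ∃ p, f p = g * f c * g⁻¹ ∧ p * y = y * p := by
  have hQ : IsPGroup 2 ((Subgroup.centralizer {x}).map f) :=
    S.isPGroup'.to_le (by rw [← hr, MonoidHom.range_eq_map]; exact Subgroup.map_mono le_top)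
  obtain ⟨g, hg, hgS⟩ := exists_conj_centralizer (S : Subgroup G) S.isPGroup' h hmax
    ((Subgroup.centralizer {x}).map f) hQ (by
    rintro _ ⟨c, hc, rfl⟩
    rw [SetLike.mem_coe, Subgroup.mem_centralizer_singleton_iff] at hc
    rw [Subgroup.mem_centralizer_singleton_iff, ← map_mul, ← map_mul, hc])
  refine ⟨g, hg, fun c hc => ?_⟩
  have h1 := hgS (f c) ⟨c, by rw [SetLike.mem_coe, Subgroup.mem_centralizer_singleton_iff]; exact hc, rfl⟩
  rw [← hr] at h1
  obtain ⟨p, hp⟩ := h1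
  refine ⟨p, hp, hf ?_⟩
  rw [map_mul, map_mul, hp, ← hg]
  calc g * f c * g⁻¹ * (g * f x * g⁻¹) = g * (f c * f x) * g⁻¹ := by group
    _ = g * (f x * f c) * g⁻¹ := by rw [← map_mul, hc, map_mul]
    _ = _ := by group

omit [Finite G] in
theorem conj_inj_of {g a b : G} (h : g * a * g⁻¹ = g * b * g⁻¹) : a = b := by
  simpa using h

/-- the element moving `t` to `u` centralizes `z` and moves `a'` to a conjugate of `r` -/
theorem move_tu (hf : Function.Injective f) (hr : f.range = (S : Subgroup G))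
    (hza : IsConj (f (z 2)) (f (a' 2))) (huz : ¬ IsConj (f (u 2)) (f (z 2)))
    (hut : IsConj (f (u 2)) (f (t 2))) (huw : IsConj (f (u 2)) (f (w 2))) :
    ∃ g, g * f (t 2) * g⁻¹ = f (u 2) ∧ g * f (z 2) * g⁻¹ = f (z 2) ∧
      ∃ k, k * (g * f (a' 2) * g⁻¹) * k⁻¹ = f (r 2) ∧ k * f (z 2) * k⁻¹ = f (z 2) := by
  obtain ⟨g, hg, hgS⟩ := exists_move hr hf hut.symm (hmax_u (l := 2) le_rfl S f hf hr hza huz)
  obtain ⟨p, hp, hpu⟩ := hgS (a' 2) (by decide)
  obtain ⟨q, hq, hqu⟩ := hgS (u 2) (by decide)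
  have hpd : p.i = p.j := (mem_cen_u p).1 (Subgroup.mem_centralizer_singleton_iff.2 hpu)
  have hqd : q.i = q.j := (mem_cen_u q).1 (Subgroup.mem_centralizer_singleton_iff.2 hqu)
  have hc : f (p * q * p⁻¹ * q⁻¹) = g * f (z 2) * g⁻¹ := by
    rw [← comm_a'_u]
    simp only [map_mul, map_inv, hp, hq]
    group
  have hgz : g * f (z 2) * g⁻¹ = f (z 2) := by
    rw [← hc, comm_diag p q hpd hqd]
    intro h
    rw [h, map_one] at hc
    have h2 : f (z 2) = 1 := by
      have h3 : g * f (z 2) * g⁻¹ = g * 1 * g⁻¹ := by rw [← hc]; group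
      exact conj_inj_of h3
    exact absurd (hf (h2.trans (map_one f).symm)) (by decide)
  have hpp := sq_of_conj f hf hp a'_sq
  have hp1 := ne_one_of_conj f hf hp a'_ne_one
  have hpz : p ≠ z 2 := by
    rintro rfl
    have h3 : g * f (z 2) * g⁻¹ = g * f (a' 2) * g⁻¹ := by rw [hgz, hp]
    exact absurd (hf (conj_inj_of h3)) (by decide)
  have hzp : IsConj (f (z 2)) (f p) := hza.trans (isConj_iff.2 ⟨g, hp.symm⟩)
  refine ⟨g, hg, hgz, ?_⟩
  rcases inv_diag p hpd hpp hp1 hpz with h | ⟨k, hk⟩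
  · exfalso
    apply huz
    rcases conj_of_InTT p h with ⟨k, hk⟩ | ⟨k, hk⟩ | ⟨k, hk⟩
    · exact (hut.trans (f.map_isConj (isConj_iff.2 ⟨k, hk⟩))).trans hzp.symm
    · exact (f.map_isConj (isConj_iff.2 ⟨k, hk⟩)).trans hzp.symm
    · exact (huw.trans (f.map_isConj (isConj_iff.2 ⟨k, hk⟩))).trans hzp.symm
  · refine ⟨f k, ?_, ?_⟩
    · rw [← hp, ← map_inv, ← map_mul, ← map_mul, hk]
    · rw [← map_inv, ← map_mul, ← map_mul, ← z_comm, mul_inv_cancel_right]

theorem card_cen_w2 : Nat.card (Subgroup.centralizer {w 2}) = 16 := card_cen_w (l := 2)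

/-- the element moving `t` to `w` centralizes `z` -/
theorem move_tw (hf : Function.Injective f) (hr : f.range = (S : Subgroup G))
    (hza : IsConj (f (z 2)) (f (a' 2))) (huz : ¬ IsConj (f (u 2)) (f (z 2)))
    (hut : IsConj (f (u 2)) (f (t 2))) (huw : IsConj (f (u 2)) (f (w 2))) :
    ∃ g, g * f (t 2) * g⁻¹ = f (w 2) ∧ g * f (z 2) * g⁻¹ = f (z 2) := by
  have hn : ∀ R : Subgroup G, IsPGroup 2 R → R ≤ Subgroup.centralizer {f (w 2)} → Nat.card R ≤ 16 := by
    intro R hR hRw
    obtain ⟨k, hk⟩ := isConj_iff.1 huw.symm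
    have h1 : Nat.card ↥(R.map (MulAut.conj k).toMonoidHom) ≤ 8 * 2 := by
      refine card_le_of_centralizing (l := 2) le_rfl S f hf hr hza huz _ (hR.map _) ?_
      rintro _ ⟨x, hx, rfl⟩
      have h2 := hRw hx
      rw [Subgroup.mem_centralizer_singleton_iff] at h2 ⊢
      rw [← hk]
      simp only [MulEquiv.coe_toMonoidHom, MulAut.conj_apply]
      calc k * x * k⁻¹ * (k * f (w 2) * k⁻¹) = k * (x * f (w 2)) * k⁻¹ := by group
        _ = k * (f (w 2) * x) * k⁻¹ := by rw [h2]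
        _ = _ := by group
    rwa [Nat.card_congr (Subgroup.equivMapOfInjective R (MulAut.conj k).toMonoidHom
      (MulAut.conj k).injective).toEquiv.symm] at h1
  obtain ⟨g, hg, hgS⟩ := exists_move hr hf (hut.symm.trans huw)
    (hmax_of_card hf hr 16 hn card_cen_w2.ge)
  obtain ⟨p, hp, hpu⟩ := hgS (a' 2) (by decide)
  obtain ⟨q, hq, hqu⟩ := hgS (u 2) (by decide)
  have hpd : p.i = -p.j := (mem_cen_w p).1 (Subgroup.mem_centralizer_singleton_iff.2 hpu)
  have hqd : q.i = -q.j := (mem_cen_w q).1 (Subgroup.mem_centralizer_singleton_iff.2 hqu)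
  have hc : f (p * q * p⁻¹ * q⁻¹) = g * f (z 2) * g⁻¹ := by
    rw [← comm_a'_u]
    simp only [map_mul, map_inv, hp, hq]
    group
  refine ⟨g, hg, ?_⟩
  rw [← hc, comm_antidiag p q hpd hqd]
  intro h
  rw [h, map_one] at hc
  have h2 : f (z 2) = 1 := by
    have h3 : g * f (z 2) * g⁻¹ = g * 1 * g⁻¹ := by rw [← hc]; group
    exact conj_inj_of h3
  exact absurd (hf (h2.trans (map_one f).symm)) (by decide)

end move

section pat

variable [Finite G] {S : Sylow 2 G} {f : T (2 * 2) →* G}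

theorem uz (P : Pat S f) : ¬ IsConj (f (u 2)) (f (z 2)) := fun h => P.nzt (P.tu.trans h).symm

theorem card_le_of_cen_t (P : Pat S f) (R : Subgroup G) (hR : IsPGroup 2 R)
    (hRt : R ≤ Subgroup.centralizer {f (t 2)}) : Nat.card R ≤ 16 := by
  obtain ⟨k, hk⟩ := isConj_iff.1 P.tu
  have h1 : Nat.card ↥(R.map (MulAut.conj k).toMonoidHom) ≤ 8 * 2 := by
    refine card_le_of_centralizing (l := 2) le_rfl S f P.inj P.range P.za (uz P) _ (hR.map _) ?_
    rintro _ ⟨x, hx, rfl⟩
    have h2 := hRt hx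
    rw [Subgroup.mem_centralizer_singleton_iff] at h2 ⊢
    rw [← hk]
    simp only [MulEquiv.coe_toMonoidHom, MulAut.conj_apply]
    calc k * x * k⁻¹ * (k * f (t 2) * k⁻¹) = k * (x * f (t 2)) * k⁻¹ := by group
      _ = k * (f (t 2) * x) * k⁻¹ := by rw [h2]
      _ = _ := by group
  rwa [Nat.card_congr (Subgroup.equivMapOfInjective R (MulAut.conj k).toMonoidHom
      (MulAut.conj k).injective).toEquiv.symm] at h1

theorem exists_tu (P : Pat S f) :
    ∃ c, c * f (z 2) = f (z 2) * c ∧ c * f (t 2) * c⁻¹ = f (u 2) := by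
  obtain ⟨g, hg, hgz, -⟩ := move_tu P.inj P.range P.za (uz P) P.tu.symm (P.tu.symm.trans P.tw)
  exact ⟨g, by rw [mul_inv_eq_iff_eq_mul] at hgz; exact hgz, hg⟩

theorem exists_tw (P : Pat S f) :
    ∃ c, c * f (z 2) = f (z 2) * c ∧ c * f (t 2) * c⁻¹ = f (w 2) := by
  obtain ⟨g, hg, hgz⟩ := move_tw P.inj P.range P.za (uz P) P.tu.symm (P.tu.symm.trans P.tw)
  exact ⟨g, by rw [mul_inv_eq_iff_eq_mul] at hgz; exact hgz, hg⟩

theorem exists_ar (P : Pat S f) :
    ∃ c, c * f (z 2) = f (z 2) * c ∧ c * f (a' 2) * c⁻¹ = f (r 2) := by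
  obtain ⟨g, hg, hgz, k, hk, hkz⟩ := move_tu P.inj P.range P.za (uz P) P.tu.symm (P.tu.symm.trans P.tw)
  refine ⟨k * g, ?_, ?_⟩
  · rw [mul_inv_eq_iff_eq_mul] at hgz hkz
    rw [mul_assoc, hgz, ← mul_assoc, hkz, mul_assoc]
  · rw [← hk]; group

end pat

/-- the two fusion patterns -/
theorem exists_pat [Finite G] [IsSimpleGroup G] (S : Sylow 2 G) (e : T (2 * 2) ≃* ↥(S : Subgroup G))
    (h2 : ∃ x y : G, orderOf x = 2 ∧ orderOf y = 2 ∧ ¬ IsConj x y) : ∃ f : T (2 * 2) →* G, Pat S f := by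
  set f : T (2 * 2) →* G := (S : Subgroup G).subtype.comp e.toMonoidHom with hf'
  have hf : Function.Injective f := (Subgroup.subtype_injective _).comp e.injective
  have hr : f.range = (S : Subgroup G) := by
    rw [hf', MonoidHom.range_comp, MonoidHom.range_eq_top.2 e.surjective, ← MonoidHom.range_eq_map,
      Subgroup.range_subtype]
  have hcard : Nat.card ↥(S : Subgroup G) = 64 := by
    rw [Nat.card_congr e.symm.toEquiv, card_T]
    norm_num
  have hGcard : 64 ≤ Nat.card G := by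
    rw [← hcard]
    exact Subgroup.card_le_card_group _
  have hG : commutator G = ⊤ := by
    have hc : (commutator G).Normal := inferInstance
    rcases hc.eq_bot_or_eq_top with h | h
    · exfalso
      have h1 : (u 2 : T (2 * 2)) * s 2 = s 2 * u 2 := by
        apply hf
        rw [map_mul, map_mul]
        have h2 : f (u 2) * f (s 2) * (f (u 2))⁻¹ * (f (s 2))⁻¹ ∈ commutator G :=
          Subgroup.commutator_mem_commutator (Subgroup.mem_top _) (Subgroup.mem_top _)
        rw [h, Subgroup.mem_bot] at h2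
        rw [mul_inv_eq_one, mul_inv_eq_iff_eq_mul] at h2
        exact h2
      exact absurd h1 (by decide)
    · exact h
  have hG2 : ∀ M : Subgroup G, M.Normal → M.index ≠ 2 := by
    intro M hM hM2
    rcases hM.eq_bot_or_eq_top with h | h
    · rw [h, Subgroup.index_bot] at hM2
      omega
    · rw [h, Subgroup.index_top] at hM2
      omega
  have hinv : ∀ x : G, orderOf x = 2 → ∃ y : T (2 * 2), y * y = 1 ∧ y ≠ 1 ∧ IsConj x (f y) := by
    intro x hx
    have hxp : IsPGroup 2 (Subgroup.zpowers x) :=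
      IsPGroup.of_card (n := 1) (by rw [Nat.card_zpowers, hx, pow_one])
    obtain ⟨P, hP⟩ := hxp.exists_le_sylow
    obtain ⟨g, hg⟩ := MulAction.exists_smul_eq G P S
    have h1 : g * x * g⁻¹ ∈ (S : Subgroup G) := by
      rw [← hg, Sylow.coe_subgroup_smul]
      exact ⟨x, hP (Subgroup.mem_zpowers x), rfl⟩
    rw [← hr] at h1
    obtain ⟨y, hy⟩ := h1
    have hx2 : x * x = 1 := by rw [← pow_two, ← hx, pow_orderOf_eq_one]
    refine ⟨y, ?_, ?_, isConj_iff.2 ⟨g, hy.symm⟩⟩
    · apply hf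
      rw [map_mul, map_one, hy]
      calc g * x * g⁻¹ * (g * x * g⁻¹) = g * (x * x) * g⁻¹ := by group
        _ = 1 := by rw [hx2]; group
    · rintro rfl
      rw [map_one] at hy
      have hx1 : x = 1 := by
        calc x = g⁻¹ * (g * x * g⁻¹) * g := by group
          _ = 1 := by rw [← hy]; group
      rw [hx1, orderOf_one] at hx
      omega
  have hl : par 2 ((2 : ℕ) : ZMod (2 * 2)) = 0 := by
    rw [par_natCast, ZMod.natCast_eq_zero_iff]
  have hza := z_conj_a' hl S f hf hr hG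
  obtain ⟨h1, h3, h4⟩ := caseI S f hf hr hG2 hza
  have huz : ¬ IsConj (f (u 2)) (f (z 2)) := by
    intro huz
    obtain ⟨x, y, hx, hy, hxy⟩ := h2
    obtain ⟨x', hx1, hx2, hx3⟩ := hinv x hx
    obtain ⟨y', hy1, hy2, hy3⟩ := hinv y hy
    apply hxy
    have h5 : ∀ y, y * y = 1 → y ≠ 1 → IsConj (f y) (f (z 2)) := by
      intro y hy hy1
      rcases h1 y hy hy1 with h | h
      · exact h
      · exact h.trans huz
    exact (hx3.trans (h5 x' hx1 hx2)).trans (hy3.trans (h5 y' hy1 hy2)).symm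
  have huw := h3.resolve_left huz
  have main : ∀ f' : T (2 * 2) →* G, Function.Injective f' → f'.range = (S : Subgroup G) →
      IsConj (f' (z 2)) (f' (a' 2)) → ¬ IsConj (f' (u 2)) (f' (z 2)) → IsConj (f' (u 2)) (f' (t 2)) →
      IsConj (f' (u 2)) (f' (w 2)) → (IsConj (f' (s 2)) (f' (z 2)) ∨ IsConj (f' (s 2)) (f' (u 2))) → Pat S f' := by
    intro f' h1 h2 h3 h4 h5 h6 h7
    obtain ⟨g, hg, hgz, k, hk, hkz⟩ := move_tu h1 h2 h3 h4 h5 h6
    refine ⟨h1, h2, h3, ?_, h5.symm, h5.symm.trans h6, fun h => h4 (h5.trans h.symm), ?_⟩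
    · refine h3.trans (isConj_iff.2 ⟨k * g, ?_⟩)
      rw [← hk]; group
    · rcases h7 with h | h
      · exact Or.inl h.symm
      · exact Or.inr (h.trans h5).symm
  rcases h4.resolve_left huz with hut | hur
  · exact ⟨f, main f hf hr hza huz hut huw (h1 _ s_sq (by decide))⟩
  · have hstau : IsConj (tau 2 (s 2)) (s 2) := isConj_iff.2 (by decide)
    have hwtau : IsConj (tau 2 (w 2)) (w 2) := isConj_iff.2 (by decide)
    have hzt : tau 2 (z 2) = z 2 := by decide
    have hat : tau 2 (a' 2) = a' 2 := by decide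
    have hutau : tau 2 (u 2) = u 2 := by decide
    have httau : tau 2 (t 2) = r 2 := by decide
    refine ⟨f.comp (tau 2), main _ (hf.comp tau_inj) ?_ ?_ ?_ ?_ ?_ ?_⟩
    · rw [MonoidHom.range_comp, MonoidHom.range_eq_top.2 tau_surj, ← MonoidHom.range_eq_map, hr]
    · simp only [MonoidHom.comp_apply, hzt, hat]; exact hza
    · simp only [MonoidHom.comp_apply, hzt, hutau]; exact huz
    · simp only [MonoidHom.comp_apply, hutau, httau]; exact hur
    · simp only [MonoidHom.comp_apply, hutau]; exact huw.trans (f.map_isConj hwtau).symm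
    · simp only [MonoidHom.comp_apply, hutau, hzt]
      rcases h1 _ s_sq (by decide) with h | h
      · exact Or.inl ((f.map_isConj hstau).trans h)
      · exact Or.inr ((f.map_isConj hstau).trans h)

end Cfsg.Agent.MTwelveType.Fusion
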