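import Cfsg.Agent.MTwelveType.Base
import Cfsg.Agent.MTwelveType.Fusion
import Cfsg.Agent.MTwelveType.NotQ
import Cfsg.Agent.MTwelveType.AbelSylow
import Cfsg.Agent.MTwelveType.CentQuot

/-!
# Groups with Sylow 2-subgroups of type `M₁₂`: the centralizer of a 2-central involution (S1741, task T6)

`C = C(z)`: `Q O(C)` is normal in `C`, `|C : O(C)| = 192`, elements of odd order outside `O(C)` act fixed point freely
on `Q/⟨z⟩` modulo `O(C)`.
-/

set_option autoImplicit false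

namespace Cfsg.Agent.MTwelveType.CentZ

open Cfsg.Agent.ClassificationK.GTwoModel Cfsg.Agent.ClassificationK.GTwoModel.T
open Cfsg.Agent.MTwelveType.Base
open Cfsg.Agent.MTwelveType.CentCore (CSet)

universe u

theorem mem_Q_iff : ∀ x : T (2 * 2), x ∈ CentModel.Q ↔ InQ x := by decide +kernel
theorem mem_E_iff : ∀ x : T (2 * 2), x ∈ CentModel.E ↔ InE x := by decide +kernel
theorem E_or_TT : ∀ x : T (2 * 2), InQ x → x * x = 1 → x ≠ 1 → InE x ∨ InTT x := by decide +kernel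

theorem thmB : Lift.ThmB.{u} := by
  intro Y _ _ V h1 h2 h3 h4
  exact AbelSylow.sup_oddCore_normal V h1 h2 h3 h4

variable {G : Type u} [Group G] [Finite G] {S : Sylow 2 G} {f : T (2 * 2) →* G}

theorem range_le (_P : Pat S f) (x : T (2 * 2)) : f x ∈ Subgroup.centralizer {f (z 2)} := by
  rw [Subgroup.mem_centralizer_singleton_iff, ← map_mul, ← map_mul, Fusion.z_comm]

theorem S_le (P : Pat S f) : (S : Subgroup G) ≤ Subgroup.centralizer {f (z 2)} := by
  rw [← P.range]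
  rintro _ ⟨x, rfl⟩
  exact range_le P x

/-- the situation in `C(z)` -/
theorem cset (P : Pat S f) :
    CSet (S.subtype (S_le P)) (f.codRestrict (Subgroup.centralizer {f (z 2)}) (range_le P)) := by
  have hconj : ∀ x y : T (2 * 2), (∃ c, c * f (z 2) = f (z 2) * c ∧ c * f x * c⁻¹ = f y) →
      IsConj (f.codRestrict (Subgroup.centralizer {f (z 2)}) (range_le P) x)
        (f.codRestrict (Subgroup.centralizer {f (z 2)}) (range_le P) y) := by
    rintro x y ⟨c, hc, hcx⟩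
    exact isConj_iff.2 ⟨⟨c, Subgroup.mem_centralizer_singleton_iff.2 hc⟩, Subtype.ext hcx⟩
  have hback : ∀ x y : T (2 * 2),
      IsConj (f.codRestrict (Subgroup.centralizer {f (z 2)}) (range_le P) x)
        (f.codRestrict (Subgroup.centralizer {f (z 2)}) (range_le P) y) →
      ∃ c, c * f (z 2) = f (z 2) * c ∧ c * f x * c⁻¹ = f y := by
    intro x y h
    obtain ⟨c, hc⟩ := isConj_iff.1 h
    exact ⟨c, Subgroup.mem_centralizer_singleton_iff.1 c.2, congrArg Subtype.val hc⟩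
  refine ⟨?_, ?_, ?_, ?_, ?_, ?_, ?_, ?_⟩
  · intro x y hxy
    exact P.inj (congrArg Subtype.val hxy)
  · ext x
    constructor
    · rintro ⟨y, rfl⟩
      exact P.mem_S y
    · intro hx
      obtain ⟨y, hy⟩ := P.exists_of_mem (g := (x : G)) hx
      exact ⟨y, Subtype.ext hy⟩
  · rw [Subgroup.mem_center_iff]
    intro g
    exact Subtype.ext (Subgroup.mem_centralizer_singleton_iff.1 g.2)
  · intro y hy h
    obtain ⟨c, hc, hcx⟩ := hback _ _ h
    exact NotQ.s_not_Q P (Fusion.exists_ar P) (Fusion.exists_tu P) (Fusion.exists_tw P) c hc y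
      ((mem_Q_iff y).1 hy) hcx
  · exact hconj _ _ (Fusion.exists_tu P)
  · exact hconj _ _ (Fusion.exists_tw P)
  · exact hconj _ _ (Fusion.exists_ar P)
  · intro x hx y hy h
    obtain ⟨c, hc, hcx⟩ := hback _ _ h
    rw [mem_E_iff] at hx ⊢
    rw [mem_Q_iff] at hy
    have h0 : IsConj (f x) (f y) := isConj_iff.2 ⟨c, hcx⟩
    by_cases hx1 : x = 1
    · subst hx1
      rw [map_one, isConj_one_right] at h0
      have h1 : y = 1 := P.inj (by rw [h0, map_one])
      rw [h1]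
      exact hx
    · have hy1 : y ≠ 1 := by
        rintro rfl
        rw [map_one, isConj_one_left] at h0
        exact hx1 (P.inj (by rw [h0, map_one]))
      have hyy : y * y = 1 := by
        apply P.inj
        rw [map_mul, map_one, ← hcx]
        have h2 : f x * f x = 1 := by rw [← map_mul, sq_of_InE x hx, map_one]
        calc c * f x * c⁻¹ * (c * f x * c⁻¹) = c * (f x * f x) * c⁻¹ := by group
          _ = 1 := by rw [h2]; group
      rcases E_or_TT y hy hyy hy1 with h1 | h1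
      · exact h1
      · exact absurd (((P.isConj_E hx hx1).trans h0).trans (P.isConj_TT h1).symm) P.nzt

theorem Q_normal (P : Pat S f) : ∀ c ∈ Subgroup.centralizer {f (z 2)}, ∀ q, InQ q →
    ∃ q', InQ q' ∧ ∃ o ∈ Cfsg.centralizerPPrimeCore 2 (f (z 2)), c * f q * c⁻¹ = f q' * o := by
  intro c hc q hq
  obtain ⟨q', hq', o, ho, h⟩ := CentQuot.Q_normal_mod thmB (cset P) ⟨c, hc⟩ q ((mem_Q_iff q).2 hq)
  exact ⟨q', (mem_Q_iff q').1 hq', (o : G), ⟨o, ho, rfl⟩, congrArg Subtype.val h⟩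

theorem card_C (P : Pat S f) : Nat.card (Subgroup.centralizer {f (z 2)} : Subgroup G) =
    192 * Nat.card (Cfsg.centralizerPPrimeCore 2 (f (z 2))) := by
  rw [CentQuot.card_mod thmB (cset P), Cfsg.centralizerPPrimeCore]
  congr 1
  exact Nat.card_congr (Subgroup.equivMapOfInjective _ _ (Subgroup.subtype_injective _)).toEquiv

/-- fixed point freeness, general form -/
theorem fpf' (P : Pat S f) : ∀ x ∈ Subgroup.centralizer {f (z 2)}, Odd (orderOf x) →
    ∀ v, InQ v → v ≠ 1 → v ≠ z 2 →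
    (x * f v * x⁻¹ * (f v)⁻¹ ∈ Cfsg.centralizerPPrimeCore 2 (f (z 2)) ∨
      x * f v * x⁻¹ * (f (v * z 2))⁻¹ ∈ Cfsg.centralizerPPrimeCore 2 (f (z 2))) →
    x ∈ Cfsg.centralizerPPrimeCore 2 (f (z 2)) := by
  intro x hx hxo v hv hv1 hvz h
  refine ⟨⟨x, hx⟩, ?_, rfl⟩
  refine CentQuot.fpf_mod thmB (cset P) ⟨x, hx⟩ (by rwa [← Subgroup.orderOf_coe])
    ((mem_Q_iff v).2 hv) hv1 hvz ?_
  rcases h with ⟨o, ho, h⟩ | ⟨o, ho, h⟩
  · left
    have h2 : o = ⟨x, hx⟩ * f.codRestrict (Subgroup.centralizer {f (z 2)}) (range_le P) v *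
        (⟨x, hx⟩)⁻¹ * (f.codRestrict (Subgroup.centralizer {f (z 2)}) (range_le P) v)⁻¹ :=
      Subtype.ext h
    rwa [h2] at ho
  · right
    have h2 : o = ⟨x, hx⟩ * f.codRestrict (Subgroup.centralizer {f (z 2)}) (range_le P) v *
        (⟨x, hx⟩)⁻¹ * (f.codRestrict (Subgroup.centralizer {f (z 2)}) (range_le P) (v * z 2))⁻¹ :=
      Subtype.ext h
    rwa [h2] at ho

theorem fpf (P : Pat S f) : ∀ x ∈ Subgroup.centralizer {f (z 2)}, Odd (orderOf x) →
    ∀ v, InQ v → v ≠ 1 → v ≠ z 2 →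
    x * f v * x⁻¹ * (f v)⁻¹ ∈ Cfsg.centralizerPPrimeCore 2 (f (z 2)) →
    x ∈ Cfsg.centralizerPPrimeCore 2 (f (z 2)) :=
  fun x hx hxo v hv hv1 hvz h => fpf' P x hx hxo v hv hv1 hvz (Or.inl h)

end Cfsg.Agent.MTwelveType.CentZ
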