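import Cfsg.Agent.MTwelveType.Base
import Cfsg.Agent.MTwelveType.Fusion
import Cfsg.Agent.MTwelveType.CentZ
import Cfsg.Agent.MTwelveType.AbelSylow
import Cfsg.Agent.SignalizersComponents.SFTwo
import Cfsg.Agent.S0205
import Cfsg.Agent.S1295
import Cfsg.Agent.Lib.KleinGen
import Cfsg.Agent.PLocal.CoprimeLift

/-!
# Groups with Sylow 2-subgroups of type `M₁₂`: the signalizer functor (S1741, task T7)

* `bal`: an odd order subgroup of `C(b) ∩ C(x)`, `b` of z-type, `x` an involution commuting with `b`, which is normalized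
  by `C(b) ∩ C(x)` lies in `O(C(b))`;
* `exists_W`: the completion `W` of the functor `O(C(e))`, `e ∈ E`.
-/

set_option autoImplicit false

namespace Cfsg.Agent.MTwelveType.Functor

open Cfsg.Agent.ClassificationK.GTwoModel Cfsg.Agent.ClassificationK.GTwoModel.T
open Cfsg.Agent.MTwelveType.Base

universe u

/-! ### facts on the model -/

set_option maxRecDepth 100000 in
theorem exists_cen : ∀ x : T (2 * 2), x * x = 1 → ∃ v, InQ v ∧ v ≠ 1 ∧ v ≠ z 2 ∧ v * x = x * v := by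
  decide

set_option maxRecDepth 100000 in
theorem InQ_mul : ∀ x y : T (2 * 2), InQ x → InQ y → InQ (x * y) := by decide

theorem InQ_inv : ∀ x : T (2 * 2), InQ x → InQ x⁻¹ := by decide

theorem InQ_pow : ∀ x : T (2 * 2), InQ x → x ^ 4 = 1 := by decide

theorem InQ_one : InQ (1 : T (2 * 2)) := by decide

theorem InE_one : InE (1 : T (2 * 2)) := by decide

set_option maxRecDepth 100000 in
theorem InE_mul : ∀ x y : T (2 * 2), InE x → InE y → InE (x * y) := by decide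

theorem InE_inv : ∀ x : T (2 * 2), InE x → InE x⁻¹ := by decide

set_option maxRecDepth 100000 in
theorem InE_comm : ∀ x y : T (2 * 2), InE x → InE y → x * y = y * x := by decide

set_option maxRecDepth 100000 in
theorem InE_conj : ∀ g x : T (2 * 2), InE x → InE (g * x * g⁻¹) := by decide

theorem card_InE : Fintype.card {x : T (2 * 2) // InE x} = 8 := by decide

theorem cen_t_V : ∀ x : T (2 * 2), InV x → x * t 2 = t 2 * x := by decide

set_option maxRecDepth 100000 in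
theorem sq_InV : ∀ q : T (2 * 2), q * q * (q * q) = 1 → q * q ≠ 1 → q * q ≠ z 2 → InV (q * q) := by
  decide

theorem eq_of_InV : ∀ x : T (2 * 2), InV x → x = 1 ∨ x = z 2 ∨ x = a' 2 ∨ x = b' 2 := InV_cases

theorem b'_conj : ∃ g : T (2 * 2), g * a' 2 * g⁻¹ = b' 2 := ⟨u 2, by decide⟩

theorem not_InTT_InE : ∀ x : T (2 * 2), InQ x → x * x = 1 → x ≠ 1 → InE x ∨ InTT x := by decide

variable {G : Type u} [Group G] [Finite G] {S : Sylow 2 G} {f : T (2 * 2) →* G}

/-- `O(C(b))` -/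
abbrev Th (b : G) : Subgroup G := Cfsg.centralizerPPrimeCore 2 b

theorem Th_le (b : G) : Th b ≤ Subgroup.centralizer {b} := S1295.core_le 2 b

theorem odd_Th (b : G) : Odd (Nat.card (Th b)) := by
  rw [← Nat.not_even_iff_odd, even_iff_two_dvd]
  exact S1295.core_card 2 b

theorem conj_mem_Th {b c d : G} (hc : c * b = b * c) (hd : d ∈ Th b) : c * d * c⁻¹ ∈ Th b := by
  have h1 : c ∈ Subgroup.normalizer (Th b : Set G) :=
    S1295.core_normalized 2 b (Subgroup.mem_centralizer_singleton_iff.2 hc)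
  exact (Subgroup.mem_normalizer_iff.1 h1 d).1 hd

theorem conj_mem_Th' (b g : G) {d : G} (hd : d ∈ Th b) : g * d * g⁻¹ ∈ Th (g * b * g⁻¹) := by
  show _ ∈ Cfsg.centralizerPPrimeCore 2 (g * b * g⁻¹)
  rw [S1295.core_conj 2 b g]
  exact ⟨d, hd, rfl⟩

theorem mem_Th_of_conj (b g : G) {d : G} (hd : g * d * g⁻¹ ∈ Th (g * b * g⁻¹)) : d ∈ Th b := by
  have h := conj_mem_Th' (g * b * g⁻¹) g⁻¹ hd
  have e1 : g⁻¹ * (g * d * g⁻¹) * g⁻¹⁻¹ = d := by group
  have e2 : g⁻¹ * (g * b * g⁻¹) * g⁻¹⁻¹ = b := by group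
  rwa [e1, e2] at h

theorem S_le (hr : f.range = (S : Subgroup G)) : (S : Subgroup G) ≤ Subgroup.centralizer {f (z 2)} := by
  rw [← hr]
  rintro _ ⟨y, rfl⟩
  rw [Subgroup.mem_centralizer_singleton_iff, ← map_mul, ← map_mul, Fusion.z_comm]

/-- an involution of `C(z)` is conjugate in `C(z)` into `S` -/
theorem exists_conj_into (P : Pat S f) {x : G} (hx : orderOf x = 2) (hxz : x * f (z 2) = f (z 2) * x) :
    ∃ c, c * f (z 2) = f (z 2) * c ∧ ∃ x₀, f x₀ = c * x * c⁻¹ := by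
  obtain ⟨c, hc, hcx⟩ := AbelSylow.exists_conj_mem S (S_le P.range)
    (Subgroup.mem_centralizer_singleton_iff.2 hxz) hx
  exact ⟨c, Subgroup.mem_centralizer_singleton_iff.1 hc, P.exists_of_mem hcx⟩

/-- an element of odd order in `Q O(C(z))` lies in `O(C(z))` -/
theorem mem_Th_of_odd {d : G} (hd : Odd (orderOf d)) {q : T (2 * 2)} (hq : InQ q) {o : G}
    (ho : o ∈ Th (f (z 2))) (h : d = f q * o) : d ∈ Th (f (z 2)) := by
  set C : Subgroup G := Subgroup.centralizer {f (z 2)} with hC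
  have hfq : f q ∈ C := by
    rw [hC, Subgroup.mem_centralizer_singleton_iff, ← map_mul, ← map_mul, Fusion.z_comm]
  have hoC : o ∈ C := Th_le _ ho
  have hdC : d ∈ C := h ▸ C.mul_mem hfq hoC
  set N : Subgroup C := Cfsg.pPrimeCore 2 C with hN
  have hNn : N.Normal := Lib.Cores.pPrimeCore_normal 2
  have hmem : ∀ x (hx : x ∈ C), x ∈ Th (f (z 2)) ↔ (⟨x, hx⟩ : C) ∈ N := by
    intro x hx
    constructor
    · rintro ⟨y, hy, hyx⟩
      have : y = ⟨x, hx⟩ := Subtype.ext hyx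
      rwa [this] at hy
    · intro hy
      exact ⟨⟨x, hx⟩, hy, rfl⟩
  rw [hmem d hdC, ← QuotientGroup.eq_one_iff]
  have h1 : ((⟨d, hdC⟩ : C) : C ⧸ N) = ((⟨f q, hfq⟩ : C) : C ⧸ N) := by
    rw [QuotientGroup.eq]
    have e : (⟨d, hdC⟩ : C)⁻¹ * ⟨f q, hfq⟩ = ⟨o, hoC⟩⁻¹ := by
      apply Subtype.ext
      show d⁻¹ * f q = o⁻¹
      rw [h]; group
    rw [e]
    exact N.inv_mem ((hmem o hoC).1 ho)
  have h2 : ((⟨d, hdC⟩ : C) : C ⧸ N) ^ 4 = 1 := by
    rw [h1, ← QuotientGroup.mk_pow]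
    have e : (⟨f q, hfq⟩ : C) ^ 4 = 1 := by
      apply Subtype.ext
      show (f q) ^ 4 = 1
      rw [← map_pow, InQ_pow q hq, map_one]
    rw [e, QuotientGroup.mk_one]
  have h3 : ((⟨d, hdC⟩ : C) : C ⧸ N) ^ orderOf d = 1 := by
    rw [← QuotientGroup.mk_pow]
    have e : (⟨d, hdC⟩ : C) ^ orderOf d = 1 := by
      apply Subtype.ext
      show d ^ orderOf d = 1
      exact pow_orderOf_eq_one d
    rw [e, QuotientGroup.mk_one]
  have h4 : Nat.Coprime 4 (orderOf d) := by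
    have : Nat.Coprime (2 ^ 2) (orderOf d) := Nat.Coprime.pow_left 2 (Nat.coprime_two_left.2 hd)
    exact this
  have h5 : orderOf ((⟨d, hdC⟩ : C) : C ⧸ N) ∣ 1 := by
    rw [← Nat.Coprime.gcd_eq_one h4]
    exact Nat.dvd_gcd (orderOf_dvd_of_pow_eq_one h2) (orderOf_dvd_of_pow_eq_one h3)
  exact orderOf_eq_one_iff.1 (Nat.dvd_one.1 h5)

theorem odd_orderOf {D : Subgroup G} (hD : Odd (Nat.card D)) {d : G} (hd : d ∈ D) : Odd (orderOf d) := by
  have h := Subgroup.orderOf_dvd_natCard D hd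
  exact hD.of_dvd_nat h

/-- balance at `z` -/
theorem bal_z (P : Pat S f) {x : G} (hx : orderOf x = 2) (hxz : x * f (z 2) = f (z 2) * x)
    (D : Subgroup G) (hD : D ≤ Subgroup.centralizer {f (z 2)} ⊓ Subgroup.centralizer {x})
    (hodd : Odd (Nat.card D))
    (hn : ∀ c, c * f (z 2) = f (z 2) * c → c * x = x * c → ∀ d ∈ D, c * d * c⁻¹ ∈ D) :
    D ≤ Th (f (z 2)) := by
  obtain ⟨c, hc, x₀, hx₀⟩ := exists_conj_into P hx hxz
  have hx₀1 : x₀ * x₀ = 1 := by
    apply P.inj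
    rw [map_mul, map_one, hx₀]
    have h1 : x * x = 1 := by rw [← pow_two, ← hx, pow_orderOf_eq_one]
    calc c * x * c⁻¹ * (c * x * c⁻¹) = c * (x * x) * c⁻¹ := by group
      _ = 1 := by rw [h1]; group
  obtain ⟨v, hvQ, hv1, hvz, hvx⟩ := exists_cen x₀ hx₀1
  have hci : c⁻¹ * f (z 2) = f (z 2) * c⁻¹ := by
    rw [inv_mul_eq_iff_eq_mul, ← mul_assoc, hc, mul_assoc, mul_inv_cancel, mul_one]
  -- `v'` centralizes `z` and `x`
  set v' : G := c⁻¹ * f v * c with hv'
  have hv'z : v' * f (z 2) = f (z 2) * v' := by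
    have e1 : f v * f (z 2) = f (z 2) * f v := by rw [← map_mul, ← map_mul, Fusion.z_comm]
    calc v' * f (z 2) = c⁻¹ * f v * (c * f (z 2)) := by rw [hv']; group
      _ = c⁻¹ * (f v * f (z 2)) * c := by rw [hc]; group
      _ = (c⁻¹ * f (z 2)) * f v * c := by rw [e1]; group
      _ = f (z 2) * v' := by rw [hci, hv']; group
  have hv'x : v' * x = x * v' := by
    have e1 : f v * (c * x * c⁻¹) = (c * x * c⁻¹) * f v := by
      rw [← hx₀, ← map_mul, ← map_mul, hvx]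
    calc v' * x = c⁻¹ * (f v * (c * x * c⁻¹)) * c := by rw [hv']; group
      _ = c⁻¹ * ((c * x * c⁻¹) * f v) * c := by rw [e1]
      _ = x * v' := by rw [hv']; group
  intro d hd
  -- the commutator
  have hdz : d * f (z 2) = f (z 2) * d := Subgroup.mem_centralizer_singleton_iff.1 (hD hd).1
  have hcomm : d * v' * d⁻¹ * v'⁻¹ ∈ D := by
    have h1 := hn v' hv'z hv'x d⁻¹ (D.inv_mem hd)
    have e : d * v' * d⁻¹ * v'⁻¹ = d * (v' * d⁻¹ * v'⁻¹) := by group
    rw [e]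
    exact D.mul_mem hd h1
  set d₁ : G := c * d * c⁻¹ with hd₁
  have hd₁C : d₁ ∈ Subgroup.centralizer {f (z 2)} := by
    rw [Subgroup.mem_centralizer_singleton_iff]
    calc d₁ * f (z 2) = c * d * (c⁻¹ * f (z 2)) := by rw [hd₁]; group
      _ = c * (d * f (z 2)) * c⁻¹ := by rw [hci]; group
      _ = (c * f (z 2)) * d * c⁻¹ := by rw [hdz]; group
      _ = f (z 2) * d₁ := by rw [hc, hd₁]; group
  have hd₁odd : Odd (orderOf d₁) := by
    rw [hd₁, TwoFusion.StronglyEmbeddedBasic.orderOf_conj]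
    exact odd_orderOf hodd hd
  obtain ⟨q', hq', o, ho, hqo⟩ := CentZ.Q_normal P d₁ hd₁C v hvQ
  have hv1C : f v * f (z 2) = f (z 2) * f v := by rw [← map_mul, ← map_mul, Fusion.z_comm]
  have h1 : d₁ * f v * d₁⁻¹ * (f v)⁻¹ ∈ Th (f (z 2)) := by
    refine mem_Th_of_odd (q := q' * v⁻¹) (o := f v * o * (f v)⁻¹) ?_ (InQ_mul _ _ hq' (InQ_inv _ hvQ))
      (conj_mem_Th hv1C ho) ?_
    · have e : d₁ * f v * d₁⁻¹ * (f v)⁻¹ = c * (d * v' * d⁻¹ * v'⁻¹) * c⁻¹ := by
        rw [hd₁, hv']; group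
      rw [e, TwoFusion.StronglyEmbeddedBasic.orderOf_conj]
      exact odd_orderOf hodd hcomm
    · rw [hqo, map_mul, map_inv]; group
  have h2 := CentZ.fpf P d₁ hd₁C hd₁odd v hvQ hv1 hvz h1
  have h3 := conj_mem_Th hci h2
  have e : c⁻¹ * d₁ * c⁻¹⁻¹ = d := by rw [hd₁]; group
  rwa [e] at h3

/-- balance at any involution of z-type -/
theorem bal (P : Pat S f) (b x : G) (hb : IsConj (f (z 2)) b) (hx : orderOf x = 2) (hxb : x * b = b * x)
    (D : Subgroup G) (hD : D ≤ Subgroup.centralizer {b} ⊓ Subgroup.centralizer {x})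
    (hodd : Odd (Nat.card D)) (hn : ∀ c, c * b = b * c → c * x = x * c → ∀ d ∈ D, c * d * c⁻¹ ∈ D) :
    D ≤ Cfsg.centralizerPPrimeCore 2 b := by
  obtain ⟨g, hg⟩ := isConj_iff.1 hb.symm
  -- `g b g⁻¹ = f z`
  have key : ∀ a c : G, a * c = c * a → g * a * g⁻¹ * (g * c * g⁻¹) = g * c * g⁻¹ * (g * a * g⁻¹) := by
    intro a c h
    calc g * a * g⁻¹ * (g * c * g⁻¹) = g * (a * c) * g⁻¹ := by group
      _ = g * (c * a) * g⁻¹ := by rw [h]
      _ = _ := by group
  have key' : ∀ a c : G, a * (g * c * g⁻¹) = (g * c * g⁻¹) * a → (g⁻¹ * a * g) * c = c * (g⁻¹ * a * g) := by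
    intro a c h
    calc (g⁻¹ * a * g) * c = g⁻¹ * (a * (g * c * g⁻¹)) * g := by group
      _ = g⁻¹ * ((g * c * g⁻¹) * a) * g := by rw [h]
      _ = _ := by group
  have h1 : D.map (MulAut.conj g).toMonoidHom ≤ Th (f (z 2)) := by
    refine bal_z P (x := g * x * g⁻¹) ?_ ?_ _ ?_ ?_ ?_
    · rw [TwoFusion.StronglyEmbeddedBasic.orderOf_conj]; exact hx
    · rw [← hg]; exact key x b hxb
    · rintro _ ⟨d, hd, rfl⟩
      have hd1 := Subgroup.mem_centralizer_singleton_iff.1 (hD hd).1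
      have hd2 := Subgroup.mem_centralizer_singleton_iff.1 (hD hd).2
      refine ⟨?_, ?_⟩
      · show g * d * g⁻¹ ∈ Subgroup.centralizer {f (z 2)}
        rw [Subgroup.mem_centralizer_singleton_iff, ← hg]
        exact key d b hd1
      · show g * d * g⁻¹ ∈ Subgroup.centralizer {g * x * g⁻¹}
        rw [Subgroup.mem_centralizer_singleton_iff]
        exact key d x hd2
    · rw [Subgroup.card_map_of_injective (MulAut.conj g).injective]
      exact hodd
    · rintro c hc1 hc2 _ ⟨d, hd, rfl⟩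
      rw [← hg] at hc1
      refine ⟨(g⁻¹ * c * g) * d * (g⁻¹ * c * g)⁻¹, hn _ (key' c b hc1) (key' c x hc2) d hd, ?_⟩
      show g * ((g⁻¹ * c * g) * d * (g⁻¹ * c * g)⁻¹) * g⁻¹ = c * (g * d * g⁻¹) * c⁻¹
      group
  intro d hd
  have h2 : g * d * g⁻¹ ∈ Th (f (z 2)) := h1 ⟨d, hd, rfl⟩
  rw [← hg] at h2
  exact mem_Th_of_conj b g h2

/-! ### the completion -/

/-- the subgroup `E` of the model -/
def Esub : Subgroup (T (2 * 2)) where
  carrier := {x | InE x}
  mul_mem' {x y} hx hy := InE_mul x y hx hy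
  one_mem' := InE_one
  inv_mem' {x} hx := InE_inv x hx

theorem mem_Esub {x : T (2 * 2)} : x ∈ Esub ↔ InE x := Iff.rfl

theorem card_Esub : Nat.card Esub = 8 := by
  rw [← card_InE, ← Nat.card_eq_fintype_card]
  rfl

/-- the subgroup `Q` of the model -/
def Qsub : Subgroup (T (2 * 2)) where
  carrier := {x | InQ x}
  mul_mem' {x y} hx hy := InQ_mul x y hx hy
  one_mem' := InQ_one
  inv_mem' {x} hx := InQ_inv x hx

theorem mem_Qsub {x : T (2 * 2)} : x ∈ Qsub ↔ InQ x := Iff.rfl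

/-- the join of the `O(C(e))`, `e ∈ E` -/
def W (f : T (2 * 2) →* G) : Subgroup G := ⨆ a : {a : G // a ∈ Esub.map f ∧ a ≠ 1}, Th (a : G)

omit [Finite G] in
theorem Th_le_W {x : T (2 * 2)} (hinj : Function.Injective f) (hx : InE x) (hx1 : x ≠ 1) :
    Th (f x) ≤ W f := by
  refine le_iSup (fun a : {a : G // a ∈ Esub.map f ∧ a ≠ 1} => Th (a : G)) ⟨f x, ⟨x, hx, rfl⟩, ?_⟩
  intro h
  exact hx1 (hinj (by rw [h, map_one]))

theorem orderOf_f (P : Pat S f) {x : T (2 * 2)} (hx : x * x = 1) (hx1 : x ≠ 1) : orderOf (f x) = 2 := by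
  rw [orderOf_injective f P.inj]
  exact orderOf_eq_prime (by rw [pow_two, hx]) hx1

/-- the conclusion of the signalizer functor theorem -/
theorem W_spec (P : Pat S f) : Odd (Nat.card (W f)) ∧
    ∀ x, InE x → x ≠ 1 → W f ⊓ Subgroup.centralizer {f x} = Th (f x) := by
  have h := Cfsg.Agent.SignalizersComponents.SFTwo.result (Esub.map f) ?_ ?_ ?_ (fun a => Th a) ?_ ?_ ?_ ?_ ?_
  · refine ⟨?_, ?_⟩
    · rw [← Nat.not_even_iff_odd, even_iff_two_dvd]
      exact h.1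
    · intro x hx hx1
      exact h.2 (f x) ⟨x, hx, rfl⟩ (fun hh => hx1 (P.inj (by rw [hh, map_one])))
  · rintro _ ⟨x, hx, rfl⟩ _ ⟨y, hy, rfl⟩
    rw [← map_mul, ← map_mul, InE_comm x y hx hy]
  · rintro _ ⟨x, hx, rfl⟩
    rw [← map_pow, pow_two, sq_of_InE x hx, map_one]
  · rw [Subgroup.card_map_of_injective P.inj, card_Esub]
    norm_num
  · intro a _ _
    exact Th_le a
  · intro a _ _
    exact S1295.core_card 2 a
  · rintro _ ⟨x, hx, rfl⟩ _ _ ⟨y, hy, rfl⟩ d hd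
    refine conj_mem_Th ?_ hd
    rw [← map_mul, ← map_mul, InE_comm y x hy hx]
  · intro a _ _
    exact S0205.result (odd_Th a)
  · rintro _ ⟨x, hx, rfl⟩ hx1 _ ⟨y, hy, rfl⟩ hy1
    have hx1' : x ≠ 1 := fun hh => hx1 (by rw [hh, map_one])
    have hy1' : y ≠ 1 := fun hh => hy1 (by rw [hh, map_one])
    refine bal P (f y) (f x) (P.isConj_E hy hy1') (orderOf_f P (sq_of_InE x hx) hx1') ?_ _ ?_ ?_ ?_
    · rw [← map_mul, ← map_mul, InE_comm x y hx hy]
    · exact le_inf inf_le_right (inf_le_left.trans (Th_le _))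
    · exact (odd_Th (f x)).of_dvd_nat (Subgroup.card_dvd_of_le inf_le_left)
    · intro c hc1 hc2 d hd
      refine ⟨conj_mem_Th hc2 hd.1, ?_⟩
      exact (Subgroup.centralizer {f y}).mul_mem ((Subgroup.centralizer {f y}).mul_mem
        (Subgroup.mem_centralizer_singleton_iff.2 hc1) hd.2)
        ((Subgroup.centralizer {f y}).inv_mem (Subgroup.mem_centralizer_singleton_iff.2 hc1))

theorem odd_W (P : Pat S f) : Odd (Nat.card (W f)) := (W_spec P).1

theorem W_inf (P : Pat S f) {x : T (2 * 2)} (hx : InE x) (hx1 : x ≠ 1) :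
    W f ⊓ Subgroup.centralizer {f x} = Th (f x) := (W_spec P).2 x hx hx1

omit [Finite G] in
theorem conj_le_of_E {g : G} (hinj : Function.Injective f)
    (hg : ∀ x, InE x → ∃ y, InE y ∧ g * f x * g⁻¹ = f y) (hc : ∀ b d : G, d ∈ Th b →
      g * d * g⁻¹ ∈ Th (g * b * g⁻¹)) : ∀ w ∈ W f, g * w * g⁻¹ ∈ W f := by
  have h1 : W f ≤ (W f).comap (MulAut.conj g).toMonoidHom := by
    refine iSup_le ?_
    rintro ⟨a, ⟨x, hx, rfl⟩, ha1⟩ d hd
    obtain ⟨y, hy, hxy⟩ := hg x hx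
    have h2 := hc (f x) d hd
    rw [hxy] at h2
    refine Th_le_W hinj hy ?_ h2
    rintro rfl
    apply ha1
    rw [map_one] at hxy
    have := congrArg (fun t => g⁻¹ * t * g) hxy
    simpa [mul_assoc] using this
  intro w hw
  exact h1 hw

/-- `N_G(E) ≤ N_G(W)` -/
theorem mem_N_of_E (P : Pat S f) {g : G} (hg : ∀ x, InE x → ∃ y, InE y ∧ g * f x * g⁻¹ = f y) :
    g ∈ Subgroup.normalizer (W f : Set G) :=
  Subgroup.mem_normalizer_fintype (conj_le_of_E P.inj hg (fun b _ hd => conj_mem_Th' b g hd))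

theorem f_mem_N (P : Pat S f) (x : T (2 * 2)) : f x ∈ Subgroup.normalizer (W f : Set G) :=
  mem_N_of_E P (fun y hy => ⟨x * y * x⁻¹, InE_conj x y hy, by rw [map_mul, map_mul, map_inv]⟩)

theorem S_le_N (P : Pat S f) : (S : Subgroup G) ≤ Subgroup.normalizer (W f : Set G) := by
  rw [← P.range]
  rintro _ ⟨x, rfl⟩
  exact f_mem_N P x

theorem ne_z : (z 2 : T (2 * 2)) ≠ 1 := by decide
theorem ne_a' : (a' 2 : T (2 * 2)) ≠ 1 := by decide
theorem ne_b' : (b' 2 : T (2 * 2)) ≠ 1 := by decide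
theorem InV_z : InV (z 2) := by decide
theorem InV_a' : InV (a' 2) := by decide
theorem InV_b' : InV (b' 2) := by decide
theorem z_mul_a' : (z 2 * a' 2 : T (2 * 2)) = b' 2 := by decide
theorem z_sq : (z 2 * z 2 : T (2 * 2)) = 1 := by decide
theorem a'_sq : (a' 2 * a' 2 : T (2 * 2)) = 1 := by decide
theorem t_sq : (t 2 * t 2 : T (2 * 2)) = 1 := by decide
theorem ne_t : (t 2 : T (2 * 2)) ≠ 1 := by decide

/-- an odd order subgroup normalized by `V` is contained in `M` if its intersections with the `C(v)` are -/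
theorem le_of_V (P : Pat S f) (H M : Subgroup G) (hodd : Odd (Nat.card H))
    (hV : ∀ x, InV x → ∀ h ∈ H, f x * h * (f x)⁻¹ ∈ H)
    (h : ∀ x, InV x → x ≠ 1 → H ⊓ Subgroup.centralizer {f x} ≤ M) : H ≤ M := by
  refine Lib.KleinGen.le_of_klein H M hodd (f (z 2)) (f (a' 2)) ?_ ?_ ?_ (hV _ InV_z) (hV _ InV_a')
    (h _ InV_z ne_z) (h _ InV_a' ne_a') ?_
  · rw [← map_mul, z_sq, map_one]
  · rw [← map_mul, a'_sq, map_one]
  · rw [← map_mul, ← map_mul, Fusion.z_comm]
  · rw [← map_mul, z_mul_a']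
    exact h _ InV_b' ne_b'

/-- `N_G(V) ≤ N_G(W)` -/
theorem mem_N_of_V (P : Pat S f) {g : G} (hg : ∀ x, InV x → ∃ y, InV y ∧ g * f x * g⁻¹ = f y) :
    g ∈ Subgroup.normalizer (W f : Set G) := by
  refine Subgroup.mem_normalizer_fintype ?_
  have h1 : W f ≤ (W f).comap (MulAut.conj g).toMonoidHom := by
    refine le_of_V P _ _ (odd_W P) ?_ ?_
    · intro x _ w hw
      exact (Subgroup.mem_normalizer_iff.1 (f_mem_N P x) w).1 hw
    · intro x hx hx1
      rw [W_inf P (InE_of_InV x hx) hx1]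
      intro d hd
      obtain ⟨y, hy, hxy⟩ := hg x hx
      have h2 := conj_mem_Th' (f x) g hd
      rw [hxy] at h2
      refine Th_le_W P.inj (InE_of_InV y hy) ?_ h2
      rintro rfl
      apply hx1
      apply P.inj
      rw [map_one] at hxy ⊢
      have := congrArg (fun t => g⁻¹ * t * g) hxy
      simpa [mul_assoc] using this
  intro w hw
  exact h1 hw

/-- `C(z) ≤ N_G(W)` -/
theorem cen_z_le (P : Pat S f) :
    Subgroup.centralizer {f (z 2)} ≤ Subgroup.normalizer (W f : Set G) := by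
  intro c hc
  set C : Subgroup G := Subgroup.centralizer {f (z 2)} with hC
  have hfC : ∀ x, f x ∈ C := fun x => by
    rw [hC, Subgroup.mem_centralizer_singleton_iff, ← map_mul, ← map_mul, Fusion.z_comm]
  set N : Subgroup C := Cfsg.pPrimeCore 2 C with hN
  have hNn : N.Normal := Lib.Cores.pPrimeCore_normal 2
  set Q : Subgroup C := (Qsub.map f).subgroupOf C with hQ
  have hQp : IsPGroup 2 Q := by
    refine IsPGroup.comap_subtype ?_
    refine S.isPGroup'.to_le ?_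
    rw [← P.range, MonoidHom.range_eq_map]
    exact Subgroup.map_mono le_top
  obtain ⟨m, hm, hmc⟩ := PLocal.CoprimeLift.exists_normalizing_lift N Q
    (Lib.Cores.pPrimeCore_coprime 2) hQp ⟨c, hc⟩ (by
      rintro ⟨x, hx⟩ ⟨q, hq, hqx⟩
      have hqx' : f q = x := hqx
      obtain ⟨q', hq', o, ho, hqo⟩ := CentZ.Q_normal P c hc q hq
      obtain ⟨o', ho', hoo⟩ := ho
      have hoC : o ∈ C := by rw [← hoo]; exact o'.2
      have e : (⟨c, hc⟩ : C) * ⟨x, hx⟩ * (⟨c, hc⟩ : C)⁻¹ = ⟨f q', hfC q'⟩ * ⟨o, hoC⟩ := by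
        apply Subtype.ext
        show c * x * c⁻¹ = f q' * o
        rw [← hqx', hqo]
      rw [e]
      refine Subgroup.mul_mem_sup ?_ ?_
      · exact ⟨q', hq', rfl⟩
      · have : (⟨o, hoC⟩ : C) = o' := Subtype.ext hoo.symm
        rw [this]
        exact ho')
  have hmW : (m : G) ∈ Subgroup.normalizer (W f : Set G) := by
    apply Subgroup.le_normalizer
    exact Th_le_W P.inj (InE_of_InV _ InV_z) ne_z ⟨m, hm, rfl⟩
  have hmcN : (m : G) * c ∈ Subgroup.normalizer (W f : Set G) := by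
    refine mem_N_of_E P ?_
    intro x hx
    have h1 := (Subgroup.mem_normalizer_iff.1 hmc ⟨f x, hfC x⟩).1 ⟨x, InQ_of_InE x hx, rfl⟩
    obtain ⟨q, hq, hqe⟩ := h1
    have hqe' : f q = (m : G) * c * f x * ((m : G) * c)⁻¹ := hqe
    have hconj : IsConj (f x) (f q) := isConj_iff.2 ⟨(m : G) * c, hqe'.symm⟩
    by_cases hx1 : x = 1
    · refine ⟨q, ?_, hqe'.symm⟩
      have : q = 1 := by
        apply P.inj
        rw [hqe', hx1]; simp
      rw [this]; exact InE_one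
    · have hq2 : q * q = 1 := by
        apply P.inj
        rw [map_mul, map_one, hqe']
        have h2 : f x * f x = 1 := by rw [← map_mul, sq_of_InE x hx, map_one]
        calc (m : G) * c * f x * ((m : G) * c)⁻¹ * ((m : G) * c * f x * ((m : G) * c)⁻¹)
            = (m : G) * c * (f x * f x) * ((m : G) * c)⁻¹ := by group
          _ = 1 := by rw [h2]; group
      have hq1 : q ≠ 1 := by
        rintro rfl
        apply hx1
        apply P.inj
        rw [map_one] at hqe' ⊢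
        have := congrArg (fun t => ((m : G) * c)⁻¹ * t * ((m : G) * c)) hqe'
        simpa [mul_assoc] using this.symm
      rcases not_InTT_InE q hq hq2 hq1 with h2 | h2
      · exact ⟨q, h2, hqe'.symm⟩
      · exfalso
        exact P.nzt ((P.isConj_E hx hx1).trans (hconj.trans (P.isConj_TT h2).symm))
  have h3 := (Subgroup.normalizer (W f : Set G)).mul_mem
    ((Subgroup.normalizer (W f : Set G)).inv_mem hmW) hmcN
  rwa [inv_mul_cancel_left] at h3

/-- an element carrying `a'` to `z` and normalizing `V` -/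
theorem exists_g0 (P : Pat S f) : ∃ g, g * f (a' 2) * g⁻¹ = f (z 2) ∧
    ∀ x, InV x → ∃ y, InV y ∧ g * f x * g⁻¹ = f y := by
  obtain ⟨g, hg, hgS⟩ := Fusion.exists_move_z P.range P.za.symm
  refine ⟨g, hg, ?_⟩
  have hb : ∃ y, InV y ∧ g * f (b' 2) * g⁻¹ = f y := by
    obtain ⟨p, hp⟩ := hgS (⟨0, 1, false, false⟩ : T (2 * 2)) (by decide)
    have hpp : f (p * p) = g * f (b' 2) * g⁻¹ := by
      have e : (b' 2 : T (2 * 2)) = (⟨0, 1, false, false⟩ : T (2 * 2)) * ⟨0, 1, false, false⟩ := by decide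
      rw [map_mul, hp, e, map_mul]; group
    refine ⟨p * p, sq_InV p ?_ ?_ ?_, hpp.symm⟩
    · apply P.inj
      rw [map_mul, hpp, map_one]
      have h2 : f (b' 2) * f (b' 2) = 1 := by
        rw [← map_mul]
        have : (b' 2 * b' 2 : T (2 * 2)) = 1 := by decide
        rw [this, map_one]
      calc g * f (b' 2) * g⁻¹ * (g * f (b' 2) * g⁻¹) = g * (f (b' 2) * f (b' 2)) * g⁻¹ := by group
        _ = 1 := by rw [h2]; group
    · intro h
      rw [h, map_one] at hpp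
      have h2 : f (b' 2) = 1 := by
        have := congrArg (fun t => g⁻¹ * t * g) hpp
        simpa [mul_assoc] using this.symm
      exact ne_b' (P.inj (by rw [h2, map_one]))
    · intro h
      rw [h, ← hg] at hpp
      have h2 : f (a' 2) = f (b' 2) := by simpa using hpp
      have h3 : (a' 2 : T (2 * 2)) ≠ b' 2 := by decide
      exact h3 (P.inj h2)
  obtain ⟨y, hy, hyb⟩ := hb
  intro x hx
  rcases eq_of_InV x hx with rfl | rfl | rfl | rfl
  · exact ⟨1, by decide, by rw [map_one]; group⟩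
  · refine ⟨z 2 * y, ?_, ?_⟩
    · rcases eq_of_InV y hy with rfl | rfl | rfl | rfl <;> decide
    · have e : (z 2 : T (2 * 2)) = a' 2 * b' 2 := by decide
      calc g * f (z 2) * g⁻¹ = g * (f (a' 2) * f (b' 2)) * g⁻¹ := by rw [← map_mul, ← e]
        _ = (g * f (a' 2) * g⁻¹) * (g * f (b' 2) * g⁻¹) := by group
        _ = f (z 2) * f y := by rw [hg, hyb]
        _ = f (z 2 * y) := by rw [map_mul]
  · exact ⟨z 2, InV_z, hg⟩
  · exact ⟨y, hy, hyb⟩

/-- `C(e) ≤ N_G(W)` for `e ∈ E` -/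
theorem cen_le (P : Pat S f) (x : T (2 * 2)) (hx : InE x) (hx1 : x ≠ 1) :
    Subgroup.centralizer {f x} ≤ Subgroup.normalizer (W f : Set G) := by
  set N : Subgroup G := Subgroup.normalizer (W f : Set G) with hN
  -- it is enough to conjugate `f x` to `f z` inside `N`
  have key : ∀ a b : G, ∀ m ∈ N, m * a * m⁻¹ = b → Subgroup.centralizer {b} ≤ N →
      Subgroup.centralizer {a} ≤ N := by
    intro a b m hm hab hb c hc
    have h1 : m * c * m⁻¹ ∈ Subgroup.centralizer {b} := by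
      rw [Subgroup.mem_centralizer_singleton_iff] at hc ⊢
      rw [← hab]
      calc m * c * m⁻¹ * (m * a * m⁻¹) = m * (c * a) * m⁻¹ := by group
        _ = m * (a * c) * m⁻¹ := by rw [hc]
        _ = _ := by group
    have h2 := N.mul_mem (N.mul_mem (N.inv_mem hm) (hb h1)) hm
    have e : m⁻¹ * (m * c * m⁻¹) * m = c := by group
    rwa [e] at h2
  obtain ⟨g, hg, hgV⟩ := exists_g0 P
  have ha : Subgroup.centralizer {f (a' 2)} ≤ N := key _ _ g (mem_N_of_V P hgV) hg (cen_z_le P)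
  rcases conj_of_InE x hx hx1 with rfl | ⟨k, rfl⟩ | ⟨k, rfl⟩
  · exact cen_z_le P
  · refine key _ (f (a' 2)) (f k)⁻¹ (N.inv_mem (f_mem_N P k)) ?_ ha
    rw [map_mul, map_mul, map_inv]; group
  · obtain ⟨c, hc, hcr⟩ := Fusion.exists_ar P
    have hcN : c ∈ N := cen_z_le P (Subgroup.mem_centralizer_singleton_iff.2 hc)
    have hr : Subgroup.centralizer {f (r 2)} ≤ N := by
      refine key _ (f (a' 2)) c⁻¹ (N.inv_mem hcN) ?_ ha
      rw [← hcr]; group
    refine key _ (f (r 2)) (f k)⁻¹ (N.inv_mem (f_mem_N P k)) ?_ hr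
    rw [map_mul, map_mul, map_inv]; group

/-- `O(C(t)) ≤ W` -/
theorem Th_t_le (P : Pat S f) : Th (f (t 2)) ≤ W f := by
  refine le_of_V P _ _ (odd_Th _) ?_ ?_
  · intro x hx h hh
    refine conj_mem_Th ?_ hh
    rw [← map_mul, ← map_mul, cen_t_V x hx]
  · intro x hx hx1
    refine (bal P (f x) (f (t 2)) (P.isConj_E (InE_of_InV x hx) hx1) (orderOf_f P t_sq ne_t) ?_ _ ?_ ?_ ?_).trans
      (Th_le_W P.inj (InE_of_InV x hx) hx1)
    · rw [← map_mul, ← map_mul, cen_t_V x hx]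
    · exact le_inf inf_le_right (inf_le_left.trans (Th_le _))
    · exact (odd_Th _).of_dvd_nat (Subgroup.card_dvd_of_le inf_le_left)
    · intro c hc1 hc2 d hd
      refine ⟨conj_mem_Th hc2 hd.1, ?_⟩
      exact (Subgroup.centralizer {f x}).mul_mem ((Subgroup.centralizer {f x}).mul_mem
        (Subgroup.mem_centralizer_singleton_iff.2 hc1) hd.2)
        ((Subgroup.centralizer {f x}).inv_mem (Subgroup.mem_centralizer_singleton_iff.2 hc1))

/-- existence of the signalizer `W` -/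
theorem exists_W (P : Pat S f) : ∃ W : Subgroup G, Odd (Nat.card W) ∧
    (∀ x, InE x → x ≠ 1 → W ⊓ Subgroup.centralizer {f x} = Cfsg.centralizerPPrimeCore 2 (f x)) ∧
    (∀ x, InE x → x ≠ 1 → Subgroup.centralizer {f x} ≤ Subgroup.normalizer (W : Set G)) ∧
    (∀ g, (∀ x, InV x → ∃ y, InV y ∧ g * f x * g⁻¹ = f y) → g ∈ Subgroup.normalizer (W : Set G)) ∧
    (S : Subgroup G) ≤ Subgroup.normalizer (W : Set G) ∧
    Cfsg.centralizerPPrimeCore 2 (f (t 2)) ≤ W :=
  ⟨W f, odd_W P, fun _ hx hx1 => W_inf P hx hx1, cen_le P, fun _ hg => mem_N_of_V P hg, S_le_N P, Th_t_le P⟩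

/-- existence of the signalizer `W`, with `N_G(E) ≤ N_G(W)` -/
theorem exists_W' (P : Pat S f) : ∃ W : Subgroup G, Odd (Nat.card W) ∧
    (∀ x, InE x → x ≠ 1 → W ⊓ Subgroup.centralizer {f x} = Cfsg.centralizerPPrimeCore 2 (f x)) ∧
    (∀ x, InE x → x ≠ 1 → Subgroup.centralizer {f x} ≤ Subgroup.normalizer (W : Set G)) ∧
    (∀ g, (∀ x, InV x → ∃ y, InV y ∧ g * f x * g⁻¹ = f y) → g ∈ Subgroup.normalizer (W : Set G)) ∧
    (∀ g, (∀ x, InE x → ∃ y, InE y ∧ g * f x * g⁻¹ = f y) → g ∈ Subgroup.normalizer (W : Set G)) ∧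
    (S : Subgroup G) ≤ Subgroup.normalizer (W : Set G) ∧
    Cfsg.centralizerPPrimeCore 2 (f (t 2)) ≤ W :=
  ⟨W f, odd_W P, fun _ hx hx1 => W_inf P hx hx1, cen_le P, fun _ hg => mem_N_of_V P hg,
    fun _ hg => mem_N_of_E P hg, S_le_N P, Th_t_le P⟩

end Cfsg.Agent.MTwelveType.Functor
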