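import Cfsg.Agent.MTwelveType.MainA
import Cfsg.Agent.MTwelveType.CaseB
import Cfsg.Agent.MTwelveType.CentZ
import Cfsg.Agent.MTwelveType.Functor

/-!
# Sylow type `M₁₂`: the order is 95040 (S1741)
-/

set_option autoImplicit false

namespace Cfsg.Agent.MTwelveType.Main

open Cfsg.Agent.ClassificationK.GTwoModel Cfsg.Agent.ClassificationK.GTwoModel.T
open Cfsg.Agent.MTwelveType.Base Subgroup

universe v

theorem card_eq {G : Type v} [Group G] [Finite G] [IsSimpleGroup G] {S : Sylow 2 G} {f : T (2 * 2) →* G}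
    (hord : MainA.OrderStatement.{v}) (P : Pat S f) : Nat.card G = 95040 := by
  obtain ⟨W, hW, hWC, hWn, hWV, hSW, hWt⟩ := Functor.exists_W P
  obtain ⟨g, hga, hgV, hg⟩ := GZero.exists_g0 P
  have hzE : InE (z 2) := by decide
  have hz1 : z 2 ≠ 1 := by decide
  rcases hg with ⟨hzs, hgt, hgs⟩ | ⟨hts, -, -⟩
  · exact MainA.card_eq hord P W hW (hWC _ hzE hz1) (hWn _ hzE hz1) hSW g (hWV g hgV) hga hgt hgs
      (CentZ.Q_normal P) (CentZ.card_C P)
  · exact (CaseB.false_of_isConj_ts P hts W hW hWC hWn hWV hSW hWt (CentZ.Q_normal P)).elim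

end Cfsg.Agent.MTwelveType.Main
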