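import Mathlib

/-!
# Fusion data of a group of type `M₁₂` (S1741): the structure `Fus`

`z` and `t` are representatives of the two classes of involutions ("z-type", "t-type").
-/

set_option autoImplicit false

namespace Cfsg.Agent.MTwelveType.FusDef

open Subgroup

/-- The fusion data from which the order 95040 is computed. -/
structure Fus {G : Type*} [Group G] (z t : G) : Prop where
  hz : orderOf z = 2
  ht : orderOf t = 2
  comm : z * t = t * z
  nconj : ¬ IsConj z t
  cover : ∀ x : G, orderOf x = 2 → IsConj z x ∨ IsConj t x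
  cardC : Nat.card (centralizer ({z} : Set G)) = 192
  /-- the product of two distinct commuting z-types is of z-type -/
  mul_z : ∀ x y : G, IsConj z x → IsConj z y → x ≠ y → x * y = y * x → IsConj z (x * y)
  mul_t : ∀ x : G, IsConj z x → x * t = t * x → IsConj t (x * t)
  /-- the z-types in `C(t)` are conjugate in `C(t)` -/
  conj_t : ∀ x : G, IsConj z x → x * t = t * x → ∃ h : G, h * t = t * h ∧ h * z * h⁻¹ = x
  card12 : Nat.card {y : G // IsConj t y ∧ y * z = z * y} = 12
  /-- the twelve t-types in `C(z)` are conjugate in `C(z)` -/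
  pair : ∀ y : G, IsConj t y → y * z = z * y → ∃ c : G, c * z = z * c ∧ c * t * c⁻¹ = y
  card3 : Nat.card {x : G // IsConj z x ∧ x * z = z * x ∧ x * t = t * x} = 3
  card8 : ∀ x : G, IsConj z x → x ≠ z → x * z = z * x → x * t = t * x →
    Nat.card (centralizer ({z} : Set G) ⊓ centralizer ({x} : Set G) ⊓
      centralizer ({t} : Set G) : Subgroup G) = 8
  card_az : Nat.card {p : G × G // IsConj z p.1 ∧ IsConj t p.2 ∧ z ∈ zpowers (p.1 * p.2)} = 240
  card_zz : 64 ≤ Nat.card {p : G × G // IsConj z p.1 ∧ IsConj z p.2 ∧ z ∈ zpowers (p.1 * p.2)}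

end Cfsg.Agent.MTwelveType.FusDef
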