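import Cfsg.Agent.MTwelveType.CountZ
import Cfsg.Agent.MTwelveType.Fusion
import Cfsg.Agent.MTwelveType.FusDef

/-!
From the fusion pattern `Pat` (case `s ~ z`), `|C(z)| = 192` and `Q` normal in `C(z)` to the data needed for the
Thompson order formula.
-/

set_option autoImplicit false

namespace Cfsg.Agent.MTwelveType.FusOf

open Cfsg.Agent.ClassificationK.GTwoModel Cfsg.Agent.ClassificationK.GTwoModel.T
open Cfsg.Agent.MTwelveType Cfsg.Agent.MTwelveType.CountZ

variable {G : Type*} [Group G] [Finite G] {S : Sylow 2 G} {f : T (2 * 2) →* G}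

theorem qp_iff (x : T (2 * 2)) : ModelFour.QP x ↔ Base.InQ x := by
  have : ∀ (i j : ZMod (2 * 2)), (i + j = 0 ∨ i + j = 2) ↔ 2 * i = 2 * j := by decide
  exact this x.i x.j

theorem dat_of_pat (P : Base.Pat S f) (hs : IsConj (f (z 2)) (f (s 2)))
    (hC : Nat.card (Subgroup.centralizer ({f (z 2)} : Set G)) = 192)
    (hQ : ∀ c ∈ Subgroup.centralizer ({f (z 2)} : Set G), ∀ q, Base.InQ q →
      ∃ q', Base.InQ q' ∧ c * f q * c⁻¹ = f q') : Dat f where
  inj := P.inj
  card := hC
  nQ := fun c hc x hx => by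
    obtain ⟨q', h1, h2⟩ := hQ c (Subgroup.mem_centralizer_singleton_iff.2 hc) x ((qp_iff x).1 hx)
    exact ⟨q', (qp_iff q').2 h1, h2⟩
  car := Fusion.exists_ar P
  ctu := Fusion.exists_tu P
  ctw := Fusion.exists_tw P
  za := P.za
  zr := P.zr
  zs := hs
  tu := P.tu
  tw := P.tw
  nzt := P.nzt

section

variable (D : Dat f)
include D

theorem order_z : orderOf (f (z 2)) = 2 :=
  orderOf_eq_prime (by rw [pow_two, fz_sq]) (fz_ne D)

theorem order_t : orderOf (f (t 2)) = 2 :=
  orderOf_eq_prime (by rw [pow_two, ft_sq]) (ft_ne D)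

end

theorem comm_zt : f (z 2) * f (t 2) = f (t 2) * f (z 2) := (fz_comm _).symm

/-- every involution of `G` is conjugate to `z` or `t` -/
theorem cover (P : Base.Pat S f) (x : G) (hx : orderOf x = 2) :
    IsConj (f (z 2)) x ∨ IsConj (f (t 2)) x := by
  have hp : IsPGroup 2 (Subgroup.zpowers x) := by
    refine IsPGroup.of_card (n := 1) ?_
    rw [Nat.card_zpowers, hx, pow_one]
  obtain ⟨T, hT⟩ := hp.exists_le_sylow
  obtain ⟨g, hg⟩ := MulAction.exists_smul_eq G T S
  have h1 : g * x * g⁻¹ ∈ (S : Subgroup G) := by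
    rw [← hg]
    exact ⟨x, hT (Subgroup.mem_zpowers x), rfl⟩
  obtain ⟨v, hv⟩ := P.exists_of_mem h1
  have hx2 : x * x = 1 := by rw [← pow_two, ← hx, pow_orderOf_eq_one]
  have hx1 : x ≠ 1 := fun h => by rw [h, orderOf_one] at hx; omega
  have hv2 : v * v = 1 := P.inj (by
    rw [map_mul, hv, map_one]
    calc g * x * g⁻¹ * (g * x * g⁻¹) = g * (x * x) * g⁻¹ := by group
      _ = 1 := by rw [hx2]; group)
  have hv1 : v ≠ 1 := fun h => hx1 (by
    rw [h, map_one] at hv
    calc x = g⁻¹ * (g * x * g⁻¹) * g := by group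
      _ = 1 := by rw [← hv]; group)
  have h2 : IsConj (f v) x := by
    rw [hv]
    exact (isConj_iff.2 ⟨g, rfl⟩ : IsConj x (g * x * g⁻¹)).symm
  rcases P.isConj_or hv2 hv1 with h | h
  · exact Or.inl (h.trans h2)
  · exact Or.inr (h.trans h2)

theorem card_eight' (D : Dat f) (x : G) (hx : IsConj (f (z 2)) x) (hxz : x ≠ f (z 2))
    (h1 : x * f (z 2) = f (z 2) * x) (h2 : x * f (t 2) = f (t 2) * x) :
    Nat.card (Subgroup.centralizer ({f (z 2)} : Set G) ⊓ Subgroup.centralizer ({x} : Set G) ⊓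
      Subgroup.centralizer ({f (t 2)} : Set G) : Subgroup G) = 8 := by
  rw [← card_eight D x hx hxz h1 h2]
  refine Nat.card_congr (Equiv.subtypeEquivRight fun c => ?_)
  rw [Subgroup.mem_inf, Subgroup.mem_inf, Subgroup.mem_centralizer_singleton_iff,
    Subgroup.mem_centralizer_singleton_iff, Subgroup.mem_centralizer_singleton_iff, and_assoc]

/-- The data of the Thompson order formula. -/
theorem fus_of (P : Base.Pat S f) (hs : IsConj (f (z 2)) (f (s 2)))
    (hC : Nat.card (Subgroup.centralizer ({f (z 2)} : Set G)) = 192)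
    (hQ : ∀ c ∈ Subgroup.centralizer ({f (z 2)} : Set G), ∀ q, Base.InQ q →
      ∃ q', Base.InQ q' ∧ c * f q * c⁻¹ = f q') : FusDef.Fus (f (z 2)) (f (t 2)) := by
  have D := dat_of_pat P hs hC hQ
  exact
    { hz := order_z D
      ht := order_t D
      comm := comm_zt
      nconj := P.nzt
      cover := cover P
      cardC := hC
      mul_z := mul_z D
      mul_t := mul_t D
      conj_t := conj_t D
      card12 := card_twelve D
      pair := pair D
      card3 := card_three D
      card8 := card_eight' D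
      card_az := card_az D
      card_zz := le_trans (by norm_num) (card_zz D) }

end Cfsg.Agent.MTwelveType.FusOf
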