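import Cfsg.Agent.MTwelveType.Fusion

/-!
# Groups with Sylow 2-subgroups of type `M₁₂`: the element `g₀` (S1741, task T5)

`exists_g0`: an element of `G` moving `a'` to `z`, normalizing `V = {1, z, a', b'}`, and fixing `t` (pattern (a)) or
normalizing `E` and moving `t` to an involution of type `s` (pattern (b)).
-/

set_option autoImplicit false

namespace Cfsg.Agent.MTwelveType.GZero

open Cfsg.Agent.ClassificationK.GTwoModel Cfsg.Agent.ClassificationK.GTwoModel.T
open Cfsg.Agent.MTwelveType.Base Cfsg.Agent.MTwelveType.Fusion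

/-! ### facts on the model -/

/-- `(1, 0)` -/
def al : T (2 * 2) := ⟨1, 0, false, false⟩
/-- `(0, 1)` -/
def be : T (2 * 2) := ⟨0, 1, false, false⟩

theorem sq_cases : ∀ p : T (2 * 2), p * p ≠ 1 → p * p * (p * p) = 1 →
    (p * p = z 2 ∨ p * p = a' 2 ∨ p * p = b' 2) := by decide

theorem mem_A : ∀ p : T (2 * 2), (p * p = a' 2 ∨ p * p = b' 2) → InA p := by decide

set_option maxRecDepth 100000 in
theorem inverts : ∀ p q : T (2 * 2), (p * p = a' 2 ∨ p * p = b' 2) → q * p * q⁻¹ = p⁻¹ →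
    q.e = true ∧ q.d = false := by decide

theorem comm_al : al * a' 2 = a' 2 * al := by decide
theorem comm_be : be * a' 2 = a' 2 * be := by decide
theorem comm_t : t 2 * a' 2 = a' 2 * t 2 := by decide

theorem decomp : ∀ x : T (2 * 2), x.d = false →
    x = al ^ x.i.val * be ^ x.j.val * (cond x.e (t 2) 1) := by decide

theorem InV_sq : ∀ p : T (2 * 2), InA p → InV (p * p) := by decide

set_option maxRecDepth 100000 in
theorem InV_mul : ∀ p q : T (2 * 2), InV p → InV q → InV (p * q) := by decide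

set_option maxRecDepth 100000 in
theorem InE_mul : ∀ p q : T (2 * 2), InE p → InE q → InE (p * q) := by decide

set_option maxRecDepth 100000 in
theorem InA_mul : ∀ p q : T (2 * 2), InA p → InA q → InA (p * q) := by decide

set_option maxRecDepth 100000 in
theorem InA_of_mul : ∀ p q : T (2 * 2), InA q → InA (p * q) → InA p := by decide

theorem InE_cases : ∀ x : T (2 * 2), InE x → InV x ∨ InV (x * r 2) := by decide

theorem At_cases : ∀ q : T (2 * 2), q.e = true → q.d = false → q ≠ 1 ∧ (InE q ∨ InTT q ∨ InSS q) := by decide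

set_option maxRecDepth 100000 in
theorem InSS_of : ∀ c q : T (2 * 2), (c * c = a' 2 ∨ c * c = b' 2) → q.e = true → q.d = false →
    InE (c * q) → InSS q := by decide

theorem exists_fix : ∀ q : T (2 * 2), q.e = true → q.d = false → InTT q →
    ∃ x, InA x ∧ x * q * x⁻¹ = t 2 := by decide

set_option maxRecDepth 100000 in
theorem InA_conj : ∀ x v : T (2 * 2), InA x → InV v → x * v * x⁻¹ = v := by decide

theorem InE_al : ∀ p : T (2 * 2), InA p → p * p = z 2 → InE (p * t 2) := by decide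

theorem mul_e : ∀ p q : T (2 * 2), InA p → q.e = true → q.d = false → (p * q).e = true ∧ (p * q).d = false := by
  rintro ⟨i, j, e, d⟩ ⟨i', j', e', d'⟩ ⟨h1, h2⟩ h3 h4
  simp only at h1 h2 h3 h4
  subst h1 h2 h3 h4
  exact ⟨rfl, rfl⟩

section

variable {G : Type*} [Group G] [Finite G] {S : Sylow 2 G} {f : T (2 * 2) →* G}

/-- the raw data: images `p₁, p₂, q` of `(1,0), (0,1), t` under conjugation by an element moving `a'` to `z` -/
theorem exists_raw (P : Pat S f) : ∃ (g : G) (p₁ p₂ q : T (2 * 2)),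
    f p₁ = g * f al * g⁻¹ ∧ f p₂ = g * f be * g⁻¹ ∧ f q = g * f (t 2) * g⁻¹ ∧
    InA p₁ ∧ InA p₂ ∧ p₁ * p₁ = z 2 ∧ (p₂ * p₂ = a' 2 ∨ p₂ * p₂ = b' 2) ∧
    (p₁ * p₂ * (p₁ * p₂) = a' 2 ∨ p₁ * p₂ * (p₁ * p₂) = b' 2) ∧ q.e = true ∧ q.d = false := by
  obtain ⟨g, hg, hgS⟩ := exists_move_z P.range P.za.symm
  obtain ⟨p₁, hp₁⟩ := hgS al comm_al
  obtain ⟨p₂, hp₂⟩ := hgS be comm_be
  obtain ⟨q, hq⟩ := hgS (t 2) comm_t
  have hinj := P.inj
  -- conjugation by `g` after `f`
  set c : T (2 * 2) →* G := (MulAut.conj g).toMonoidHom.comp f with hc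
  have hcx : ∀ x, c x = g * f x * g⁻¹ := fun x => rfl
  have hcinj : Function.Injective c := (MulAut.conj g).injective.comp hinj
  rw [← hcx] at hp₁ hp₂ hq hg
  have e1 : p₁ * p₁ = z 2 := by
    apply hinj
    rw [map_mul, hp₁, ← map_mul, ← hg]
    exact congrArg c (by decide)
  have key : ∀ p y : T (2 * 2), f p = c y → y * y ≠ 1 → y * y * (y * y) = 1 → y * y ≠ a' 2 →
      (p * p = a' 2 ∨ p * p = b' 2) := by
    intro p y hp h1 h2 h3
    have hpp : f (p * p) = c (y * y) := by rw [map_mul, hp, ← map_mul]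
    rcases sq_cases p (fun h => h1 (hcinj (by rw [← hpp, h, map_one, map_one]))) (hinj (by
      rw [map_mul, hpp, ← map_mul, h2, map_one, map_one])) with h | h | h
    · exfalso
      apply h3
      apply hcinj
      rw [← hpp, h, hg]
    · exact Or.inl h
    · exact Or.inr h
  have e2 := key p₂ be hp₂ (by decide) (by decide) (by decide)
  have e3 := key (p₁ * p₂) (al * be) (by rw [map_mul, map_mul, hp₁, hp₂]) (by decide) (by decide) (by decide)
  have hA2 : InA p₂ := mem_A _ e2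
  have hA3 : InA (p₁ * p₂) := mem_A _ e3
  have hA1 : InA p₁ := InA_of_mul _ _ hA2 hA3
  have hqi : q * p₂ * q⁻¹ = p₂⁻¹ := by
    apply hinj
    rw [map_mul, map_mul, map_inv, map_inv, hq, hp₂, ← map_mul, ← map_inv, ← map_mul, ← map_inv]
    exact congrArg c (by decide)
  obtain ⟨he, hd⟩ := inverts p₂ q e2 hqi
  exact ⟨g, p₁, p₂, q, hp₁, hp₂, hq, hA1, hA2, e1, e2, e3, he, hd⟩

theorem exists_g0 (P : Pat S f) : ∃ g : G, g * f (a' 2) * g⁻¹ = f (z 2) ∧
    (∀ x, InV x → ∃ y, InV y ∧ g * f x * g⁻¹ = f y) ∧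
    ((IsConj (f (z 2)) (f (s 2)) ∧ g * f (t 2) * g⁻¹ = f (t 2) ∧ ∃ y, InE y ∧ g * f (s 2) * g⁻¹ = f y) ∨
      (IsConj (f (t 2)) (f (s 2)) ∧ (∀ x, InE x → ∃ y, InE y ∧ g * f x * g⁻¹ = f y) ∧
        ∃ y, InSS y ∧ g * f (t 2) * g⁻¹ = f y)) := by
  obtain ⟨g, p₁, p₂, q, hp₁, hp₂, hq, hA1, hA2, e1, e2, e3, he, hd⟩ := exists_raw P
  have hinj := P.inj
  set c : T (2 * 2) →* G := (MulAut.conj g).toMonoidHom.comp f with hc
  have hcx : ∀ x, g * f x * g⁻¹ = c x := fun x => rfl
  have hcinj : Function.Injective c := (MulAut.conj g).injective.comp hinj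
  rw [hcx] at hp₁ hp₂ hq
  have hV : ∀ x, InV x → ∃ y, InV y ∧ c x = f y := by
    intro x hx
    rcases InV_cases x hx with rfl | rfl | rfl | rfl
    · exact ⟨1, by decide, by rw [map_one, map_one]⟩
    · refine ⟨(p₁ * p₂) * (p₁ * p₂), InV_sq _ (InA_mul _ _ hA1 hA2), ?_⟩
      rw [map_mul, map_mul, hp₁, hp₂, ← map_mul, ← map_mul]
      exact congrArg c (by decide)
    · refine ⟨p₁ * p₁, InV_sq _ hA1, ?_⟩
      rw [map_mul, hp₁, ← map_mul]
      exact congrArg c (by decide)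
    · refine ⟨p₂ * p₂, InV_sq _ hA2, ?_⟩
      rw [map_mul, hp₂, ← map_mul]
      exact congrArg c (by decide)
  have ha : c (a' 2) = f (z 2) := by
    rw [← e1, map_mul, hp₁, ← map_mul]
    exact congrArg c (by decide)
  have hconj : ∀ x, IsConj (f x) (c x) := fun x => isConj_iff.2 ⟨g, rfl⟩
  rcases P.sz with hs | hs
  · -- `s` is conjugate to `z`: the coset `V t` is fixed
    have hqT : InTT q := by
      obtain ⟨hq1, h | h | h⟩ := At_cases q he hd
      · exfalso
        refine P.nzt ((P.isConj_E h hq1).trans ?_)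
        rw [hq]
        exact (hconj _).symm
      · exact h
      · exfalso
        refine P.nzt ((hs.trans (Pat.isConj_SS h)).trans ?_)
        rw [hq]
        exact (hconj _).symm
    obtain ⟨x, hx, hxq⟩ := exists_fix q he hd hqT
    have hmv : ∀ y v, InV v → c y = f v → (f x * g) * f y * (f x * g)⁻¹ = f v := by
      intro y v hv h
      have h1 : (f x * g) * f y * (f x * g)⁻¹ = f x * (g * f y * g⁻¹) * (f x)⁻¹ := by group
      rw [h1, hcx, h, ← map_inv, ← map_mul, ← map_mul, InA_conj x v hx hv]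
    refine ⟨f x * g, hmv _ _ (by decide) ha, fun y hy => ?_, Or.inl ⟨hs, ?_, ?_⟩⟩
    · obtain ⟨v, hv, h⟩ := hV y hy
      exact ⟨v, hv, hmv y v hv h⟩
    · have h1 : (f x * g) * f (t 2) * (f x * g)⁻¹ = f x * (g * f (t 2) * g⁻¹) * (f x)⁻¹ := by group
      rw [h1, hcx, ← hq, ← map_inv, ← map_mul, ← map_mul, hxq]
    · refine ⟨p₁ * t 2, InE_al p₁ hA1 e1, ?_⟩
      have h1 : (f x * g) * f (s 2) * (f x * g)⁻¹ = f x * (g * f (s 2) * g⁻¹) * (f x)⁻¹ := by group
      have h2 : c (s 2) = f (p₁ * q) := by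
        rw [map_mul, hp₁, hq, ← map_mul]
        exact congrArg c (by decide)
      rw [h1, hcx, h2, ← map_inv, ← map_mul, ← map_mul]
      congr 1
      have h3 : x * (p₁ * q) * x⁻¹ = (x * p₁ * x⁻¹) * (x * q * x⁻¹) := by group
      have h4 : x * p₁ * x⁻¹ = p₁ := by
        have : ∀ x y : T (2 * 2), InA x → InA y → x * y = y * x := by
          rintro ⟨i, j, e, d⟩ ⟨i', j', e', d'⟩ ⟨h1, h2⟩ ⟨h3, h4⟩
          simp only at h1 h2 h3 h4
          subst h1 h2 h3 h4
          simp only [T.mul_mk, sg_false, cond_false, one_mul, add_comm]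
        rw [this x p₁ hx hA1, mul_inv_cancel_right]
      rw [h3, h4, hxq]
  · -- `s` is conjugate to `t`: the coset `V r` is fixed
    have hr : c (r 2) = f (p₁ * p₂ * q) := by
      rw [map_mul, map_mul, hp₁, hp₂, hq, ← map_mul, ← map_mul]
      exact congrArg c (by decide)
    have hzr : IsConj (f (z 2)) (f (p₁ * p₂ * q)) := by
      rw [← hr]
      exact P.zr.trans (hconj _)
    have hE : InE (p₁ * p₂ * q) := by
      obtain ⟨h5, h6⟩ := mul_e (p₁ * p₂) q (InA_mul _ _ hA1 hA2) he hd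
      obtain ⟨hq1, h | h | h⟩ := At_cases (p₁ * p₂ * q) h5 h6
      · exact h
      · exact absurd (hzr.trans (P.isConj_TT h).symm) P.nzt
      · exact absurd (hzr.trans (hs.trans (Pat.isConj_SS h)).symm) P.nzt
    refine ⟨g, ha, hV, Or.inr ⟨hs, fun x hx => ?_, q, InSS_of _ _ e3 he hd hE, hq.symm⟩⟩
    rcases InE_cases x hx with h | h
    · obtain ⟨y, hy, hy'⟩ := hV x h
      exact ⟨y, InE_of_InV y hy, hy'⟩
    · obtain ⟨y, hy, hy'⟩ := hV _ h
      refine ⟨y * (p₁ * p₂ * q), InE_mul _ _ (InE_of_InV y hy) hE, ?_⟩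
      rw [hcx, map_mul, ← hy', ← hr, ← map_mul]
      refine congrArg c ?_
      have : r 2 * r 2 = (1 : T (2 * 2)) := by decide
      rw [mul_assoc, this, mul_one]

end

end Cfsg.Agent.MTwelveType.GZero
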