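import Cfsg.Agent.MTwelveType.CaseA
import Cfsg.Agent.MTwelveType.FusOf
import Cfsg.Agent.MTwelveType.GZero

/-!
# Sylow type `M₁₂`, pattern (a): the order is 95040 (S1741, task T8)
-/

set_option autoImplicit false

namespace Cfsg.Agent.MTwelveType.MainA

open Cfsg.Agent.ClassificationK.GTwoModel Cfsg.Agent.ClassificationK.GTwoModel.T
open Cfsg.Agent.MTwelveType.Base Subgroup
open Cfsg.Agent.MTwelveType.FusDef

universe v

/-- the consequences of Lemma K and of the order formula needed for the assembly -/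
def OrderStatement : Prop :=
  ∀ (X : Type v) [Group X] [Finite X] (z t : X), Fus z t →
    Nat.card X = 95040 ∧ Nat.card (Subgroup.centralizer {t}) = 240 ∧
    ∀ B : Subgroup X, t ∈ B → B ≤ Subgroup.centralizer {t} →
      (∀ x, IsConj z x → x * t = t * x → ∃ b ∈ B, b * z * b⁻¹ = x) → Nat.card B ∣ 60 → False

theorem card_subgroupOf {G : Type*} [Group G] {M W : Subgroup G} (h : W ≤ M) :
    Nat.card (W.subgroupOf M) = Nat.card W :=
  Nat.card_congr (Subgroup.subgroupOfEquivOfLe h).toEquiv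

/-- a finite simple group has no nontrivial normal subgroup of odd order if it has an involution -/
theorem eq_bot_of_normal {G : Type*} [Group G] [Finite G] [IsSimpleGroup G] (W : Subgroup G) (hW : W.Normal)
    (hodd : Odd (Nat.card W)) (x : G) (hx : orderOf x = 2) : W = ⊥ := by
  rcases hW.eq_bot_or_eq_top with h | h
  · exact h
  · exfalso
    rw [h, Subgroup.card_top] at hodd
    have : 2 ∣ Nat.card G := by rw [← hx]; exact orderOf_dvd_natCard _
    rw [← Nat.not_even_iff_odd, even_iff_two_dvd] at hodd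
    exact hodd this

/-- pattern (a) : the order of `G` -/
theorem card_eq {G : Type v} [Group G] [Finite G] [IsSimpleGroup G] {S : Sylow 2 G} {f : T (2 * 2) →* G}
    (hord : OrderStatement.{v}) (P : Pat S f)
    (W : Subgroup G) (hW : Odd (Nat.card W))
    (hWC : W ⊓ Subgroup.centralizer {f (z 2)} = Cfsg.centralizerPPrimeCore 2 (f (z 2)))
    (hWn : Subgroup.centralizer {f (z 2)} ≤ Subgroup.normalizer (W : Set G))
    (hSW : (S : Subgroup G) ≤ Subgroup.normalizer (W : Set G))
    (g : G) (hg : g ∈ Subgroup.normalizer (W : Set G)) (hga : g * f (a' 2) * g⁻¹ = f (z 2))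
    (hgt : g * f (t 2) * g⁻¹ = f (t 2)) (hgs : ∃ y, InE y ∧ g * f (s 2) * g⁻¹ = f y)
    (hQ : ∀ c ∈ Subgroup.centralizer {f (z 2)}, ∀ q, InQ q →
      ∃ q', InQ q' ∧ ∃ o ∈ Cfsg.centralizerPPrimeCore 2 (f (z 2)), c * f q * c⁻¹ = f q' * o)
    (hC : Nat.card (Subgroup.centralizer {f (z 2)}) = 192 * Nat.card (Cfsg.centralizerPPrimeCore 2 (f (z 2)))) :
    Nat.card G = 95040 := by
  set M : Subgroup G := Subgroup.normalizer (W : Set G) with hM
  have hWM : W ≤ M := Subgroup.le_normalizer
  have hfM : ∀ x, f x ∈ M := fun x => hSW (P.mem_S x)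
  set K : Subgroup M := W.subgroupOf M with hKdef
  have hKn : K.Normal := Subgroup.normal_in_normalizer
  have hKcard : Nat.card K = Nat.card W := card_subgroupOf hWM
  have hKodd : Odd (Nat.card K) := by rw [hKcard]; exact hW
  -- `s` is conjugate to `z` in `M`
  have hcen : ∀ {a b : G}, (∃ c, c * f (z 2) = f (z 2) * c ∧ c * a * c⁻¹ = b) → ∃ m ∈ M, m * a * m⁻¹ = b := by
    rintro a b ⟨c, hc, h⟩
    exact ⟨c, hWn (mem_centralizer_singleton_iff.2 hc), h⟩
  have hza : ∃ m ∈ M, m * f (z 2) * m⁻¹ = f (a' 2) := Embedded.conj_symm ⟨g, hg, hga⟩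
  have hzs : ∃ m ∈ M, m * f (z 2) * m⁻¹ = f (s 2) := by
    obtain ⟨y, hy, hys⟩ := hgs
    have hy1 : y ≠ 1 := by
      rintro rfl
      rw [map_one] at hys
      have h1 : f (s 2) = 1 := by
        calc f (s 2) = g⁻¹ * (g * f (s 2) * g⁻¹) * g := by group
          _ = 1 := by rw [hys]; group
      exact absurd (P.inj (h1.trans (map_one f).symm)) (by decide)
    have hmap : ∀ {p q : T (2 * 2)}, (∃ k, k * p * k⁻¹ = q) → ∃ m ∈ M, m * f p * m⁻¹ = f q := by
      rintro p q ⟨k, rfl⟩
      exact ⟨f k, hfM k, by rw [map_mul, map_mul, map_inv]⟩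
    have h2 : ∃ m ∈ M, m * f (z 2) * m⁻¹ = f y := by
      rcases conj_of_InE y hy hy1 with rfl | h1 | h1
      · exact ⟨1, M.one_mem, by simp⟩
      · exact Embedded.conj_trans hza (hmap h1)
      · exact Embedded.conj_trans (Embedded.conj_trans hza (hcen (Fusion.exists_ar P))) (hmap h1)
    exact Embedded.conj_trans h2 (Embedded.conj_symm ⟨g, hg, hys⟩)
  -- the pattern in `M` and in `M / W`
  have P1 : Pat (S.subtype hSW) (f.codRestrict M hfM) :=
    PatQuot.pat_sub P M hSW hfM hWn ⟨g, hg, hga⟩ (Or.inl hzs)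
  obtain ⟨S', P2⟩ := PatQuot.pat_quot P1 K hKodd
  have hz2 : orderOf (f (z 2)) = 2 := PatQuot.orderOf_f P (by decide) (by decide)
  have hzM2 : orderOf (⟨f (z 2), hfM _⟩ : M) = 2 := by rw [Subgroup.orderOf_mk]; exact hz2
  -- the order of the centralizer in `M / W`
  have hC2 : Nat.card (Subgroup.centralizer {(((⟨f (z 2), hfM _⟩ : M) : M ⧸ K))}) = 192 := by
    have h1 := PatQuot.card_centralizer_quot K hKodd (⟨f (z 2), hfM _⟩ : M) hzM2
    have h2 : Nat.card (Subgroup.centralizer {(⟨f (z 2), hfM _⟩ : M)}) = Nat.card (Subgroup.centralizer {f (z 2)}) := by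
      refine Nat.card_congr
        { toFun := fun x => ⟨(x : M), ?_⟩
          invFun := fun x => ⟨⟨x, hWn x.2⟩, ?_⟩
          left_inv := fun x => rfl
          right_inv := fun x => rfl }
      · have := mem_centralizer_singleton_iff.1 x.2
        exact mem_centralizer_singleton_iff.2 (congrArg Subtype.val this)
      · have := mem_centralizer_singleton_iff.1 x.2
        exact mem_centralizer_singleton_iff.2 (Subtype.ext this)
    have h3 : Nat.card ↥(K ⊓ Subgroup.centralizer {(⟨f (z 2), hfM _⟩ : M)}) =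
        Nat.card (Cfsg.centralizerPPrimeCore 2 (f (z 2))) := by
      rw [← hWC]
      refine Nat.card_congr
        { toFun := fun x => ⟨((x : M) : G), x.2.1, ?_⟩
          invFun := fun x => ⟨⟨x, hWM x.2.1⟩, x.2.1, ?_⟩
          left_inv := fun x => rfl
          right_inv := fun x => rfl }
      · have := mem_centralizer_singleton_iff.1 x.2.2
        exact mem_centralizer_singleton_iff.2 (congrArg Subtype.val this)
      · have := mem_centralizer_singleton_iff.1 x.2.2
        exact mem_centralizer_singleton_iff.2 (Subtype.ext this)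
    rw [h2, h3, hC] at h1
    exact Nat.eq_of_mul_eq_mul_right Nat.card_pos h1
  have hs2 : IsConj ((((QuotientGroup.mk' K).comp (f.codRestrict M hfM)) (z 2)))
      (((QuotientGroup.mk' K).comp (f.codRestrict M hfM)) (s 2)) := by
    obtain ⟨m, hm, hms⟩ := hzs
    refine (QuotientGroup.mk' K).map_isConj (isConj_iff.2 ⟨⟨m, hm⟩, ?_⟩)
    exact Subtype.ext hms
  have hQ2 : ∀ c ∈ Subgroup.centralizer ({((QuotientGroup.mk' K).comp (f.codRestrict M hfM)) (z 2)} : Set (M ⧸ K)),
      ∀ q, Base.InQ q → ∃ q', Base.InQ q' ∧ c * ((QuotientGroup.mk' K).comp (f.codRestrict M hfM)) q * c⁻¹ =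
        ((QuotientGroup.mk' K).comp (f.codRestrict M hfM)) q' := by
    intro c hc q hq
    obtain ⟨c, rfl, hc'⟩ := PatQuot.exists_lift_centralizer K hKodd ⟨f (z 2), hfM _⟩ hzM2 c
      (mem_centralizer_singleton_iff.1 hc)
    obtain ⟨q', hq', o, ho, h⟩ := hQ c (mem_centralizer_singleton_iff.2 (congrArg Subtype.val hc')) q hq
    have hoW : o ∈ W := by
      rw [← hWC] at ho
      exact ho.1
    refine ⟨q', hq', ?_⟩
    have h1 : c * (f.codRestrict M hfM q) * c⁻¹ = (f.codRestrict M hfM q') * ⟨o, hWM hoW⟩ := Subtype.ext h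
    have h2 : (((⟨o, hWM hoW⟩ : M) : M ⧸ K)) = 1 := (QuotientGroup.eq_one_iff _).2 hoW
    have h3 := congrArg (QuotientGroup.mk' K) h1
    rw [map_mul, map_mul, map_inv, map_mul] at h3
    change _ = _ * (((⟨o, hWM hoW⟩ : M) : M ⧸ K)) at h3
    rw [h2, mul_one] at h3
    exact h3
  have F := FusOf.fus_of P2 hs2 hC2 hQ2
  obtain ⟨h95, h240, hnt⟩ := hord (M ⧸ K) _ _ F
  have hct : Subgroup.centralizer {f (t 2)} ≤ M :=
    CaseA.centralizer_t_le P M hSW hWn g hg hga hgt hzs K hKodd F h240 hnt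
  -- so `M = G`
  have hMtop : M = ⊤ := by
    by_contra hne
    exact Embedded.false_of_embedded P M hne hSW hWn hct g hg hga (Or.inl hzs)
  have hWn : W.Normal := by
    rw [← Subgroup.normalizer_eq_top_iff]
    exact hMtop
  have hWbot : W = ⊥ := eq_bot_of_normal W hWn hW _ hz2
  have h4 : Nat.card M = Nat.card (M ⧸ K) * Nat.card K := Subgroup.card_eq_card_quotient_mul_card_subgroup K
  rw [hKcard, hWbot, Subgroup.card_bot, mul_one, h95, hMtop, Subgroup.card_top] at h4
  exact h4

end Cfsg.Agent.MTwelveType.MainA
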