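import Mathlib
import Cfsg.Agent.S0213
import Cfsg.Agent.Involutions.PairCount
import Cfsg.Agent.MTwelveType.FusDef

/-!
# The order of a group with the fusion of `M₁₂` (S1741, part T4)

From the fusion data `Fus z t` and Lemma K in `C(t)` (file `LemmaK.lean`) we compute `|G| = 95040` by the
Thompson order formula.
-/

set_option autoImplicit false

namespace Cfsg.Agent.MTwelveType.Order

open Subgroup Cfsg.Agent.MTwelveType.FusDef

/-! ### General tools -/

section tools

variable {G : Type*} [Group G]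

theorem mul_self_of_orderOf {x : G} (hx : orderOf x = 2) : x * x = 1 := by
  rw [← pow_two, ← hx, pow_orderOf_eq_one]

theorem ne_one_of_orderOf {x : G} (hx : orderOf x = 2) : x ≠ 1 := by
  rintro rfl; simp at hx

theorem orderOf_of_mul_self {x : G} (hx : x * x = 1) (h1 : x ≠ 1) : orderOf x = 2 :=
  orderOf_eq_prime (by rw [pow_two]; exact hx) h1

theorem orderOf_of_isConj {x y : G} (h : IsConj x y) : orderOf y = orderOf x := by
  obtain ⟨c, hc⟩ := isConj_iff.mp h
  rw [← hc]
  exact orderOf_injective (MulAut.conj c).toMonoidHom (MulAut.conj c).injective x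

theorem comm_of_mem_zpowers {x y w : G} (hx : x * x = 1) (hy : y * y = 1) (hw : w * w = 1)
    (h : w ∈ zpowers (x * y)) : x * w = w * x ∧ y * w = w * y := by
  obtain ⟨k, rfl⟩ := mem_zpowers_iff.mp h
  have hxi : x⁻¹ = x := (eq_inv_of_mul_eq_one_left hx).symm
  have hyi : y⁻¹ = y := (eq_inv_of_mul_eq_one_left hy).symm
  have hwi : ((x * y) ^ k)⁻¹ = (x * y) ^ k := (eq_inv_of_mul_eq_one_left hw).symm
  have h1 : x * (x * y) * x⁻¹ = (x * y)⁻¹ := by
    rw [mul_inv_rev, hyi, hxi, ← mul_assoc, hx, one_mul]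
  have h2 : x * (x * y) ^ k * x⁻¹ = (x * y) ^ k := by
    rw [← conj_zpow, h1, inv_zpow, hwi]
  have h3 : x * (x * y) ^ k = (x * y) ^ k * x := by
    calc x * (x * y) ^ k = x * (x * y) ^ k * x⁻¹ * x := by group
      _ = (x * y) ^ k * x := by rw [h2]
  refine ⟨h3, ?_⟩
  have h4 : (x * y) * (x * y) ^ k = (x * y) ^ k * (x * y) := by
    rw [← zpow_one_add, ← zpow_add_one, add_comm]
  have h5 : x * (y * (x * y) ^ k) = x * ((x * y) ^ k * y) := by
    calc x * (y * (x * y) ^ k) = (x * y) * (x * y) ^ k := by group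
      _ = (x * y) ^ k * (x * y) := h4
      _ = ((x * y) ^ k * x) * y := by group
      _ = (x * (x * y) ^ k) * y := by rw [h3]
      _ = x * ((x * y) ^ k * y) := by group
  exact mul_left_cancel h5

theorem card_sigma_const {α : Type*} [Finite α] {β : α → Type*} [∀ a, Finite (β a)] (n : ℕ)
    (h : ∀ a, Nat.card (β a) = n) : Nat.card (Σ a, β a) = Nat.card α * n := by
  classical
  have := Fintype.ofFinite α
  rw [Nat.card_sigma, Finset.sum_congr rfl (fun a _ => h a), Finset.sum_const, Finset.card_univ,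
    Nat.card_eq_fintype_card, smul_eq_mul]

theorem card_conj (g : G) (p q : G → Prop) (h : ∀ x, p x ↔ q (g * x * g⁻¹)) :
    Nat.card {x // p x} = Nat.card {x // q x} :=
  Nat.card_congr ((MulAut.conj g).toEquiv.subtypeEquiv (fun x => by simpa using h x))

theorem isConj_conj {a x : G} (g : G) : IsConj a x ↔ IsConj a (g * x * g⁻¹) := by
  have h1 : IsConj x (g * x * g⁻¹) := isConj_iff.mpr ⟨g, rfl⟩
  exact ⟨fun h => h.trans h1, fun h => h.trans h1.symm⟩

theorem comm_conj {x y : G} (g : G) :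
    x * y = y * x ↔ (g * x * g⁻¹) * (g * y * g⁻¹) = (g * y * g⁻¹) * (g * x * g⁻¹) := by
  have h1 : (g * x * g⁻¹) * (g * y * g⁻¹) = g * (x * y) * g⁻¹ := by group
  have h2 : (g * y * g⁻¹) * (g * x * g⁻¹) = g * (y * x) * g⁻¹ := by group
  rw [h1, h2]
  constructor
  · intro h; rw [h]
  · intro h; exact mul_left_cancel (mul_right_cancel h)

theorem conj_fix {g y : G} (h : g * y = y * g) : g * y * g⁻¹ = y := by
  rw [h, mul_inv_cancel_right]

/-- the length of a conjugacy class under a subgroup -/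
theorem card_orbit [Finite G] (C : Subgroup G) (x : G) :
    Nat.card {y : G // ∃ c ∈ C, c * x * c⁻¹ = y} * Nat.card (C ⊓ centralizer {x} : Subgroup G) =
      Nat.card C := by
  classical
  let A : MulAction C G :=
    { smul := fun c y => (c : G) * y * (c : G)⁻¹
      one_smul := fun y => by change ((1 : C) : G) * y * ((1 : C) : G)⁻¹ = y; simp
      mul_smul := fun a b y => by
        change ((a * b : C) : G) * y * ((a * b : C) : G)⁻¹ =
          (a : G) * ((b : G) * y * (b : G)⁻¹) * (a : G)⁻¹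
        rw [coe_mul]; group }
  have hs : ∀ (c : C) (y : G), c • y = (c : G) * y * (c : G)⁻¹ := fun _ _ => rfl
  have h1 : Nat.card (MulAction.orbit C x) * Nat.card (MulAction.stabilizer C x) = Nat.card C := by
    rw [← Nat.card_prod]
    exact Nat.card_congr (MulAction.orbitProdStabilizerEquivGroup C x)
  have h2 : Nat.card (MulAction.orbit C x) = Nat.card {y : G // ∃ c ∈ C, c * x * c⁻¹ = y} := by
    apply Nat.card_congr
    refine Equiv.subtypeEquivRight (fun y => ?_)
    rw [MulAction.mem_orbit_iff]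
    constructor
    · rintro ⟨c, hc⟩; exact ⟨c, c.2, by rw [← hc, hs]⟩
    · rintro ⟨c, hc, hy⟩; exact ⟨⟨c, hc⟩, by rw [hs]; exact hy⟩
  have h3 : Nat.card (MulAction.stabilizer C x) = Nat.card (C ⊓ centralizer {x} : Subgroup G) := by
    apply Nat.card_congr
    exact {
      toFun := fun c => ⟨c.1.1, mem_inf.2 ⟨c.1.2, mem_centralizer_singleton_iff.2 (by
        have := c.2
        rw [MulAction.mem_stabilizer_iff, hs] at this
        calc (c.1.1 : G) * x = (c.1.1 * x * c.1.1⁻¹) * c.1.1 := by group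
          _ = x * c.1.1 := by rw [this])⟩⟩
      invFun := fun c => ⟨⟨c.1, (mem_inf.1 c.2).1⟩, by
        have := mem_centralizer_singleton_iff.1 (mem_inf.1 c.2).2
        rw [MulAction.mem_stabilizer_iff, hs]
        change c.1 * x * c.1⁻¹ = x
        rw [this]; group⟩
      left_inv := fun c => rfl
      right_inv := fun c => rfl }
  rw [← h2, ← h3, h1]

/-- A cyclic group has at most one involution. -/
theorem eq_of_mem_zpowers [Finite G] {g v w : G} (hv : v ∈ zpowers g) (hw : w ∈ zpowers g)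
    (hv2 : orderOf v = 2) (hw2 : orderOf w = 2) : v = w := by
  classical
  have := Fintype.ofFinite (zpowers g)
  have hc : (Finset.univ.filter fun a : zpowers g => orderOf a = 2).card = 1 := by
    rw [IsCyclic.card_orderOf_eq_totient (d := 2)]
    · decide
    · rw [← Nat.card_eq_fintype_card, ← hv2, ← Subgroup.orderOf_mk v hv]
      exact orderOf_dvd_natCard _
  rw [Finset.card_eq_one] at hc
  obtain ⟨a, ha⟩ := hc
  have h1 : (⟨v, hv⟩ : zpowers g) ∈ ({a} : Finset (zpowers g)) := by
    rw [← ha, Finset.mem_filter]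
    exact ⟨Finset.mem_univ _, by rw [Subgroup.orderOf_mk]; exact hv2⟩
  have h2 : (⟨w, hw⟩ : zpowers g) ∈ ({a} : Finset (zpowers g)) := by
    rw [← ha, Finset.mem_filter]
    exact ⟨Finset.mem_univ _, by rw [Subgroup.orderOf_mk]; exact hw2⟩
  rw [Finset.mem_singleton] at h1 h2
  exact congrArg Subtype.val (h1.trans h2.symm)

/-- Centralisers in a subgroup. -/
theorem card_centralizer_sub (H : Subgroup G) (x : H) :
    Nat.card (centralizer ({x} : Set H)) = Nat.card {g : G // g ∈ H ∧ g * x = x * g} := by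
  apply Nat.card_congr
  exact {
    toFun := fun c => ⟨c.1.1, c.1.2, congrArg Subtype.val (mem_centralizer_singleton_iff.1 c.2)⟩
    invFun := fun c => ⟨⟨c.1, c.2.1⟩, mem_centralizer_singleton_iff.2 (Subtype.ext c.2.2)⟩
    left_inv := fun c => rfl
    right_inv := fun c => rfl }

end tools

section Fus

variable {G : Type*} [Group G] {z t : G} (F : Fus z t)
include F

theorem zz : z * z = 1 := mul_self_of_orderOf F.hz

theorem tt : t * t = 1 := mul_self_of_orderOf F.ht

/-- the property of being a z-type, on `C(t)` -/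
def P (z t : G) (x : centralizer ({t} : Set G)) : Prop := IsConj z (x : G)

theorem orderOf_z {x : G} (hx : IsConj z x) : orderOf x = 2 := (orderOf_of_isConj hx).trans F.hz

theorem orderOf_t {x : G} (hx : IsConj t x) : orderOf x = 2 := (orderOf_of_isConj hx).trans F.ht

variable [Finite G]

theorem card_zt : Nat.card {g : G // g * t = t * g ∧ g * z = z * g} = 16 := by
  have h := card_orbit (centralizer ({z} : Set G)) t
  have h1 : Nat.card {y : G // ∃ c ∈ centralizer ({z} : Set G), c * t * c⁻¹ = y} = 12 := by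
    rw [← F.card12]
    refine Nat.card_congr (Equiv.subtypeEquivRight fun y => ?_)
    constructor
    · rintro ⟨c, hc, rfl⟩
      rw [mem_centralizer_singleton_iff] at hc
      refine ⟨isConj_iff.2 ⟨c, rfl⟩, ?_⟩
      have h2 := (comm_conj (x := t) (y := z) c).1 F.comm.symm
      rwa [conj_fix hc] at h2
    · rintro ⟨hy, hyz⟩
      obtain ⟨c, hc, hcy⟩ := F.pair y hy hyz
      exact ⟨c, mem_centralizer_singleton_iff.2 hc, hcy⟩
  rw [h1, F.cardC] at h
  have h2 : Nat.card (centralizer ({z} : Set G) ⊓ centralizer ({t} : Set G) : Subgroup G) =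
      Nat.card {g : G // g * t = t * g ∧ g * z = z * g} := by
    refine Nat.card_congr (Equiv.subtypeEquivRight fun y => ?_)
    rw [mem_inf, mem_centralizer_singleton_iff, mem_centralizer_singleton_iff]
    exact and_comm
  rw [← h2]
  omega

theorem card_Ct :
    Nat.card (centralizer ({t} : Set G)) =
      Nat.card {x : centralizer ({t} : Set G) // P z t x} * 16 := by
  rw [← card_orbit (centralizer ({t} : Set G)) z, ← card_zt F]
  congr 1
  · apply Nat.card_congr
    exact {
      toFun := fun y => ⟨⟨y.1, by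
          obtain ⟨c, hc, h⟩ := y.2
          rw [mem_centralizer_singleton_iff] at hc ⊢
          have h2 := (comm_conj (x := z) (y := t) c).1 F.comm
          rw [conj_fix hc, h] at h2
          exact h2⟩, by
          obtain ⟨c, hc, h⟩ := y.2
          exact isConj_iff.2 ⟨c, h⟩⟩
      invFun := fun y => ⟨y.1.1, by
          obtain ⟨h, hh, hy⟩ := F.conj_t y.1.1 y.2 (mem_centralizer_singleton_iff.1 y.1.2)
          exact ⟨h, mem_centralizer_singleton_iff.2 hh, hy⟩⟩
      left_inv := fun y => rfl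
      right_inv := fun y => rfl }
  · refine Nat.card_congr (Equiv.subtypeEquivRight fun y => ?_)
    rw [mem_inf, mem_centralizer_singleton_iff, mem_centralizer_singleton_iff]

/-! ### The hypotheses of Lemma K -/

omit [Finite G]

theorem k_ht : orderOf (⟨t, mem_centralizer_singleton_iff.2 rfl⟩ : centralizer ({t} : Set G)) = 2 := by
  rw [Subgroup.orderOf_mk]; exact F.ht

omit F in
theorem k_htc (h : centralizer ({t} : Set G)) :
    h * ⟨t, mem_centralizer_singleton_iff.2 rfl⟩ = ⟨t, mem_centralizer_singleton_iff.2 rfl⟩ * h :=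
  Subtype.ext (mem_centralizer_singleton_iff.1 h.2)

theorem k_hne : ∃ x : centralizer ({t} : Set G), P z t x :=
  ⟨⟨z, mem_centralizer_singleton_iff.2 F.comm⟩, IsConj.refl z⟩

theorem k_hP2 (x : centralizer ({t} : Set G)) (hx : P z t x) : orderOf x = 2 := by
  rw [← Subgroup.orderOf_coe]; exact orderOf_z F hx

theorem k_hPt : ¬ P z t ⟨t, mem_centralizer_singleton_iff.2 rfl⟩ := F.nconj

omit F in
theorem k_hPi (x g : centralizer ({t} : Set G)) (hx : P z t x) : P z t (g * x * g⁻¹) :=
  (isConj_conj (x := (x : G)) (g : G)).1 hx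

theorem k_hPc (x y : centralizer ({t} : Set G)) (hx : P z t x) (hy : P z t y) : IsConj x y := by
  obtain ⟨h, hh, hx'⟩ := F.conj_t x hx (mem_centralizer_singleton_iff.1 x.2)
  obtain ⟨k, hk, hy'⟩ := F.conj_t y hy (mem_centralizer_singleton_iff.1 y.2)
  rw [isConj_iff]
  refine ⟨⟨k, mem_centralizer_singleton_iff.2 hk⟩ * ⟨h, mem_centralizer_singleton_iff.2 hh⟩⁻¹, ?_⟩
  apply Subtype.ext
  change (k * h⁻¹) * (x : G) * (k * h⁻¹)⁻¹ = y
  rw [← hx', ← hy']
  group

theorem k_hmul (x y : centralizer ({t} : Set G)) (hx : P z t x) (hy : P z t y) (hxy : x ≠ y)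
    (hc : x * y = y * x) : P z t (x * y) :=
  F.mul_z x y hx hy (fun h => hxy (Subtype.ext h)) (congrArg Subtype.val hc)

theorem k_h3 (x : centralizer ({t} : Set G)) (hx : P z t x) :
    Nat.card {y : centralizer ({t} : Set G) // P z t y ∧ y * x = x * y} = 3 := by
  obtain ⟨h, hh, hx'⟩ := F.conj_t x hx (mem_centralizer_singleton_iff.1 x.2)
  rw [← F.card3, card_conj h (fun y => IsConj z y ∧ y * z = z * y ∧ y * t = t * y)
    (fun y => IsConj z y ∧ y * x = x * y ∧ y * t = t * y)]
  · apply Nat.card_congr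
    exact {
      toFun := fun y => ⟨y.1.1, y.2.1, congrArg Subtype.val y.2.2,
        mem_centralizer_singleton_iff.1 y.1.2⟩
      invFun := fun y => ⟨⟨y.1, mem_centralizer_singleton_iff.2 y.2.2.2⟩, y.2.1,
        Subtype.ext y.2.2.1⟩
      left_inv := fun y => rfl
      right_inv := fun y => rfl }
  · intro y
    have h2 := comm_conj (x := y) (y := z) h
    have h3 := comm_conj (x := y) (y := t) h
    rw [hx'] at h2
    rw [conj_fix hh] at h3
    rw [← isConj_conj h, ← h2, ← h3]

theorem k_h16 [Finite G] (x : centralizer ({t} : Set G)) (hx : P z t x) :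
    Nat.card (centralizer ({x} : Set (centralizer ({t} : Set G)))) = 16 := by
  obtain ⟨h, hh, hx'⟩ := F.conj_t x hx (mem_centralizer_singleton_iff.1 x.2)
  rw [card_centralizer_sub, ← card_zt F, card_conj h (fun y => y * t = t * y ∧ y * z = z * y)
    (fun y => y * t = t * y ∧ y * x = x * y)]
  · refine Nat.card_congr (Equiv.subtypeEquivRight fun y => ?_)
    rw [mem_centralizer_singleton_iff]
  · intro y
    have h2 := comm_conj (x := y) (y := z) h
    have h3 := comm_conj (x := y) (y := t) h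
    rw [hx'] at h2
    rw [conj_fix hh] at h3
    rw [← h2, ← h3]

theorem k_h8 (x y : centralizer ({t} : Set G)) (hx : P z t x) (hy : P z t y) (hxy : x ≠ y)
    (hc : x * y = y * x) :
    Nat.card (centralizer ({x} : Set (centralizer ({t} : Set G))) ⊓
      centralizer ({y} : Set (centralizer ({t} : Set G))) : Subgroup (centralizer ({t} : Set G))) =
      8 := by
  obtain ⟨h, hh, hx'⟩ := F.conj_t x hx (mem_centralizer_singleton_iff.1 x.2)
  -- move `x` to `z`
  set y' : G := h⁻¹ * y * h⁻¹⁻¹ with hy'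
  have hy1 : IsConj z y' := (isConj_conj (x := (y : G)) h⁻¹).1 hy
  have hyy : h * y' * h⁻¹ = y := by rw [hy']; group
  have hzx : h⁻¹ * (x : G) * h⁻¹⁻¹ = z := by rw [← hx']; group
  have hh' : h⁻¹ * t = t * h⁻¹ := by
    calc h⁻¹ * t = h⁻¹ * (t * h) * h⁻¹ := by group
      _ = t * h⁻¹ := by rw [← hh]; group
  have hy2 : y' * z = z * y' := by
    have h1 := (comm_conj (x := (y : G)) (y := (x : G)) h⁻¹).1 (congrArg Subtype.val hc.symm)
    rwa [hzx] at h1
  have hy3 : y' * t = t * y' := by
    have h1 := (comm_conj (x := (y : G)) (y := t) h⁻¹).1 (mem_centralizer_singleton_iff.1 y.2)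
    rwa [conj_fix hh'] at h1
  have hy4 : y' ≠ z := by
    intro h0
    apply hxy
    apply Subtype.ext
    rw [← hx', ← hyy, h0]
  have h8 := F.card8 y' hy1 hy4 hy2 hy3
  rw [← h8]
  have h9 : Nat.card (centralizer ({z} : Set G) ⊓ centralizer ({y'} : Set G) ⊓
      centralizer ({t} : Set G) : Subgroup G) =
      Nat.card {g : G // g * z = z * g ∧ g * y' = y' * g ∧ g * t = t * g} := by
    refine Nat.card_congr (Equiv.subtypeEquivRight fun g => ?_)
    rw [mem_inf, mem_inf, mem_centralizer_singleton_iff, mem_centralizer_singleton_iff,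
      mem_centralizer_singleton_iff, and_assoc]
  rw [h9, card_conj h (fun g => g * z = z * g ∧ g * y' = y' * g ∧ g * t = t * g)
    (fun g => g * x = x * g ∧ g * y = y * g ∧ g * t = t * g)]
  · apply Nat.card_congr
    exact {
      toFun := fun g => ⟨g.1.1, congrArg Subtype.val (mem_centralizer_singleton_iff.1 (mem_inf.1 g.2).1),
        congrArg Subtype.val (mem_centralizer_singleton_iff.1 (mem_inf.1 g.2).2),
        mem_centralizer_singleton_iff.1 g.1.2⟩
      invFun := fun g => ⟨⟨g.1, mem_centralizer_singleton_iff.2 g.2.2.2⟩, mem_inf.2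
        ⟨mem_centralizer_singleton_iff.2 (Subtype.ext g.2.1),
          mem_centralizer_singleton_iff.2 (Subtype.ext g.2.2.1)⟩⟩
      left_inv := fun y => rfl
      right_inv := fun y => rfl }
  · intro g
    have h2 := comm_conj (x := g) (y := z) h
    have h3 := comm_conj (x := g) (y := t) h
    have h4 := comm_conj (x := g) (y := y') h
    rw [hx'] at h2
    rw [conj_fix hh] at h3
    rw [hyy] at h4
    rw [← h2, ← h3, ← h4]

/-! ### The second term of the order formula -/

omit F in
/-- in a dihedral group: `x (x y)^(2 m) = (x y)^(-m) x (x y)^m` -/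
theorem dihedral_conj {x y : G} (hx : x * x = 1) (hy : y * y = 1) (m : ℤ) :
    (x * y) ^ (-m) * x * ((x * y) ^ (-m))⁻¹ = x * (x * y) ^ (2 * m) := by
  have hxi : x⁻¹ = x := (eq_inv_of_mul_eq_one_left hx).symm
  have hyi : y⁻¹ = y := (eq_inv_of_mul_eq_one_left hy).symm
  have h1 : x * (x * y) * x⁻¹ = (x * y)⁻¹ := by
    rw [mul_inv_rev, hyi, hxi, ← mul_assoc, hx, one_mul]
  have h2 : x * (x * y) ^ m * x⁻¹ = (x * y) ^ (-m) := by
    rw [← conj_zpow, h1, inv_zpow, zpow_neg]
  rw [← h2]
  have h3 : (x * (x * y) ^ m * x⁻¹) * x * (x * (x * y) ^ m * x⁻¹)⁻¹ =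
      x * (x * y) ^ m * (x * (x * y) ^ (-m) * x⁻¹) := by
    rw [zpow_neg]; group
  rw [h3, ← conj_zpow, h1, inv_zpow, zpow_neg, inv_inv, mul_assoc, ← zpow_add, two_mul]

omit F in
theorem isConj_of_odd_mul {x u : G} (hx : x * x = 1) (hu : u * u = 1)
    (hodd : Odd (orderOf (x * u))) : IsConj x u := by
  obtain ⟨j, hj⟩ := hodd
  have h1 := dihedral_conj hx hu (j : ℤ)
  have h2 : (x * u) ^ (2 * (j : ℤ)) = (x * u)⁻¹ := by
    have h3 : (x * u) ^ (2 * j + 1) = 1 := by rw [← hj, pow_orderOf_eq_one]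
    have h4 : (x * u) ^ (2 * (j : ℤ)) * (x * u) = 1 := by
      rw [← zpow_add_one]
      exact_mod_cast h3
    exact eq_inv_of_mul_eq_one_left h4
  have hxi : x⁻¹ = x := (eq_inv_of_mul_eq_one_left hx).symm
  have hui : u⁻¹ = u := (eq_inv_of_mul_eq_one_left hu).symm
  rw [h2, mul_inv_rev, hui, hxi] at h1
  have h5 : IsConj x (x * (u * x)) := isConj_iff.2 ⟨_, h1⟩
  have h6 : IsConj u (x * (u * x)) := isConj_iff.2 ⟨x, by rw [hxi, mul_assoc]⟩
  exact h5.trans h6.symm

/-- If `t` is a power of the product of a z-type `x` and a t-type `y`, then `y t` is of z-type and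
`x (y t)` has odd order. -/
theorem key_fwd [Finite G] {x y : G} (hx : IsConj z x) (hy : IsConj t y)
    (hm : t ∈ zpowers (x * y)) :
    x * t = t * x ∧ y * t = t * y ∧ IsConj z (y * t) ∧ Odd (orderOf (x * (y * t))) := by
  have hxx : x * x = 1 := mul_self_of_orderOf (orderOf_z F hx)
  have hyy : y * y = 1 := mul_self_of_orderOf (orderOf_t F hy)
  have htt : t * t = 1 := tt F
  obtain ⟨h1, h2⟩ := comm_of_mem_zpowers hxx hyy htt hm
  obtain ⟨k, hk⟩ := mem_zpowers_iff.mp hm
  have hodd : Odd k := by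
    rw [← Int.not_even_iff_odd]
    rintro ⟨m, rfl⟩
    have h3 := dihedral_conj hxx hyy m
    rw [two_mul, hk] at h3
    have h4 : IsConj x (x * t) := isConj_iff.2 ⟨_, h3⟩
    exact F.nconj ((hx.trans h4).trans (F.mul_t x hx h1).symm)
  have h5 : x * (y * t) = (x * y) ^ (k + 1) := by
    rw [← mul_assoc, ← hk, add_comm, zpow_one_add]
  have h6 : (x * (y * t)) ^ k = 1 := by
    rw [h5, ← zpow_mul, mul_comm, zpow_mul, hk]
    obtain ⟨m, rfl⟩ := hodd
    have : (2 * m + 1 + 1 : ℤ) = 2 * (m + 1) := by ring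
    rw [this, zpow_mul, zpow_two, htt, one_zpow]
  have h7 : Odd (orderOf (x * (y * t))) := by
    have h8 : (orderOf (x * (y * t)) : ℤ) ∣ k := orderOf_dvd_iff_zpow_eq_one.2 h6
    obtain ⟨c, hc⟩ := h8
    have h9 : Odd (orderOf (x * (y * t)) : ℤ) := (Int.odd_mul.1 (hc ▸ hodd)).1
    exact_mod_cast h9
  have h10 : (y * t) * (y * t) = 1 := by
    calc (y * t) * (y * t) = y * (t * y) * t := by group
      _ = y * (y * t) * t := by rw [h2]
      _ = (y * y) * (t * t) := by group
      _ = 1 := by rw [hyy, htt, one_mul]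
  exact ⟨h1, h2, hx.trans (isConj_of_odd_mul hxx h10 h7), h7⟩

theorem key_bwd {x w : G} (hw : IsConj z w) (hxt : x * t = t * x)
    (hwt : w * t = t * w) (hodd : Odd (orderOf (x * w))) :
    IsConj t (w * t) ∧ t ∈ zpowers (x * (w * t)) := by
  refine ⟨F.mul_t w hw hwt, ?_⟩
  have htt : t * t = 1 := tt F
  have h1 : Commute (x * w) t := by
    change (x * w) * t = t * (x * w)
    rw [mul_assoc, hwt, ← mul_assoc, hxt, mul_assoc]
  have h2 : (x * (w * t)) ^ orderOf (x * w) = t := by
    rw [← mul_assoc, h1.mul_pow, pow_orderOf_eq_one, one_mul]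
    obtain ⟨j, hj⟩ := hodd
    rw [hj, pow_add, pow_mul, pow_two, htt, one_pow, one_mul, pow_one]
  exact mem_zpowers_iff.2 ⟨orderOf (x * w), by rw [zpow_natCast]; exact h2⟩

/-- the second term of the order formula, computed in `C(t)` -/
theorem card_at [Finite G] :
    Nat.card {p : G × G // IsConj z p.1 ∧ IsConj t p.2 ∧ t ∈ zpowers (p.1 * p.2)} =
      Nat.card {p : centralizer ({t} : Set G) × centralizer ({t} : Set G) //
        P z t p.1 ∧ P z t p.2 ∧ Odd (orderOf (p.1 * p.2))} := by
  have htt : t * t = 1 := tt F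
  have hcomm : ∀ y : G, y * t = t * y → y * t * t = t * (y * t) := fun y hy => by
    rw [mul_assoc, htt, mul_one, ← mul_assoc, ← hy, mul_assoc, htt, mul_one]
  apply Nat.card_congr
  exact {
    toFun := fun p => ⟨(⟨p.1.1, mem_centralizer_singleton_iff.2 (key_fwd F p.2.1 p.2.2.1 p.2.2.2).1⟩,
        ⟨p.1.2 * t, mem_centralizer_singleton_iff.2
          (hcomm _ (key_fwd F p.2.1 p.2.2.1 p.2.2.2).2.1)⟩), by
      obtain ⟨h1, h2, h3, h4⟩ := key_fwd F p.2.1 p.2.2.1 p.2.2.2
      refine ⟨p.2.1, h3, ?_⟩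
      rw [← Subgroup.orderOf_coe]
      exact h4⟩
    invFun := fun p => ⟨(p.1.1.1, p.1.2.1 * t), by
      have hodd : Odd (orderOf ((p.1.1 : G) * p.1.2)) := by
        have h := p.2.2.2
        rw [← Subgroup.orderOf_coe] at h
        exact h
      obtain ⟨h1, h2⟩ := key_bwd F p.2.2.1 (mem_centralizer_singleton_iff.1 p.1.1.2)
        (mem_centralizer_singleton_iff.1 p.1.2.2) hodd
      exact ⟨p.2.1, h1, h2⟩⟩
    left_inv := fun p => by
      apply Subtype.ext
      apply Prod.ext
      · rfl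
      · change p.1.2 * t * t = p.1.2
        rw [mul_assoc, htt, mul_one]
    right_inv := fun p => by
      apply Subtype.ext
      apply Prod.ext
      · rfl
      · apply Subtype.ext
        change (p.1.2 : G) * t * t = p.1.2
        rw [mul_assoc, htt, mul_one] }

theorem card_formula [Finite G] (n : ℕ)
    (hn : Nat.card {x : centralizer ({t} : Set G) // P z t x} = n)
    (hodd : Nat.card {p : centralizer ({t} : Set G) × centralizer ({t} : Set G) //
        P z t p.1 ∧ P z t p.2 ∧ Odd (orderOf (p.1 * p.2))} = n * (n - 2)) :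
    Nat.card G = n * 16 * 240 + 192 * (n * (n - 2)) := by
  rw [Cfsg.Agent.S0213.result z t F.hz F.ht F.nconj F.cover, F.card_az, F.cardC, card_at F, hodd,
    card_Ct F, hn]

/-- the class of `z` cannot be too small -/
theorem card_ne_small [Finite G] : Nat.card G ≠ 12096 := by
  intro hG
  have h1 := Cfsg.Agent.Involutions.PairCount.card_class_mul_card_centralizer z
  rw [F.cardC, hG] at h1
  have h2 : Nat.card {u : G // IsConj z u} = 63 := by omega
  -- the number of pairs attached to each `w`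
  have h3 : ∀ w : {u : G // IsConj z u},
      64 ≤ Nat.card {p : G × G // IsConj z p.1 ∧ IsConj z p.2 ∧ (w : G) ∈ zpowers (p.1 * p.2)} := by
    rintro ⟨w, hw⟩
    obtain ⟨g, hg⟩ := isConj_iff.1 hw
    refine F.card_zz.trans (le_of_eq ?_)
    refine Nat.card_congr (((MulAut.conj g).toEquiv.prodCongr (MulAut.conj g).toEquiv).subtypeEquiv
      (fun p => ?_))
    obtain ⟨x, y⟩ := p
    change IsConj z x ∧ IsConj z y ∧ z ∈ zpowers (x * y) ↔
      IsConj z (g * x * g⁻¹) ∧ IsConj z (g * y * g⁻¹) ∧ w ∈ zpowers ((g * x * g⁻¹) * (g * y * g⁻¹))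
    rw [← isConj_conj g, ← isConj_conj g, ← hg]
    have h4 : (g * x * g⁻¹) * (g * y * g⁻¹) = MulAut.conj g (x * y) := by
      rw [map_mul]; rfl
    have h5 : g * z * g⁻¹ = MulAut.conj g z := rfl
    rw [h4, h5]
    have h6 : z ∈ zpowers (x * y) ↔ MulAut.conj g z ∈ zpowers (MulAut.conj g (x * y)) := by
      constructor
      · intro h
        obtain ⟨k, hk⟩ := mem_zpowers_iff.1 h
        exact mem_zpowers_iff.2 ⟨k, by rw [← map_zpow, hk]⟩
      · intro h
        obtain ⟨k, hk⟩ := mem_zpowers_iff.1 h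
        refine mem_zpowers_iff.2 ⟨k, ?_⟩
        rw [← map_zpow] at hk
        exact (MulAut.conj g).injective hk
    rw [h6]
  -- the pairs attached to different `w` are different
  have h4 : Nat.card (Σ w : {u : G // IsConj z u},
      {p : G × G // IsConj z p.1 ∧ IsConj z p.2 ∧ (w : G) ∈ zpowers (p.1 * p.2)}) ≤
      Nat.card ({u : G // IsConj z u} × {u : G // IsConj z u}) := by
    refine Nat.card_le_card_of_injective
      (fun p => (⟨p.2.1.1, p.2.2.1⟩, ⟨p.2.1.2, p.2.2.2.1⟩)) ?_
    rintro ⟨⟨w, hw⟩, ⟨⟨x, y⟩, hx, hy, hm⟩⟩ ⟨⟨w', hw'⟩, ⟨⟨x', y'⟩, hx', hy', hm'⟩⟩ h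
    simp only [Prod.mk.injEq, Subtype.mk.injEq] at h
    obtain ⟨rfl, rfl⟩ := h
    have h5 : w = w' := eq_of_mem_zpowers hm hm' (orderOf_z F hw) (orderOf_z F hw')
    subst h5
    rfl
  rw [Nat.card_prod, h2] at h4
  have h5 : 63 * 64 ≤ Nat.card (Σ w : {u : G // IsConj z u},
      {p : G × G // IsConj z p.1 ∧ IsConj z p.2 ∧ (w : G) ∈ zpowers (p.1 * p.2)}) := by
    classical
    have := Fintype.ofFinite {u : G // IsConj z u}
    rw [Nat.card_sigma]
    refine le_trans (le_of_eq ?_) (Finset.card_nsmul_le_sum Finset.univ _ 64 (fun w _ => h3 w))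
    rw [Finset.card_univ, ← Nat.card_eq_fintype_card, h2, smul_eq_mul]
  omega

/-- The order of `G` from the two conclusions of Lemma K. -/
theorem card_of_fus_of [Finite G]
    (hK : Nat.card {x : centralizer ({t} : Set G) // P z t x} = 3 ∨
      Nat.card {x : centralizer ({t} : Set G) // P z t x} = 15)
    (hodd : Nat.card {p : centralizer ({t} : Set G) × centralizer ({t} : Set G) //
        P z t p.1 ∧ P z t p.2 ∧ Odd (orderOf (p.1 * p.2))} =
      Nat.card {x : centralizer ({t} : Set G) // P z t x} *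
        (Nat.card {x : centralizer ({t} : Set G) // P z t x} - 2)) :
    Nat.card G = 95040 ∧ Nat.card (centralizer ({t} : Set G)) = 240 ∧
      Nat.card {x : centralizer ({t} : Set G) // P z t x} = 15 := by
  have h1 := card_formula F _ rfl hodd
  rcases hK with h | h
  · rw [h] at h1
    exact absurd h1 (card_ne_small F)
  · refine ⟨?_, ?_, h⟩
    · rw [h1, h]
    · rw [card_Ct F, h]

end Fus

end Cfsg.Agent.MTwelveType.Order
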