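import Cfsg.Agent.MTwelveType.LemmaK
import Cfsg.Agent.MTwelveType.Order
import Cfsg.Agent.MTwelveType.MainA

/-!
# The order statement from Lemma K and the order formula (S1741)
-/

set_option autoImplicit false

namespace Cfsg.Agent.MTwelveType.OrderEnd

open Subgroup Cfsg.Agent.MTwelveType.FusDef Cfsg.Agent.MTwelveType.Order

theorem order_statement.{v} : MainA.OrderStatement.{v} := by
  intro X _ _ z t F
  have a1 := k_ht F
  have a2 := k_htc (t := t)
  have a3 := k_hne F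
  have a4 := k_hP2 F
  have a5 := k_hPt F
  have a6 := k_hPi (z := z) (t := t)
  have a7 := k_hPc F
  have a8 := k_hmul F
  have a9 := k_h3 F
  have a10 := k_h16 F
  have a11 := k_h8 F
  have hK := LemmaK.main _ a1 a2 _ a3 a4 a5 a6 a7 a8 a9 a10 a11
  have hodd := LemmaK.odd_pairs _ a1 a2 _ a3 a4 a5 a6 a7 a8 a9 a10 a11
  obtain ⟨h1, h2, h3⟩ := card_of_fus_of F (hK.imp id fun h => h.1) hodd
  refine ⟨h1, h2, fun B htB hB htr hcard => ?_⟩
  refine LemmaK.no_trans _ a1 a2 _ a3 a4 a5 a6 a7 a8 a9 a10 a11 h3 (B.subgroupOf _) htB ?_ ?_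
  · intro x y hx hy
    obtain ⟨b, hb, hbx⟩ := htr x hx (mem_centralizer_singleton_iff.1 x.2)
    obtain ⟨c, hc, hcy⟩ := htr y hy (mem_centralizer_singleton_iff.1 y.2)
    refine ⟨⟨c * b⁻¹, hB (B.mul_mem hc (B.inv_mem hb))⟩, B.mul_mem hc (B.inv_mem hb), Subtype.ext ?_⟩
    change c * b⁻¹ * (x : X) * (c * b⁻¹)⁻¹ = y
    rw [← hbx, ← hcy]
    group
  · rw [Nat.card_congr (Subgroup.subgroupOfEquivOfLe hB).toEquiv]
    exact hcard

end Cfsg.Agent.MTwelveType.OrderEnd
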