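import Cfsg.Agent.ClassificationK.GTwoFusionB
import Cfsg.Prelude.Def_Involutions
import Cfsg.Prelude.Def_Local

/-!
# Groups with Sylow 2-subgroups of type `M₁₂`: base file (S1741)

Model: `T (2 * 2)` of helper981, `A = Z₄ × Z₄`, `t` inversion, `r = (1,1) t`, `s = (1,0) t`, `u` swap, `w = t u`,
`z = (2,2)`, `a' = (2,0)`, `b' = (0,2)`.

`InV = {1, z, a', b'}`, `InE = V ∪ r V` (order 8, all non-identity elements of z-type), `InQ` (order 32, extraspecial),
`InR = A⟨t⟩` (order 32), `InTT` = the 12 involutions conjugate in the model to `t`, `u`, `w`, `InSS` = the 8 conjugates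
of `s`.
-/

set_option autoImplicit false

namespace Cfsg.Agent.MTwelveType.Base

open Cfsg.Agent.ClassificationK.GTwoModel Cfsg.Agent.ClassificationK.GTwoModel.T

instance instDecEqT : DecidableEq (T (2 * 2)) := fun x y =>
  decidable_of_iff (x.i = y.i ∧ x.j = y.j ∧ x.e = y.e ∧ x.d = y.d) T.ext_iff.symm

instance instNeZero : NeZero (2 * 2 : ℕ) := ⟨by decide⟩

instance instFintypeT : Fintype (T (2 * 2)) := Fintype.ofEquiv _ (equivProd (2 * 2)).symm

/-- the four-group `{1, z, a', b'}` -/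
def InV (x : T (2 * 2)) : Prop := 2 * x.i = 0 ∧ 2 * x.j = 0 ∧ x.e = false ∧ x.d = false
/-- the elementary abelian subgroup `V ∪ r V` of order 8 -/
def InE (x : T (2 * 2)) : Prop := 2 * x.i = (if x.e then 2 else 0) ∧ 2 * x.j = (if x.e then 2 else 0) ∧ x.d = false
/-- the extraspecial subgroup of order 32 -/
def InQ (x : T (2 * 2)) : Prop := 2 * x.i = 2 * x.j
/-- the subgroup `A ⟨t⟩` of order 32 -/
def InR (x : T (2 * 2)) : Prop := x.d = false
/-- the homocyclic subgroup `A` of order 16 -/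
def InA (x : T (2 * 2)) : Prop := x.e = false ∧ x.d = false
/-- the 12 involutions of type `t`, `u`, `w` -/
def InTT (x : T (2 * 2)) : Prop :=
  (2 * x.i = 0 ∧ 2 * x.j = 0 ∧ x.e = true ∧ x.d = false) ∨ (x.i + x.j = 0 ∧ x.e = false ∧ x.d = true) ∨
    (x.i = x.j ∧ x.e = true ∧ x.d = true)
/-- the 8 involutions of type `s` -/
def InSS (x : T (2 * 2)) : Prop := 2 * x.i ≠ 2 * x.j ∧ x.e = true ∧ x.d = false

instance : DecidablePred InV := fun x => by unfold InV; infer_instance
instance : DecidablePred InE := fun x => by unfold InE; infer_instance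
instance : DecidablePred InQ := fun x => by unfold InQ; infer_instance
instance : DecidablePred InR := fun x => by unfold InR; infer_instance
instance : DecidablePred InA := fun x => by unfold InA; infer_instance
instance : DecidablePred InTT := fun x => by unfold InTT; infer_instance
instance : DecidablePred InSS := fun x => by unfold InSS; infer_instance

theorem inv_trichotomy : ∀ x : T (2 * 2), x * x = 1 → x ≠ 1 → (InE x ∨ InTT x ∨ InSS x) := by decide

theorem sq_of_InE : ∀ x : T (2 * 2), InE x → x * x = 1 := by decide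
theorem sq_of_InTT : ∀ x : T (2 * 2), InTT x → x * x = 1 ∧ x ≠ 1 := by decide
theorem sq_of_InSS : ∀ x : T (2 * 2), InSS x → x * x = 1 ∧ x ≠ 1 := by decide
theorem InQ_of_InE : ∀ x : T (2 * 2), InE x → InQ x := by decide
theorem InQ_of_InTT : ∀ x : T (2 * 2), InTT x → InQ x := by decide
theorem not_InQ_of_InSS : ∀ x : T (2 * 2), InSS x → ¬ InQ x := by decide
theorem InE_of_InV : ∀ x : T (2 * 2), InV x → InE x := by decide
theorem InV_cases : ∀ x : T (2 * 2), InV x → x = 1 ∨ x = z 2 ∨ x = a' 2 ∨ x = b' 2 := by decide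

set_option maxRecDepth 100000 in
/-- `x` is conjugate in the model to `z`, `a'` or `r` -/
theorem conj_of_InE : ∀ x : T (2 * 2), InE x → x ≠ 1 →
    (x = z 2 ∨ (∃ g, g * a' 2 * g⁻¹ = x) ∨ (∃ g, g * r 2 * g⁻¹ = x)) := by decide
set_option maxRecDepth 100000 in
theorem conj_of_InTT : ∀ x : T (2 * 2), InTT x →
    ((∃ g, g * t 2 * g⁻¹ = x) ∨ (∃ g, g * u 2 * g⁻¹ = x) ∨ (∃ g, g * w 2 * g⁻¹ = x)) := by decide
set_option maxRecDepth 100000 in
theorem conj_of_InSS : ∀ x : T (2 * 2), InSS x → ∃ g, g * s 2 * g⁻¹ = x := by decide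

/-- The fusion patterns: `z ~ a' ~ r`, `t ~ u ~ w`, `z` not conjugate to `t`, and `s ~ z` (pattern (a), the one of
`M₁₂`) or `s ~ t` (pattern (b)). -/
structure Pat {G : Type*} [Group G] [Finite G] (S : Sylow 2 G) (f : T (2 * 2) →* G) : Prop where
  inj : Function.Injective f
  range : f.range = (S : Subgroup G)
  za : IsConj (f (z 2)) (f (a' 2))
  zr : IsConj (f (z 2)) (f (r 2))
  tu : IsConj (f (t 2)) (f (u 2))
  tw : IsConj (f (t 2)) (f (w 2))
  nzt : ¬ IsConj (f (z 2)) (f (t 2))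
  sz : IsConj (f (z 2)) (f (s 2)) ∨ IsConj (f (t 2)) (f (s 2))

namespace Pat

variable {G : Type*} [Group G] [Finite G] {S : Sylow 2 G} {f : T (2 * 2) →* G}

theorem isConj_E (P : Pat S f) {x : T (2 * 2)} (hx : InE x) (hx1 : x ≠ 1) : IsConj (f (z 2)) (f x) := by
  rcases conj_of_InE x hx hx1 with rfl | ⟨g, rfl⟩ | ⟨g, rfl⟩
  · exact IsConj.refl _
  · exact P.za.trans (f.map_isConj (isConj_iff.2 ⟨g, rfl⟩))
  · exact P.zr.trans (f.map_isConj (isConj_iff.2 ⟨g, rfl⟩))

theorem isConj_TT (P : Pat S f) {x : T (2 * 2)} (hx : InTT x) : IsConj (f (t 2)) (f x) := by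
  rcases conj_of_InTT x hx with ⟨g, rfl⟩ | ⟨g, rfl⟩ | ⟨g, rfl⟩
  · exact f.map_isConj (isConj_iff.2 ⟨g, rfl⟩)
  · exact P.tu.trans (f.map_isConj (isConj_iff.2 ⟨g, rfl⟩))
  · exact P.tw.trans (f.map_isConj (isConj_iff.2 ⟨g, rfl⟩))

omit [Finite G] in
theorem isConj_SS {x : T (2 * 2)} (hx : InSS x) : IsConj (f (s 2)) (f x) := by
  obtain ⟨g, rfl⟩ := conj_of_InSS x hx
  exact f.map_isConj (isConj_iff.2 ⟨g, rfl⟩)

/-- every involution of the model is of z-type or of t-type -/
theorem isConj_or (P : Pat S f) {x : T (2 * 2)} (hx : x * x = 1) (hx1 : x ≠ 1) :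
    IsConj (f (z 2)) (f x) ∨ IsConj (f (t 2)) (f x) := by
  rcases inv_trichotomy x hx hx1 with h | h | h
  · exact Or.inl (P.isConj_E h hx1)
  · exact Or.inr (P.isConj_TT h)
  · rcases P.sz with h1 | h1
    · exact Or.inl (h1.trans (isConj_SS h))
    · exact Or.inr (h1.trans (isConj_SS h))

theorem mem_S (P : Pat S f) (x : T (2 * 2)) : f x ∈ (S : Subgroup G) := by
  rw [← P.range]; exact ⟨x, rfl⟩

theorem exists_of_mem (P : Pat S f) {g : G} (hg : g ∈ (S : Subgroup G)) : ∃ x, f x = g := by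
  rw [← P.range] at hg; exact hg

end Pat

end Cfsg.Agent.MTwelveType.Base
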