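import Cfsg.Agent.MTwelveType.Fusion
import Cfsg.Agent.PLocal.CoprimeLift

/-!
# S1741: fusion patterns in quotients by odd normal subgroups and in subgroups
-/

set_option autoImplicit false
set_option linter.unusedSectionVars false

namespace Cfsg.Agent.MTwelveType.PatQuot

open Cfsg.Agent.ClassificationK.GTwoModel Cfsg.Agent.ClassificationK.GTwoModel.T
open Cfsg.Agent.MTwelveType.Base

section general

variable {G : Type*} [Group G]

theorem mem_zpowers_of_sq {x y : G} (hx : x * x = 1) (hy : y ∈ Subgroup.zpowers x) : y = 1 ∨ y = x := by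
  obtain ⟨k, rfl⟩ := Subgroup.mem_zpowers_iff.1 hy
  have h2 : x ^ (2 : ℤ) = 1 := by rw [zpow_two, hx]
  rcases Int.even_or_odd' k with ⟨m, rfl | rfl⟩
  · left; rw [zpow_mul, h2, one_zpow]
  · right; rw [zpow_add, zpow_mul, h2, one_zpow, one_mul, zpow_one]

theorem sq_of_orderOf {x : G} (hx : orderOf x = 2) : x * x = 1 ∧ x ≠ 1 := by
  refine ⟨?_, ?_⟩
  · rw [← pow_two, ← hx, pow_orderOf_eq_one]
  · rintro rfl
    rw [orderOf_one] at hx
    exact absurd hx (by norm_num)

theorem isPGroup_zpowers {x : G} (hx : orderOf x = 2) : IsPGroup 2 (Subgroup.zpowers x) :=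
  IsPGroup.of_card (n := 1) (by rw [Nat.card_zpowers, hx, pow_one])

variable [Finite G]

theorem coprime_two_of_odd {K : Subgroup G} (hK : Odd (Nat.card K)) : (Nat.card K).Coprime 2 :=
  Nat.coprime_comm.1 ((Nat.coprime_two_left).2 hK)

/-- involutions conjugate modulo an odd normal subgroup are conjugate -/
theorem isConj_of_isConj_quot (K : Subgroup G) [K.Normal] (hK : Odd (Nat.card K)) {x y : G}
    (hx : orderOf x = 2) (hy : orderOf y = 2) (h : IsConj (x : G ⧸ K) (y : G ⧸ K)) : IsConj x y := by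
  obtain ⟨q, hq⟩ := isConj_iff.1 h
  obtain ⟨g, rfl⟩ := QuotientGroup.mk_surjective q
  have hgx : orderOf (g * x * g⁻¹) = 2 := by
    rw [← hx]
    exact (MulAut.conj g).orderOf_eq x
  have hle : Subgroup.zpowers y ≤ Subgroup.zpowers (g * x * g⁻¹) ⊔ K := by
    rw [Subgroup.zpowers_le]
    have h1 : (g * x * g⁻¹)⁻¹ * y ∈ K := by
      rw [← QuotientGroup.eq]
      exact_mod_cast hq
    have h2 : y = (g * x * g⁻¹) * ((g * x * g⁻¹)⁻¹ * y) := by group
    rw [h2]
    exact Subgroup.mul_mem_sup (Subgroup.mem_zpowers _) h1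
  have : Fact (Nat.Prime 2) := ⟨Nat.prime_two⟩
  obtain ⟨c, -, hc⟩ := Cfsg.Agent.PLocal.CoprimeLift.exists_conj_of_le_sup K _ (coprime_two_of_odd hK)
    (isPGroup_zpowers hgx) _ (isPGroup_zpowers hy) (by rw [Nat.card_zpowers, Nat.card_zpowers, hgx, hy]) hle
  have h3 := (hc y).1 (Subgroup.mem_zpowers y)
  rcases mem_zpowers_of_sq (sq_of_orderOf hgx).1 h3 with h4 | h4
  · exfalso
    apply (sq_of_orderOf hy).2
    rwa [mul_inv_eq_one, mul_eq_left] at h4
  · refine isConj_iff.2 ⟨c⁻¹ * g, ?_⟩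
    have h5 : c⁻¹ * g * x * (c⁻¹ * g)⁻¹ = c⁻¹ * (g * x * g⁻¹) * c := by group
    rw [h5, ← h4]
    group

/-- every element of the centralizer of an involution modulo an odd normal subgroup lifts to the centralizer -/
theorem exists_lift_centralizer (K : Subgroup G) [K.Normal] (hK : Odd (Nat.card K)) (x : G) (hx : orderOf x = 2)
    (q : G ⧸ K) (hq : q * (x : G ⧸ K) = x * q) : ∃ c : G, (c : G ⧸ K) = q ∧ c * x = x * c := by
  obtain ⟨g, rfl⟩ := QuotientGroup.mk_surjective q
  have : Fact (Nat.Prime 2) := ⟨Nat.prime_two⟩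
  obtain ⟨m, hm, hc⟩ := Cfsg.Agent.PLocal.CoprimeLift.exists_commuting_lift K (Subgroup.zpowers x)
    (coprime_two_of_odd hK) (isPGroup_zpowers hx) g (by
      intro y hy
      rcases mem_zpowers_of_sq (sq_of_orderOf hx).1 hy with rfl | rfl
      · simp
      · have h1 : ((y * g * y⁻¹ * g⁻¹ : G) : G ⧸ K) = 1 := by
          have h2 : (y : G ⧸ K) * g = g * y := hq.symm
          rw [QuotientGroup.mk_mul, QuotientGroup.mk_mul, QuotientGroup.mk_mul, h2,
            QuotientGroup.mk_inv, QuotientGroup.mk_inv]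
          group
        exact (QuotientGroup.eq_one_iff _).1 h1)
  refine ⟨m * g, ?_, (hc x (Subgroup.mem_zpowers x)).symm⟩
  rw [QuotientGroup.mk_mul, (QuotientGroup.eq_one_iff m).2 hm, one_mul]

theorem map_centralizer_singleton (K : Subgroup G) [K.Normal] (hK : Odd (Nat.card K)) (x : G) (hx : orderOf x = 2) :
    (Subgroup.centralizer {x}).map (QuotientGroup.mk' K) = Subgroup.centralizer {(x : G ⧸ K)} := by
  refine le_antisymm ?_ ?_
  · rintro _ ⟨g, hg, rfl⟩
    have h1 : g * x = x * g := Subgroup.mem_centralizer_singleton_iff.1 hg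
    rw [Subgroup.mem_centralizer_singleton_iff]
    change ((g : G) : G ⧸ K) * x = x * g
    rw [← QuotientGroup.mk_mul, h1, QuotientGroup.mk_mul]
  · intro q hq
    obtain ⟨c, rfl, hc⟩ := exists_lift_centralizer K hK x hx q (Subgroup.mem_centralizer_singleton_iff.1 hq)
    exact ⟨c, Subgroup.mem_centralizer_singleton_iff.2 hc, rfl⟩

theorem card_centralizer_quot (K : Subgroup G) [K.Normal] (hK : Odd (Nat.card K)) (x : G) (hx : orderOf x = 2) :
    Nat.card (Subgroup.centralizer {(x : G ⧸ K)}) * Nat.card ↥(K ⊓ Subgroup.centralizer {x}) =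
      Nat.card (Subgroup.centralizer {x}) := by
  rw [← map_centralizer_singleton K hK x hx]
  have h1 := Subgroup.relIndex_ker (Subgroup.centralizer {x}) (QuotientGroup.mk' K)
  rw [QuotientGroup.ker_mk'] at h1
  rw [← h1]
  have h2 := Subgroup.relIndex_mul_relIndex ⊥ (K ⊓ Subgroup.centralizer {x}) (Subgroup.centralizer {x}) bot_le
    inf_le_right
  rw [Subgroup.relIndex_bot_left, Subgroup.relIndex_bot_left, Subgroup.inf_relIndex_right, mul_comm] at h2
  exact h2

end general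

variable {G : Type*} [Group G] [Finite G] {S : Sylow 2 G} {f : T (2 * 2) →* G}

theorem orderOf_f (P : Pat S f) {x : T (2 * 2)} (hx : x * x = 1) (hx1 : x ≠ 1) : orderOf (f x) = 2 := by
  rw [orderOf_injective f P.inj]
  exact orderOf_eq_prime (by rw [pow_two, hx]) hx1

/-- the pattern passes to quotients by odd normal subgroups -/
theorem pat_quot (P : Pat S f) (K : Subgroup G) [K.Normal] (hK : Odd (Nat.card K)) :
    ∃ S' : Sylow 2 (G ⧸ K), Pat S' ((QuotientGroup.mk' K).comp f) := by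
  have : Fact (Nat.Prime 2) := ⟨Nat.prime_two⟩
  refine ⟨S.mapSurjective (QuotientGroup.mk'_surjective K), ?_⟩
  have hzt : ¬ IsConj ((QuotientGroup.mk' K) (f (z 2))) ((QuotientGroup.mk' K) (f (t 2))) := fun h =>
    P.nzt (isConj_of_isConj_quot K hK (orderOf_f P (by decide) (by decide)) (orderOf_f P (by decide) (by decide)) h)
  refine ⟨?_, ?_, ?_, ?_, ?_, ?_, hzt, ?_⟩
  · rw [injective_iff_map_eq_one]
    intro x hx
    have h1 : f x ∈ K := (QuotientGroup.eq_one_iff (f x)).1 hx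
    have h2 : f x ∈ (S : Subgroup G) := P.mem_S x
    have h3 : K ⊓ (S : Subgroup G) = ⊥ := by
      rw [← disjoint_iff]
      apply Subgroup.disjoint_of_coprime_natCard
      obtain ⟨n, hn⟩ := S.isPGroup'.exists_card_eq
      rw [hn]
      exact Nat.Coprime.pow_right n (coprime_two_of_odd hK)
    have h4 : f x ∈ K ⊓ (S : Subgroup G) := ⟨h1, h2⟩
    rw [h3, Subgroup.mem_bot] at h4
    exact (injective_iff_map_eq_one f).1 P.inj x h4
  · rw [MonoidHom.range_comp, P.range, Sylow.coe_mapSurjective]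
  · exact (QuotientGroup.mk' K).map_isConj P.za
  · exact (QuotientGroup.mk' K).map_isConj P.zr
  · exact (QuotientGroup.mk' K).map_isConj P.tu
  · exact (QuotientGroup.mk' K).map_isConj P.tw
  · rcases P.sz with h | h
    · exact Or.inl ((QuotientGroup.mk' K).map_isConj h)
    · exact Or.inr ((QuotientGroup.mk' K).map_isConj h)

theorem isConj_codRestrict (M : Subgroup G) (hM : ∀ x, f x ∈ M) {x y : T (2 * 2)}
    (h : ∃ g ∈ M, g * f x * g⁻¹ = f y) : IsConj (f.codRestrict M hM x) (f.codRestrict M hM y) := by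
  obtain ⟨g, hg, hxy⟩ := h
  exact isConj_iff.2 ⟨⟨g, hg⟩, Subtype.ext hxy⟩

/-- the pattern passes to subgroups controlling the fusion -/
theorem pat_sub (P : Pat S f) (M : Subgroup G) (hSM : (S : Subgroup G) ≤ M) (hM : ∀ x, f x ∈ M)
    (hz : Subgroup.centralizer {f (z 2)} ≤ M) (ha : ∃ g ∈ M, g * f (a' 2) * g⁻¹ = f (z 2))
    (hs : (∃ g ∈ M, g * f (z 2) * g⁻¹ = f (s 2)) ∨ (∃ g ∈ M, g * f (t 2) * g⁻¹ = f (s 2))) :
    Pat (S.subtype hSM) (f.codRestrict M hM) := by
  have hza : IsConj (f.codRestrict M hM (z 2)) (f.codRestrict M hM (a' 2)) :=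
    (isConj_codRestrict M hM ha).symm
  obtain ⟨c₁, hc₁, hc₁'⟩ := Fusion.exists_ar P
  obtain ⟨c₂, hc₂, hc₂'⟩ := Fusion.exists_tu P
  obtain ⟨c₃, hc₃, hc₃'⟩ := Fusion.exists_tw P
  refine ⟨?_, ?_, hza, ?_, ?_, ?_, ?_, ?_⟩
  · intro x y hxy
    exact P.inj (congrArg Subtype.val hxy)
  · ext ⟨g, hg⟩
    rw [Sylow.coe_subtype, Subgroup.mem_subgroupOf, ← P.range]
    constructor
    · rintro ⟨x, hx⟩
      exact ⟨x, congrArg Subtype.val hx⟩
    · rintro ⟨x, hx⟩
      exact ⟨x, Subtype.ext hx⟩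
  · exact hza.trans (isConj_codRestrict M hM ⟨c₁, hz (Subgroup.mem_centralizer_singleton_iff.2 hc₁), hc₁'⟩)
  · exact isConj_codRestrict M hM ⟨c₂, hz (Subgroup.mem_centralizer_singleton_iff.2 hc₂), hc₂'⟩
  · exact isConj_codRestrict M hM ⟨c₃, hz (Subgroup.mem_centralizer_singleton_iff.2 hc₃), hc₃'⟩
  · intro h
    exact P.nzt (M.subtype.map_isConj h)
  · rcases hs with h | h
    · exact Or.inl (isConj_codRestrict M hM h)
    · exact Or.inr (isConj_codRestrict M hM h)

end Cfsg.Agent.MTwelveType.PatQuot
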