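import Cfsg.Agent.MTwelveType.TwoPoint
import Cfsg.Agent.MTwelveType.Embedded
import Cfsg.Agent.MTwelveType.FusDef
import Cfsg.Agent.MTwelveType.PatQuot

/-!
# Sylow type `M₁₂`, pattern (a): `C(t) ≤ M` (S1741, task T8)
-/

set_option autoImplicit false

namespace Cfsg.Agent.MTwelveType.CaseA

open Cfsg.Agent.ClassificationK.GTwoModel Cfsg.Agent.ClassificationK.GTwoModel.T
open Cfsg.Agent.MTwelveType.Base Subgroup
open Cfsg.Agent.MTwelveType.FusDef
open Cfsg.Agent.ClassificationK.SylowConj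

/-! ### the model -/

theorem cen_t_inv : ∀ p : T (2 * 2), p * t 2 = t 2 * p → p * p = 1 → p ≠ 1 → InV p ∨ InTT p := by decide

set_option maxRecDepth 100000 in
theorem cen_t_prod : ∀ p q : T (2 * 2), InV p → InV q → p ≠ q → InE (p * q) ∧ p * q ≠ 1 := by decide

set_option maxRecDepth 100000 in
theorem cen_t_coset : ∀ p q : T (2 * 2), p * t 2 = t 2 * p → q * t 2 = t 2 * q → p.e = q.e → p.d = q.d →
    InE (p * q⁻¹) := by decide

theorem t_sq : t 2 * t 2 = 1 := by decide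

theorem card_cen_t : 16 ≤ Nat.card (Subgroup.centralizer {t 2}) := by
  let φ : (Bool × Bool) × (Bool × Bool) → Subgroup.centralizer {t 2} := fun x =>
    ⟨⟨cond x.1.1 2 0, cond x.1.2 2 0, x.2.1, x.2.2⟩, by
      rw [mem_centralizer_singleton_iff]
      revert x; decide⟩
  have hφ : Function.Injective φ := by
    intro x y h
    have h1 : (φ x : T (2 * 2)) = φ y := by rw [h]
    revert x y
    decide
  have h1 := Nat.card_le_card_of_injective φ hφ
  have h2 : Nat.card ((Bool × Bool) × (Bool × Bool)) = 16 := by rw [Nat.card_eq_fintype_card]; rfl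
  rwa [h2] at h1

variable {G : Type*} [Group G] [Finite G] {S : Sylow 2 G} {f : T (2 * 2) →* G}

/-- every 2-subgroup of `C(t)` is conjugate in `C(t)` into `C_S(t)` -/
theorem exists_move_cen_t (P : Pat S f) (F : Subgroup G) (hF : IsPGroup 2 F)
    (hFt : F ≤ Subgroup.centralizer {f (t 2)}) :
    ∃ h, h * f (t 2) * h⁻¹ = f (t 2) ∧ ∀ x ∈ F, ∃ p, f p = h * x * h⁻¹ ∧ p * t 2 = t 2 * p := by
  obtain ⟨h, hh, hS⟩ := exists_conj_centralizer (S : Subgroup G) S.isPGroup' (IsConj.refl (f (t 2)))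
    (Fusion.hmax_of_card P.inj P.range 16 (fun R hR hRt => Fusion.card_le_of_cen_t P R hR hRt) card_cen_t)
    F hF hFt
  refine ⟨h, hh, fun x hx => ?_⟩
  obtain ⟨p, hp⟩ := P.exists_of_mem (hS x hx)
  refine ⟨p, hp, P.inj ?_⟩
  have hxt := hFt hx
  rw [mem_centralizer_singleton_iff] at hxt
  rw [map_mul, map_mul, hp]
  calc h * x * h⁻¹ * f (t 2) = h * x * h⁻¹ * (h * f (t 2) * h⁻¹) := by rw [hh]
    _ = h * (x * f (t 2)) * h⁻¹ := by group
    _ = h * (f (t 2) * x) * h⁻¹ := by rw [hxt]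
    _ = (h * f (t 2) * h⁻¹) * (h * x * h⁻¹) := by group
    _ = _ := by rw [hh]

theorem sq_of_conj' {x h : G} {p : T (2 * 2)} (P : Pat S f) (hp : f p = h * x * h⁻¹) (hx : x * x = 1) :
    p * p = 1 := by
  apply P.inj
  rw [map_mul, map_one, hp]
  calc h * x * h⁻¹ * (h * x * h⁻¹) = h * (x * x) * h⁻¹ := by group
    _ = 1 := by rw [hx]; group

omit [Finite G] in
theorem ne_one_of_conj' {x h : G} {p : T (2 * 2)} (hp : f p = h * x * h⁻¹) (hx : x ≠ 1) :
    p ≠ 1 := by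
  rintro rfl
  apply hx
  rw [map_one] at hp
  calc x = h⁻¹ * (h * x * h⁻¹) * h := by group
    _ = 1 := by rw [← hp]; group

theorem sq_z (P : Pat S f) {x : G} (hx : IsConj (f (z 2)) x) : x * x = 1 ∧ x ≠ 1 := by
  obtain ⟨c, rfl⟩ := isConj_iff.1 hx
  have h1 : f (z 2) * f (z 2) = 1 := by rw [← map_mul, ← map_one f]; congr 1
  refine ⟨?_, ?_⟩
  · calc c * f (z 2) * c⁻¹ * (c * f (z 2) * c⁻¹) = c * (f (z 2) * f (z 2)) * c⁻¹ := by group
      _ = 1 := by rw [h1]; group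
  · intro h
    have h2 : f (z 2) = 1 := by
      calc f (z 2) = c⁻¹ * (c * f (z 2) * c⁻¹) * c := by group
        _ = 1 := by rw [h]; group
    exact absurd (P.inj (h2.trans (map_one f).symm)) (by decide)

/-- z-types moved into `C_S(t)` lie in `V` -/
theorem inV_of (P : Pat S f) {x h : G} {p : T (2 * 2)} (hx : IsConj (f (z 2)) x) (hp : f p = h * x * h⁻¹)
    (hpt : p * t 2 = t 2 * p) : InV p := by
  obtain ⟨h1, h2⟩ := sq_z P hx
  rcases cen_t_inv p hpt (sq_of_conj' P hp h1) (ne_one_of_conj' hp h2) with h3 | h3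
  · exact h3
  · exfalso
    apply P.nzt
    have h4 : IsConj x (f p) := isConj_iff.2 ⟨h, hp.symm⟩
    exact (hx.trans h4).trans (P.isConj_TT h3).symm

/-- the product of two distinct z-types in a 2-subgroup of `C(t)` is of z-type -/
theorem mul_z_type (P : Pat S f) (F : Subgroup G) (hF : IsPGroup 2 F)
    (hFt : F ≤ Subgroup.centralizer {f (t 2)}) (x y : G) (hx : IsConj (f (z 2)) x) (hy : IsConj (f (z 2)) y)
    (hxF : x ∈ F) (hyF : y ∈ F) (hxy : x ≠ y) : IsConj (f (z 2)) (x * y) := by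
  obtain ⟨h, -, hh⟩ := exists_move_cen_t P F hF hFt
  obtain ⟨p, hp, hpt⟩ := hh x hxF
  obtain ⟨q, hq, hqt⟩ := hh y hyF
  have hne : p ≠ q := by
    rintro rfl
    apply hxy
    rw [hp] at hq
    simpa using hq
  obtain ⟨h1, h2⟩ := cen_t_prod p q (inV_of P hx hp hpt) (inV_of P hy hq hqt) hne
  have h3 := P.isConj_E h1 h2
  refine h3.trans (IsConj.symm (isConj_iff.2 ⟨h, ?_⟩))
  rw [map_mul, hp, hq]
  group

/-- the z-types of `C(t)` are conjugate in `C(t)` (pattern (a)) -/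
theorem conj_t (P : Pat S f) (g : G) (hga : g * f (a' 2) * g⁻¹ = f (z 2)) (hgt : g * f (t 2) * g⁻¹ = f (t 2))
    (x : G) (hx : IsConj (f (z 2)) x) (hxt : x * f (t 2) = f (t 2) * x) :
    ∃ h, h * f (t 2) = f (t 2) * h ∧ h * f (z 2) * h⁻¹ = x := by
  obtain ⟨h1, h2⟩ := sq_z P hx
  have hF : IsPGroup 2 (zpowers x) := by
    refine IsPGroup.of_card (n := 1) ?_
    rw [Nat.card_zpowers, pow_one]
    exact orderOf_eq_prime (by rw [pow_two, h1]) h2
  obtain ⟨h, hht, hh⟩ := exists_move_cen_t P (zpowers x) hF (by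
    rw [zpowers_le, mem_centralizer_singleton_iff]; exact hxt)
  obtain ⟨p, hp, hpt⟩ := hh x (mem_zpowers x)
  have hV := inV_of P hx hp hpt
  have hp1 := ne_one_of_conj' hp h2
  have key : ∃ k, k * f (t 2) = f (t 2) * k ∧ k * f (z 2) * k⁻¹ = f p := by
    have hgt' : Commute g (f (t 2)) := mul_inv_eq_iff_eq_mul.1 hgt
    have hza : g⁻¹ * f (z 2) * (g⁻¹)⁻¹ = f (a' 2) := by rw [← hga]; group
    have hu : Commute (f (u 2)) (f (t 2)) := by
      change f (u 2) * f (t 2) = f (t 2) * f (u 2)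
      rw [← map_mul, ← map_mul]; congr 1
    rcases InV_cases p hV with rfl | rfl | rfl | rfl
    · exact absurd rfl hp1
    · exact ⟨1, by simp, by simp⟩
    · exact ⟨g⁻¹, hgt'.inv_left.eq, hza⟩
    · refine ⟨f (u 2) * g⁻¹, (hu.mul_left hgt'.inv_left).eq, ?_⟩
      calc f (u 2) * g⁻¹ * f (z 2) * (f (u 2) * g⁻¹)⁻¹ = f (u 2) * (g⁻¹ * f (z 2) * (g⁻¹)⁻¹) * (f (u 2))⁻¹ := by
            group
        _ = f (b' 2) := by
            rw [hza, ← map_inv, ← map_mul, ← map_mul]; congr 1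
  obtain ⟨k, hk, hkp⟩ := key
  have hht' : Commute h (f (t 2)) := mul_inv_eq_iff_eq_mul.1 hht
  have hk' : Commute k (f (t 2)) := hk
  refine ⟨h⁻¹ * k, (hht'.inv_left.mul_left hk').eq, ?_⟩
  calc h⁻¹ * k * f (z 2) * (h⁻¹ * k)⁻¹ = h⁻¹ * (k * f (z 2) * k⁻¹) * h := by group
    _ = h⁻¹ * (h * x * h⁻¹) * h := by rw [hkp, hp]
    _ = x := by group

/-- 2-subgroups of `C(t)` without z-types have order at most 4 -/
theorem card_le_four (P : Pat S f) (F : Subgroup G) (hF : IsPGroup 2 F)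
    (hFt : F ≤ Subgroup.centralizer {f (t 2)}) (hno : ∀ x ∈ F, ¬ IsConj (f (z 2)) x) : Nat.card F ≤ 4 := by
  obtain ⟨h, -, hh⟩ := exists_move_cen_t P F hF hFt
  choose p hp hpt using hh
  have hinj : Function.Injective (fun x : F => ((p x x.2).e, (p x x.2).d)) := by
    intro x y hxy
    simp only [Prod.mk.injEq] at hxy
    have h1 := cen_t_coset _ _ (hpt x x.2) (hpt y y.2) hxy.1 hxy.2
    by_contra hne
    have h2 : f (p x x.2 * (p y y.2)⁻¹) = h * ((x : G) * (y : G)⁻¹) * h⁻¹ := by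
      rw [map_mul, map_inv, hp, hp]; group
    apply hno _ (F.mul_mem x.2 (F.inv_mem y.2))
    refine (P.isConj_E h1 ?_).trans (IsConj.symm (isConj_iff.2 ⟨h, h2.symm⟩))
    intro h3
    apply hne
    rw [h3, map_one] at h2
    have h4 : (x : G) * (y : G)⁻¹ = 1 := by
      calc (x : G) * (y : G)⁻¹ = h⁻¹ * (h * ((x : G) * (y : G)⁻¹) * h⁻¹) * h := by group
        _ = 1 := by rw [← h2]; group
    exact Subtype.ext (mul_inv_eq_one.1 h4)
  have h1 := Nat.card_le_card_of_injective _ hinj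
  have h2 : Nat.card (Bool × Bool) = 4 := by rw [Nat.card_eq_fintype_card]; rfl
  rwa [h2] at h1

theorem dvd_sixty {n : ℕ} (h : n ∣ 240) (h8 : ¬ 8 ∣ n) : n ∣ 60 := by
  have h1 : n ∈ Nat.divisors 240 := Nat.mem_divisors.2 ⟨h, by norm_num⟩
  have h2 : ∀ m ∈ Nat.divisors 240, ¬ 8 ∣ m → m ∣ 60 := by decide
  exact h2 n h1 h8

/-- `C(t) ≤ M` in pattern (a) -/
theorem centralizer_t_le (P : Pat S f) (M : Subgroup G) (hSM : (S : Subgroup G) ≤ M)
    (hz : Subgroup.centralizer {f (z 2)} ≤ M)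
    (g : G) (hg : g ∈ M) (hga : g * f (a' 2) * g⁻¹ = f (z 2)) (hgt : g * f (t 2) * g⁻¹ = f (t 2))
    (hgs : ∃ m ∈ M, m * f (z 2) * m⁻¹ = f (s 2))
    (K : Subgroup M) [K.Normal] (hK : Odd (Nat.card K))
    (F : Fus (((⟨f (z 2), hSM (P.mem_S _)⟩ : M) : M ⧸ K)) (((⟨f (t 2), hSM (P.mem_S _)⟩ : M) : M ⧸ K)))
    (hct : Nat.card (Subgroup.centralizer {((⟨f (t 2), hSM (P.mem_S _)⟩ : M) : M ⧸ K)}) = 240)
    (hnt : ∀ B : Subgroup (M ⧸ K), ((⟨f (t 2), hSM (P.mem_S _)⟩ : M) : M ⧸ K) ∈ B →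
      B ≤ Subgroup.centralizer {((⟨f (t 2), hSM (P.mem_S _)⟩ : M) : M ⧸ K)} →
      (∀ x, IsConj (((⟨f (z 2), hSM (P.mem_S _)⟩ : M) : M ⧸ K)) x →
        x * ((⟨f (t 2), hSM (P.mem_S _)⟩ : M) : M ⧸ K) = ((⟨f (t 2), hSM (P.mem_S _)⟩ : M) : M ⧸ K) * x →
        ∃ b ∈ B, b * ((⟨f (z 2), hSM (P.mem_S _)⟩ : M) : M ⧸ K) * b⁻¹ = x) →
      Nat.card B ∣ 60 → False) :
    Subgroup.centralizer {f (t 2)} ≤ M := by
  intro d hdt
  by_contra hd
  rw [mem_centralizer_singleton_iff] at hdt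
  have hzt : f (z 2) * f (t 2) = f (t 2) * f (z 2) := by rw [← map_mul, ← map_mul, Fusion.z_comm]
  have hmz := Embedded.mem_of_z P M hSM hz g hg hga (Or.inl hgs)
  have hfM : ∀ x, f x ∈ M := fun x => hSM (P.mem_S x)
  -- transitivity of the two-point stabilizer
  have htwo : ∀ y : G, IsConj (f (z 2)) y → y * f (t 2) = f (t 2) * y → y ∈ M →
      ∃ k ∈ M, k * f (t 2) = f (t 2) * k ∧ d⁻¹ * k * d ∈ M ∧ k * f (z 2) * k⁻¹ = y := by
    intro y hy hyt hyM
    obtain ⟨k, hkL, hkd, hk⟩ := TwoPoint.exists_conj_mem_inf (H := ↥(Subgroup.centralizer {f (t 2)}))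
      (M.subgroupOf _) (fun x => IsConj (f (z 2)) (x : G))
      (fun x k hx => hx.trans (isConj_iff.2 ⟨(k : G), rfl⟩))
      (fun x hx => Subtype.ext (sq_z P hx).1)
      (fun x y hx hy hxy F hF hxF hyF => by
        refine mul_z_type P (F.map (Subgroup.subtype _)) (hF.map _) ?_ x y hx hy ⟨x, hxF, rfl⟩ ⟨y, hyF, rfl⟩ ?_
        · rintro _ ⟨w, -, rfl⟩
          exact w.2
        · exact fun h => hxy (Subtype.ext h))
      (fun x k hx hxL hk => hmz x hx hxL k hk)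
      ⟨f (z 2), mem_centralizer_singleton_iff.2 hzt⟩ (IsConj.refl _) (hfM _)
      (fun x hx => by
        obtain ⟨h, hht, hh⟩ := conj_t P g hga hgt x hx (mem_centralizer_singleton_iff.1 x.2)
        exact ⟨⟨h, mem_centralizer_singleton_iff.2 hht⟩, Subtype.ext hh⟩)
      ⟨d, mem_centralizer_singleton_iff.2 hdt⟩ ⟨y, mem_centralizer_singleton_iff.2 hyt⟩ hy hyM
    exact ⟨k, hkL, mem_centralizer_singleton_iff.1 k.2, hkd, congrArg Subtype.val hk⟩
  -- the two-point stabilizer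
  set B0 : Subgroup G := Subgroup.centralizer {f (t 2)} ⊓ M ⊓ M.map (MulAut.conj d).toMonoidHom with hB0
  have hmem : ∀ k, k ∈ B0 ↔ k * f (t 2) = f (t 2) * k ∧ k ∈ M ∧ d⁻¹ * k * d ∈ M := by
    intro k
    rw [hB0, mem_inf, mem_inf, mem_centralizer_singleton_iff, and_assoc]
    refine and_congr_right fun _ => and_congr_right fun _ => ?_
    constructor
    · rintro ⟨m, hm, rfl⟩
      have : d⁻¹ * ((MulAut.conj d).toMonoidHom m) * d = m := by
        change d⁻¹ * (d * m * d⁻¹) * d = m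
        group
      rw [this]; exact hm
    · intro hk
      exact ⟨d⁻¹ * k * d, hk, by change d * (d⁻¹ * k * d) * d⁻¹ = k; group⟩
  have hB0t : B0 ≤ Subgroup.centralizer {f (t 2)} := fun k hk =>
    mem_centralizer_singleton_iff.2 ((hmem k).1 hk).1
  have hB0z : ∀ x ∈ B0, ¬ IsConj (f (z 2)) x := by
    intro x hx hzx
    obtain ⟨-, h2, h3⟩ := (hmem x).1 hx
    apply hd
    have h4 := hmz x hzx h2 d⁻¹ (by rw [inv_inv]; exact h3)
    simpa using M.inv_mem h4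
  have hB08 : ¬ 8 ∣ Nat.card B0 := by
    intro h8
    obtain ⟨R, hR⟩ := Sylow.exists_subgroup_card_pow_prime (G := B0) 2 (n := 3) (by exact h8)
    have hRp : IsPGroup 2 R := IsPGroup.of_card hR
    have h1 := card_le_four P (R.map B0.subtype) (hRp.map _)
      (by rintro _ ⟨w, -, rfl⟩; exact hB0t w.2) (by rintro _ ⟨w, -, rfl⟩; exact hB0z _ w.2)
    rw [← Nat.card_congr (Subgroup.equivMapOfInjective R B0.subtype B0.subtype_injective).toEquiv, hR] at h1
    omega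
  -- its image
  refine hnt ((B0.subgroupOf M).map (QuotientGroup.mk' K)) ?_ ?_ ?_ ?_
  · refine ⟨⟨f (t 2), hfM _⟩, ?_, rfl⟩
    refine (hmem _).2 ⟨rfl, hfM _, ?_⟩
    have : d⁻¹ * f (t 2) * d = f (t 2) := by rw [mul_assoc, ← hdt]; group
    change d⁻¹ * f (t 2) * d ∈ M
    rw [this]; exact hfM _
  · rintro _ ⟨k, hk, rfl⟩
    obtain ⟨h1, -, -⟩ := (hmem _).1 hk
    rw [mem_centralizer_singleton_iff]
    change ((k : M) : M ⧸ K) * _ = _ * ((k : M) : M ⧸ K)
    rw [← QuotientGroup.mk_mul, ← QuotientGroup.mk_mul]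
    congr 1
    exact Subtype.ext h1
  · intro x hx hxt
    obtain ⟨q, hqt, hq⟩ := F.conj_t x hx hxt
    have htM2 : orderOf (⟨f (t 2), hfM _⟩ : M) = 2 := by
      rw [Subgroup.orderOf_mk]
      exact PatQuot.orderOf_f P (by decide) (by decide)
    obtain ⟨c, rfl, hct'⟩ := PatQuot.exists_lift_centralizer K hK ⟨f (t 2), hfM _⟩ htM2 q hqt
    have hct'' : (c : G) * f (t 2) = f (t 2) * c := congrArg Subtype.val hct'
    have hy1 : IsConj (f (z 2)) ((c : G) * f (z 2) * (c : G)⁻¹) := isConj_iff.2 ⟨c, rfl⟩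
    have hcz : Commute ((c : G) * f (z 2) * (c : G)⁻¹) (f (t 2)) := by
      have h1 : Commute (c : G) (f (t 2)) := hct''
      have h2 : Commute (f (z 2)) (f (t 2)) := hzt
      exact (h1.mul_left h2).mul_left h1.inv_left
    obtain ⟨k, hkM, hkt, hkd, hk⟩ := htwo _ hy1 hcz.eq (M.mul_mem (M.mul_mem c.2 (hfM _)) (M.inv_mem c.2))
    refine ⟨((⟨k, hkM⟩ : M) : M ⧸ K), ⟨⟨k, hkM⟩, (hmem _).2 ⟨hkt, hkM, hkd⟩, rfl⟩, ?_⟩
    rw [← hq]
    rw [← QuotientGroup.mk_inv, ← QuotientGroup.mk_mul, ← QuotientGroup.mk_mul, ← QuotientGroup.mk_inv,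
      ← QuotientGroup.mk_mul, ← QuotientGroup.mk_mul]
    congr 1
    exact Subtype.ext hk
  · refine dvd_sixty ?_ ?_
    · rw [← hct]
      refine Subgroup.card_dvd_of_le ?_
      rintro _ ⟨k, hk, rfl⟩
      obtain ⟨h1, -, -⟩ := (hmem _).1 hk
      rw [mem_centralizer_singleton_iff]
      change ((k : M) : M ⧸ K) * _ = _ * ((k : M) : M ⧸ K)
      rw [← QuotientGroup.mk_mul, ← QuotientGroup.mk_mul]
      congr 1
      exact Subtype.ext h1
    · intro h8
      apply hB08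
      have h1 : Nat.card ↥((B0.subgroupOf M).map (QuotientGroup.mk' K)) ∣ Nat.card (B0.subgroupOf M) :=
        Subgroup.card_map_dvd _ _
      have h2 : Nat.card (B0.subgroupOf M) = Nat.card B0 :=
        Nat.card_congr (Subgroup.subgroupOfEquivOfLe (fun k hk => ((hmem k).1 hk).2.1)).toEquiv
      rw [← h2]
      exact h8.trans h1

end Cfsg.Agent.MTwelveType.CaseA
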