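import Cfsg.Agent.MTwelveType.FixPoint
import Cfsg.Agent.TwoFusion.TransferIndex
import Cfsg.Agent.TwoFusion.ClosedZ
import Cfsg.Agent.S0111

/-!
The structure of a core-free group `C` with the Sylow 2-subgroup of `M₁₂`, a central involution and
the fusion of the centralizer of a 2-central involution of `M₁₂`.
-/

set_option autoImplicit false

open Subgroup
open Cfsg.Agent.ClassificationK.GTwoModel
open Cfsg.Agent.ClassificationK.GTwoModel.T
open Cfsg.Agent.MTwelveType.CentModel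
open Cfsg.Agent.MTwelveType.Lift

namespace Cfsg.Agent.MTwelveType.CentCore

universe u

/-- the abstract situation in the centralizer of `z` -/
structure CSet {C : Type*} [Group C] [Finite C] (S : Sylow 2 C) (f : T (2 * 2) →* C) : Prop where
  inj : Function.Injective f
  range : f.range = (S : Subgroup C)
  cen : f (z 2) ∈ center C
  hs : ∀ y ∈ Q, ¬ IsConj (f (s 2)) (f y)
  htu : IsConj (f (t 2)) (f (u 2))
  htw : IsConj (f (t 2)) (f (w 2))
  har : IsConj (f (a' 2)) (f (r 2))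
  hE : ∀ x ∈ E, ∀ y ∈ Q, IsConj (f x) (f y) → y ∈ E

theorem E_not_mem_four : ∀ v : T (2 * 2), v ∈ Q → v * v ∈ E := by decide +kernel

theorem s_mul_Q : ∀ y : T (2 * 2), y ∉ Q → (s 2)⁻¹ * y ∈ Q := by decide +kernel

theorem Q_word : ∀ y : T (2 * 2), y ∈ Q →
    y = (r 2 * t 2) ^ (y.i.val) * (if y.i = y.j then 1 else b' 2) * (if y.e then t 2 else 1) *
      (if y.d then u 2 else 1) := by decide +kernel

theorem a'_conj_b' : u 2 * a' 2 * (u 2)⁻¹ = b' 2 := by decide +kernel

theorem a'_sq_of : (⟨1, 0, false, false⟩ : T (2 * 2)) * ⟨1, 0, false, false⟩ = a' 2 := by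
  decide +kernel

theorem a'_mem_Q : a' 2 ∈ Q := by decide +kernel
theorem t_mem_Q : t 2 ∈ Q := by decide +kernel
theorem a'_mem_E : a' 2 ∈ E := by decide +kernel

theorem w_eq : w 2 = t 2 * u 2 := by decide +kernel

section

variable {C : Type*} [Group C] [Finite C] {S : Sylow 2 C} {f : T (2 * 2) →* C}

omit [Finite C] in
theorem mem_mapf (hf : Function.Injective f) (H : Subgroup (T (2 * 2))) (x : T (2 * 2)) :
    f x ∈ H.map f ↔ x ∈ H := by
  constructor
  · rintro ⟨y, hy, hyx⟩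
    rwa [← hf hyx]
  · intro h
    exact ⟨x, h, rfl⟩

/-- (C4) in `C` -/
theorem CSet.fix (h : CSet S f) {x : C} (hx : Odd (orderOf x))
    (hxQ : ∀ q ∈ Q, x * f q * x⁻¹ ∈ Q.map f) {v : T (2 * 2)} (hv : v ∈ Q) (hv1 : v ≠ 1)
    (hvz : v ≠ z 2) (hxv : x * f v * x⁻¹ = f v ∨ x * f v * x⁻¹ = f (v * z 2)) :
    ∀ q ∈ Q, x * f q = f q * x := by
  have hinj : ∀ a b : T (2 * 2), f a = f b → a = b := fun a b hab => h.inj hab
  have hxE : ∀ e ∈ E.map f, x * e * x⁻¹ ∈ E.map f := by
    rintro _ ⟨e, he, rfl⟩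
    obtain ⟨y, hy, hye⟩ := hxQ e (E_le_Q e he)
    have h1 := h.hE e he y hy (isConj_iff.2 ⟨x, hye.symm⟩)
    exact ⟨y, h1, hye⟩
  have hxE' : ∀ e ∈ E.map f, x⁻¹ * e * x ∈ E.map f := by
    have h1 : x ∈ normalizer ((E.map f : Subgroup C) : Set C) := mem_normalizer_fintype hxE
    intro e he
    exact (mem_normalizer_iff''.1 h1 e).1 he
  have key := FixPoint.fix_lemma (Q.map f) (E.map f) (f (z 2)) x hx ?_ ?_ ?_ ?_ ?_ ?_ ?_ ?_ ?_ ?_ ?_ ?_ ?_
    hxE hxE' ?_ (f v) ⟨v, hv, rfl⟩ ?_ ?_ ?_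
  · intro q hq
    exact key _ ⟨q, hq, rfl⟩
  · rintro _ ⟨e, he, rfl⟩
    rw [← map_mul, E_sq e he, map_one]
  · rintro _ ⟨e, he, rfl⟩ _ ⟨e', he', rfl⟩
    rw [← map_mul, ← map_mul, E_comm e e' he he']
  · rintro _ ⟨q, hq, rfl⟩ _ ⟨e, he, rfl⟩
    rw [← map_mul, ← map_inv, ← map_mul]
    exact ⟨_, E_normal q e he, rfl⟩
  · exact Subgroup.map_mono (fun x hx => E_le_Q x hx)
  · exact ⟨_, z_mem_E, rfl⟩
  · rintro _ ⟨q, hq, rfl⟩
    rw [← map_mul, ← map_mul, z_cen]
  · rintro _ ⟨q, hq, rfl⟩ _ ⟨e, he, rfl⟩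
    rw [← map_mul, ← map_inv, ← map_mul, ← map_mul]
    rcases E_comm_Q q e hq he with h1 | h1
    · left; rw [h1]
    · right; rw [h1]
  · rintro _ ⟨q, hq, rfl⟩
    rw [← map_mul]
    exact ⟨_, E_not_mem_four q hq, rfl⟩
  · rintro _ ⟨e, he, rfl⟩ h1
    rcases cen_Q e (fun q hq => by
      have h2 := h1 (f q) ⟨q, hq, rfl⟩
      rw [← map_mul, ← map_mul] at h2
      exact h.inj h2) with rfl | rfl
    · left; exact map_one f
    · right; rfl
  · rintro _ ⟨q, hq, rfl⟩ h1
    refine ⟨q, cen_E q hq (fun e he => ?_), rfl⟩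
    have h2 := h1 (f e) ⟨e, he, rfl⟩
    rw [← map_mul, ← map_mul] at h2
    exact h.inj h2
  · rintro _ ⟨v, hv, rfl⟩ hv1 hvz _ ⟨e, he, rfl⟩ he1 _ ⟨e', he', rfl⟩ he1'
    have h0 : ∀ a b : T (2 * 2), f a ≠ f b → a ≠ b := fun a b hab hab' => hab (by rw [hab'])
    rw [← map_mul] at he1 he1'
    rw [← map_mul, ← map_inv, ← map_mul]
    rw [← map_one f] at hv1 he1 he1'
    rcases E_four v hv (h0 _ _ hv1) (h0 _ _ hvz) e he
      ⟨h0 _ _ he1.1, h0 _ _ he1.2.1, h0 _ _ he1.2.2.1, h0 _ _ he1.2.2.2⟩ e' he'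
      ⟨h0 _ _ he1'.1, h0 _ _ he1'.2.1, h0 _ _ he1'.2.2.1, h0 _ _ he1'.2.2.2⟩ with h1 | h1 | h1 | h1
    · left; rw [h1, map_one]
    · right; left; rw [h1]
    · right; right; left; rw [h1]
    · right; right; right; rw [h1]
  · rintro _ ⟨v, hv, rfl⟩ _ ⟨w, hw, rfl⟩ _ ⟨w', hw', rfl⟩ h1 h2 h3 h4 h5
    rw [mem_mapf h.inj] at h1 h2 h4
    rw [← map_inv, ← map_mul, mem_mapf h.inj] at h3 h5
    rw [← map_inv, ← map_inv, ← map_mul, ← map_mul, mem_mapf h.inj, mem_mapf h.inj]
    exact Q_four v w w' hv hw hw' h1 h2 h3 h4 h5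
  · exact mem_center_iff.1 h.cen x
  · rintro _ ⟨q, hq, rfl⟩
    exact hxQ q hq
  · intro h1; exact hv1 (h.inj (by rw [h1, map_one]))
  · intro h1; exact hvz (h.inj h1)
  · rwa [← map_mul]

theorem relIndex_Q (h : CSet S f) : (Q.map f).relIndex (S : Subgroup C) = 2 := by
  rw [← h.range, MonoidHom.range_eq_map, relIndex_map_map_of_injective _ _ h.inj,
    relIndex_top_right]
  have h1 : Nat.card Q * Q.index = 4 * (2 * 2) ^ 2 := by rw [card_mul_index, card_T]
  have h2 : Nat.card Q = 32 := by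
    rw [Nat.card_eq_fintype_card]
    decide +kernel
  rw [h2] at h1
  omega

theorem Q_le_S (h : CSet S f) : Q.map f ≤ (S : Subgroup C) := by
  rw [← h.range, MonoidHom.range_eq_map]
  exact Subgroup.map_mono le_top

/-- (C3) the subgroup of index two -/
theorem CSet.exists_index_two (h : CSet S f) :
    ∃ K : Subgroup C, K.Normal ∧ K.index = 2 ∧ ∀ y, f y ∈ K ↔ y ∈ Q := by
  have hso : orderOf (f (s 2)) = 2 := by
    rw [orderOf_injective f h.inj]
    exact orderOf_eq_prime (by rw [pow_two]; decide +kernel) (by decide +kernel)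
  rcases Cfsg.Agent.S0111.result S (Q.map f) (Q_le_S h) (relIndex_Q h) (f (s 2)) hso
    (by rw [← h.range]; exact ⟨_, rfl⟩)
    (by rw [mem_mapf h.inj]; decide +kernel) with ⟨K, hK, hK2, hsK⟩ | ⟨g, y, hy, hgy⟩
  · refine ⟨K, hK, hK2, ?_⟩
    have hmul : ∀ {a b : C}, a * b ∈ K ↔ (a ∈ K ↔ b ∈ K) := fun {a b} => mul_mem_iff_of_index_two hK2
    have hconj : ∀ {a b : C}, IsConj a b → (a ∈ K ↔ b ∈ K) := by
      intro a b hab
      obtain ⟨g, rfl⟩ := isConj_iff.1 hab
      exact ⟨fun ha => hK.conj_mem a ha g, fun hb => by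
        have := hK.conj_mem _ hb g⁻¹
        convert this using 1
        group⟩
    have htu := hconj h.htu
    have htw := hconj h.htw
    have hw : f (w 2) ∈ K ↔ (f (t 2) ∈ K ↔ f (u 2) ∈ K) := by
      rw [w_eq, map_mul]; exact hmul
    have ht : f (t 2) ∈ K := by
      by_contra h1
      have h2 : f (u 2) ∉ K := fun h3 => h1 (htu.2 h3)
      exact h1 (htw.2 (hw.2 ⟨fun h3 => absurd h3 h1, fun h3 => absurd h3 h2⟩))
    have hu : f (u 2) ∈ K := htu.1 ht
    have ha : f (a' 2) ∈ K := by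
      rw [← a'_sq_of, map_mul]
      exact hmul.2 Iff.rfl
    have hb : f (b' 2) ∈ K := by
      rw [← a'_conj_b', map_mul, map_mul, map_inv]
      exact hK.conj_mem _ ha _
    have hr : f (r 2) ∈ K := (hconj h.har).1 ha
    have hQK : ∀ y ∈ Q, f y ∈ K := by
      intro y hy
      rw [Q_word y hy]
      rw [map_mul, map_mul, map_mul, map_pow, map_mul]
      refine K.mul_mem (K.mul_mem (K.mul_mem (K.pow_mem (K.mul_mem hr ht) _) ?_) ?_) ?_
      · split_ifs
        · rw [map_one]; exact K.one_mem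
        · exact hb
      · split_ifs
        · exact ht
        · rw [map_one]; exact K.one_mem
      · split_ifs
        · exact hu
        · rw [map_one]; exact K.one_mem
    intro y
    constructor
    · intro hy
      by_contra hyQ
      have h1 := hQK _ (s_mul_Q y hyQ)
      rw [map_mul, map_inv] at h1
      exact hsK (by
        have h2 := K.mul_mem hy (K.inv_mem h1)
        have h3 : f y * ((f (s 2))⁻¹ * f y)⁻¹ = f (s 2) := by group
        rwa [h3] at h2)
    · exact hQK y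
  · exact absurd (isConj_iff.2 ⟨g, hgy.symm⟩) (h.hs y hy)

/-- orbit-stabiliser for conjugation -/
theorem card_conj {D : Type*} [Group D] (x : D) :
    Nat.card {y : D // IsConj x y} * Nat.card (centralizer ({x} : Set D)) = Nat.card D := by
  have e := Nat.card_congr (MulAction.orbitProdStabilizerEquivGroup (ConjAct D) x)
  rw [Nat.card_prod] at e
  have e1 : Nat.card (MulAction.orbit (ConjAct D) x) = Nat.card {y : D // IsConj x y} := by
    apply Nat.card_congr
    refine Equiv.subtypeEquivRight ?_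
    intro y
    rw [isConj_iff]
    constructor
    · rintro ⟨k, hk⟩
      exact ⟨ConjAct.ofConjAct k, by rw [← hk]; rfl⟩
    · rintro ⟨k, hk⟩
      exact ⟨ConjAct.toConjAct k, by rw [← hk]; rfl⟩
  have e2 : Nat.card (MulAction.stabilizer (ConjAct D) x) = Nat.card (centralizer ({x} : Set D)) := by
    apply Nat.card_congr
    refine (Equiv.subtypeEquiv ConjAct.ofConjAct.toEquiv ?_)
    intro k
    rw [MulAction.mem_stabilizer_iff, ConjAct.smul_def, mul_inv_eq_iff_eq_mul,
      mem_centralizer_singleton_iff]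
    rfl
  rw [← e1, ← e2, e]
  exact Nat.card_congr ConjAct.ofConjAct.toEquiv

end

section

variable {C : Type u} [Group C] [Finite C] {S : Sylow 2 C} {f : T (2 * 2) →* C}

/-- `Q` is normal in the core-free group `C` -/
theorem CSet.Q_normal (hB : ThmB.{u}) (h : CSet S f) (hO : Cfsg.oddCore C = ⊥) :
    (Q.map f).Normal := by
  obtain ⟨K, hK, hK2, hKQ⟩ := h.exists_index_two
  have hQK : Q.map f ≤ K := by
    rintro _ ⟨q, hq, rfl⟩
    exact (hKQ q).2 hq
  have hQcard : Nat.card (Q.map f) = 32 := by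
    rw [Nat.card_congr (Q.equivMapOfInjective f h.inj).symm.toEquiv, Nat.card_eq_fintype_card]
    decide +kernel
  have hp : IsPGroup 2 ((Q.map f).subgroupOf K) := by
    refine IsPGroup.of_card (n := 5) ?_
    rw [Nat.card_congr (subgroupOfEquivOfLe hQK).toEquiv, hQcard]
    rfl
  have hidx : ¬ 2 ∣ ((Q.map f).subgroupOf K).index := by
    have h1 := relIndex_mul_index (Q_le_S h)
    have h2 := relIndex_mul_index hQK
    rw [relIndex_Q h] at h1
    rw [hK2, ← h1, relIndex] at h2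
    have h3 : ((Q.map f).subgroupOf K).index = (S : Subgroup C).index := by omega
    rw [h3]
    exact S.not_dvd_index
  set P : Sylow 2 K := hp.toSylow hidx with hP
  have hPc : (P : Subgroup K) = (Q.map f).subgroupOf K := rfl
  have hPmem : ∀ x : K, x ∈ P ↔ (x : C) ∈ Q.map f := fun x => Iff.rfl
  have hPn : (P : Subgroup K).Normal := by
    have hlift : ∀ x : K, x ∈ normalizer (P : Set K) → ∀ q ∈ Q,
        (x : C) * f q * (x : C)⁻¹ ∈ Q.map f := by
      intro x hx q hq
      have h1 : (⟨f q, hQK ⟨q, hq, rfl⟩⟩ : K) ∈ P := (hPmem _).2 ⟨q, hq, rfl⟩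
      exact (hPmem _).1 ((mem_set_normalizer_iff.1 hx _).1 h1)
    refine normal_of_thmB hB P ⟨f (z 2), hQK ⟨_, z_mem_Q, rfl⟩⟩ ?_ ?_ ?_ ?_ ?_ ?_ ?_
      ⟨f (a' 2), hQK ⟨_, a'_mem_Q, rfl⟩⟩ ⟨f (t 2), hQK ⟨_, t_mem_Q, rfl⟩⟩
      ?_ ?_ ?_ ?_ ?_ ?_ ?_
    · rw [← Subgroup.orderOf_coe]
      show orderOf (f (z 2)) = 2
      rw [orderOf_injective f h.inj]
      exact orderOf_eq_prime (by rw [pow_two]; exact z_sq) z_ne
    · rw [mem_center_iff]
      intro g
      exact Subtype.ext (mem_center_iff.1 h.cen g)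
    · exact (hPmem _).2 ⟨_, z_mem_Q, rfl⟩
    · intro a ha
      obtain ⟨q, hq, hqa⟩ := (hPmem a).1 ha
      rcases Q_sq q hq with h1 | h1
      · left
        apply Subtype.ext
        show (a : C) * a = 1
        rw [← hqa, ← map_mul, h1, map_one]
      · right
        apply Subtype.ext
        show (a : C) * a = f (z 2)
        rw [← hqa, ← map_mul, h1]
    · show 16 ≤ Nat.card ((P : Subgroup K) : Type u)
      rw [hPc, Nat.card_congr (subgroupOfEquivOfLe hQK).toEquiv, hQcard]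
      norm_num
    · have h1 := Cfsg.Agent.Lib.Cores.map_subtype_pPrimeCore 2 hK
      rw [show Cfsg.pPrimeCore 2 C = ⊥ from hO, inf_bot_eq, Subgroup.map_eq_bot_iff] at h1
      rw [ker_subtype] at h1
      exact le_bot_iff.1 h1
    · intro x hx hxo v hv hv1 hvz hxv q hq
      obtain ⟨v', hv', hvv⟩ := (hPmem v).1 hv
      obtain ⟨q', hq', hqq⟩ := (hPmem q).1 hq
      apply Subtype.ext
      show (x : C) * q = q * x
      rw [← hqq]
      refine h.fix (x := (x : C)) (by rwa [Subgroup.orderOf_coe]) (hlift x hx) hv' ?_ ?_ ?_ q' hq'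
      · rintro rfl
        exact hv1 (Subtype.ext (by rw [← hvv, map_one]; rfl))
      · rintro rfl
        exact hvz (Subtype.ext (by rw [← hvv]))
      · rw [map_mul, hvv]
        rcases hxv with h1 | h1
        · left; exact congrArg Subtype.val h1
        · right; exact congrArg Subtype.val h1
    · exact (hPmem _).2 ⟨_, a'_mem_Q, rfl⟩
    · exact (hPmem _).2 ⟨_, t_mem_Q, rfl⟩
    · intro h1
      have h2 : f (a' 2) = 1 := congrArg Subtype.val h1
      exact absurd (h.inj (by rw [h2, map_one])) (by decide +kernel : a' 2 ≠ (1 : T (2 * 2)))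
    · intro h1
      have h2 : f (a' 2) = f (z 2) := congrArg Subtype.val h1
      exact absurd (h.inj h2) (by decide +kernel : a' 2 ≠ (z 2 : T (2 * 2)))
    · intro h1
      have h2 : f (t 2) = 1 := congrArg Subtype.val h1
      exact absurd (h.inj (by rw [h2, map_one])) (by decide +kernel : t 2 ≠ (1 : T (2 * 2)))
    · intro h1
      have h2 : f (t 2) = f (z 2) := congrArg Subtype.val h1
      exact absurd (h.inj h2) (by decide +kernel : t 2 ≠ (z 2 : T (2 * 2)))
    · intro x hx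
      have h3 : ∀ y ∈ Q, IsConj (f (a' 2)) (f y) → y ∈ E :=
        h.hE (a' 2) (by decide +kernel)
      constructor
      · intro h1
        have h2 : (x : C) * f (a' 2) * (x : C)⁻¹ = f (t 2) := congrArg Subtype.val h1
        exact absurd (h3 _ (by decide +kernel) (isConj_iff.2 ⟨x, h2⟩)) (by decide +kernel)
      · intro h1
        have h2 : (x : C) * f (a' 2) * (x : C)⁻¹ = f (t 2 * z 2) := by
          rw [map_mul]; exact congrArg Subtype.val h1
        exact absurd (h3 _ (by decide +kernel) (isConj_iff.2 ⟨x, h2⟩)) (by decide +kernel)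
  have hch := Sylow.characteristic_of_normal P hPn
  have h1 : ((P : Subgroup K).map K.subtype).Normal := inferInstance
  rwa [hPc, subgroupOf_map_subtype, inf_eq_left.2 hQK] at h1

theorem E_class : ∀ x : T (2 * 2), x ∈ E → x ≠ 1 → x ≠ z 2 →
    (∃ g, g * a' 2 * g⁻¹ = x) ∨ (∃ g, g * r 2 * g⁻¹ = x) := by decide +kernel

/-- `E` is normal -/
theorem CSet.E_normal (h : CSet S f) (hQ : (Q.map f).Normal) : (E.map f).Normal := by
  refine ⟨?_⟩
  rintro _ ⟨e, he, rfl⟩ x
  obtain ⟨y, hy, hye⟩ := hQ.conj_mem _ ⟨e, E_le_Q e he, rfl⟩ x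
  exact ⟨y, h.hE e he y hy (isConj_iff.2 ⟨x, hye.symm⟩), hye⟩

/-- in the core-free case nothing of odd order centralises `Q` -/
theorem CSet.cent_Q (h : CSet S f) (hO : Cfsg.oddCore C = ⊥) (hQ : (Q.map f).Normal) (x : C)
    (hx : Odd (orderOf x)) (hxQ : ∀ q ∈ Q, x * f q = f q * x) : x = 1 := by
  have hKn : (centralizer ((Q.map f : Subgroup C) : Set C)).Normal := inferInstance
  have hxK : x ∈ centralizer ((Q.map f : Subgroup C) : Set C) := by
    rw [mem_centralizer_iff]
    rintro _ ⟨q, hq, rfl⟩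
    exact (hxQ q hq).symm
  have hzo : orderOf (f (z 2)) = 2 := by
    rw [orderOf_injective f h.inj]
    exact orderOf_eq_prime (by rw [pow_two]; exact z_sq) z_ne
  have hKS : centralizer ((Q.map f : Subgroup C) : Set C) ⊓ S = zpowers (f (z 2)) := by
    apply le_antisymm
    · rintro y ⟨hy, hyS⟩
      rw [SetLike.mem_coe, ← h.range] at hyS
      obtain ⟨y, rfl⟩ := hyS
      rcases cen_Q y (fun q hq => by
        have h2 := mem_centralizer_iff.1 hy (f q) ⟨q, hq, rfl⟩
        rw [← map_mul, ← map_mul] at h2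
        exact (h.inj h2).symm) with rfl | rfl
      · rw [map_one]; exact one_mem _
      · exact mem_zpowers _
    · rw [zpowers_le]
      refine mem_inf.2 ⟨?_, ?_⟩
      · rw [mem_centralizer_iff]
        intro q _
        exact mem_center_iff.1 h.cen q
      · rw [← h.range]
        exact ⟨_, rfl⟩
  have hle := Cfsg.Agent.TwoFusion.ClosedZ.le_of_central_odd_index hO
    (centralizer ((Q.map f : Subgroup C) : Set C)) (zpowers (f (z 2))) hKn
    (IsPGroup.of_card (n := 1) (by rw [Nat.card_zpowers, hzo, pow_one]))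
    (by
      rintro _ ⟨k, rfl⟩ c _
      exact (mem_center_iff.1 (Subgroup.zpow_mem _ h.cen k) c).symm)
    (by
      rw [← Nat.not_even_iff_odd]
      intro h1
      rw [← hKS] at h1
      exact Cfsg.Agent.TwoFusion.TransferIndex.not_dvd_relIndex_inf S _ h1.two_dvd)
  have h1 := hle hxK
  have h2 : orderOf x ∣ 2 := by
    have h3 := orderOf_dvd_natCard (⟨x, h1⟩ : zpowers (f (z 2)))
    rwa [← Subgroup.orderOf_coe, Nat.card_zpowers, hzo] at h3
  have h3 : orderOf x = 1 := by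
    rcases (Nat.dvd_prime Nat.prime_two).1 h2 with h4 | h4
    · exact h4
    · rw [h4] at hx
      exact absurd hx (by decide)
  exact orderOf_eq_one_iff.1 h3

/-- elements of odd order act fixed point freely on `Q/⟨z⟩` -/
theorem CSet.fpf (h : CSet S f) (hO : Cfsg.oddCore C = ⊥) (hQ : (Q.map f).Normal) (x : C)
    (hx : Odd (orderOf x)) {v : T (2 * 2)} (hv : v ∈ Q) (hv1 : v ≠ 1) (hvz : v ≠ z 2)
    (hxv : x * f v * x⁻¹ = f v ∨ x * f v * x⁻¹ = f (v * z 2)) : x = 1 :=
  h.cent_Q hO hQ x hx (h.fix hx (fun q hq => hQ.conj_mem _ ⟨q, hq, rfl⟩ x) hv hv1 hvz hxv)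

/-- the order of the core-free group is 192 -/
theorem CSet.card (h : CSet S f) (hO : Cfsg.oddCore C = ⊥) (hQ : (Q.map f).Normal) :
    Nat.card C = 192 := by
  have h1 := card_conj (f (a' 2))
  have hcl : Nat.card {y : C // IsConj (f (a' 2)) y} = 6 := by
    have h2 : Nat.card {x : T (2 * 2) // x ∈ E ∧ x ≠ 1 ∧ x ≠ z 2} = 6 := by
      rw [Nat.card_eq_fintype_card]
      decide +kernel
    rw [← h2]
    symm
    have hE := h.E_normal hQ
    have ha : IsConj (f (a' 2)) (f (a' 2)) := IsConj.refl _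
    refine Nat.card_congr (Equiv.ofBijective
      (fun x : {x : T (2 * 2) // x ∈ E ∧ x ≠ 1 ∧ x ≠ z 2} => (⟨f x.1, ?_⟩ : {y : C // IsConj (f (a' 2)) y})) ⟨?_, ?_⟩)
    · rcases E_class x.1 x.2.1 x.2.2.1 x.2.2.2 with ⟨g, hg⟩ | ⟨g, hg⟩
      · rw [← hg]
        exact f.map_isConj (isConj_iff.2 ⟨g, rfl⟩)
      · rw [← hg]
        exact h.har.trans (f.map_isConj (isConj_iff.2 ⟨g, rfl⟩))
    · intro x y hxy
      exact Subtype.ext (h.inj (congrArg Subtype.val hxy))
    · rintro ⟨y, hy⟩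
      obtain ⟨g, rfl⟩ := isConj_iff.1 hy
      obtain ⟨e, he, hge⟩ := hE.conj_mem (f (a' 2)) ⟨_, a'_mem_E, rfl⟩ g
      refine ⟨⟨e, he, ?_, ?_⟩, Subtype.ext hge⟩
      · rintro rfl
        rw [map_one, eq_comm, conj_eq_one_iff] at hge
        exact absurd (h.inj (by rw [hge, map_one])) (by decide +kernel : a' 2 ≠ (1 : T (2 * 2)))
      · rintro rfl
        have h3 : f (a' 2) = f (z 2) := by
          have h4 : g * f (z 2) * g⁻¹ = f (z 2) := by
            rw [mem_center_iff.1 h.cen g, mul_inv_cancel_right]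
          have h5 : g * f (a' 2) * g⁻¹ = g * f (z 2) * g⁻¹ := by rw [h4, hge]
          simpa using h5
        exact absurd (h.inj h3) (by decide +kernel : a' 2 ≠ (z 2 : T (2 * 2)))
  have hp : ∃ k, Nat.card (centralizer ({f (a' 2)} : Set C)) = 2 ^ k := by
    have h2 : IsPGroup 2 (centralizer ({f (a' 2)} : Set C)) := by
      intro g
      obtain ⟨a, m, hm, hgm⟩ := Nat.exists_eq_two_pow_mul_odd (orderOf_pos g).ne'
      refine ⟨a, ?_⟩
      have h3 : Odd (orderOf ((g ^ (2 ^ a) : centralizer ({f (a' 2)} : Set C)) : C)) := by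
        rw [Subgroup.orderOf_coe, orderOf_pow_of_dvd (by positivity)
          (by rw [hgm]; exact Dvd.intro _ rfl), hgm, Nat.mul_div_cancel_left _ (by positivity)]
        exact hm
      apply Subtype.ext
      refine h.fpf hO hQ _ h3 a'_mem_Q (by decide +kernel) (by decide +kernel) (Or.inl ?_)
      rw [mul_inv_eq_iff_eq_mul]
      exact mem_centralizer_singleton_iff.1 (g ^ (2 ^ a)).2
    exact h2.exists_card_eq
  obtain ⟨k, hk⟩ := hp
  have hS : Nat.card (S : Subgroup C) = 64 := by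
    rw [← h.range, Nat.card_congr (f.ofInjective h.inj).symm.toEquiv, card_T]
    norm_num
  have h2 := card_mul_index (S : Subgroup C)
  have h3 := S.not_dvd_index
  rw [hS] at h2
  rw [hcl, hk] at h1
  have h4 : k = 5 := by
    by_contra hne
    rcases Nat.lt_or_gt_of_ne hne with h5 | h5
    · have h6 : 2 ^ k ≤ 2 ^ 4 := Nat.pow_le_pow_right (by norm_num) (by omega)
      interval_cases k <;> omega
    · obtain ⟨j, rfl⟩ := Nat.exists_eq_add_of_lt h5
      rw [← h2, show 5 + j + 1 = 6 + j by ring, pow_add] at h1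
      apply h3
      exact ⟨3 * 2 ^ j, by omega⟩
  rw [h4] at h1
  omega

end

end Cfsg.Agent.MTwelveType.CentCore
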