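import Cfsg.Agent.ClassificationK.GTwoFusion

/-!
Computations in the model `T 4` of order 64 (the Sylow 2-subgroup of M12): the subgroups
`Q` (extraspecial of order 32) and `E` (elementary abelian of order 8).
-/

set_option autoImplicit false

open Subgroup
open Cfsg.Agent.ClassificationK.GTwoModel
open Cfsg.Agent.ClassificationK.GTwoModel.T

namespace Cfsg.Agent.MTwelveType.CentModel

/-- decidable equality of the model -/
instance instDecEq : DecidableEq (T (2 * 2)) := fun x y =>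
  decidable_of_iff (x.i = y.i ∧ x.j = y.j ∧ x.e = y.e ∧ x.d = y.d) (by
    rw [T.ext_iff])

/-- the model is a finite type -/
instance instFin : Fintype (T (2 * 2)) :=
  @Fintype.ofEquiv _ _ (inferInstanceAs (Fintype ((ZMod 4 × ZMod 4) × (Bool × Bool)))) (equivProd (2 * 2)).symm

/-- `Q` as a boolean test -/
def qB (y : T (2 * 2)) : Bool := decide (y.i + y.i = y.j + y.j)

/-- `E` as a boolean test -/
def eB (y : T (2 * 2)) : Bool :=
  !y.d && decide (y.i + y.i = cond y.e 2 0) && decide (y.j + y.j = cond y.e 2 0)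

/-- the subgroup `Q`, extraspecial of order 32 -/
def Q : Subgroup (T (2 * 2)) where
  carrier := {y | qB y = true}
  one_mem' := by decide +kernel
  mul_mem' := by
    have h : ∀ x y : T (2 * 2), qB x = true → qB y = true → qB (x * y) = true := by decide +kernel
    intro x y
    exact h x y
  inv_mem' := by
    have h : ∀ x : T (2 * 2), qB x = true → qB x⁻¹ = true := by decide +kernel
    intro x
    exact h x

/-- the subgroup `E`, elementary abelian of order 8 -/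
def E : Subgroup (T (2 * 2)) where
  carrier := {y | eB y = true}
  one_mem' := by decide +kernel
  mul_mem' := by
    have h : ∀ x y : T (2 * 2), eB x = true → eB y = true → eB (x * y) = true := by decide +kernel
    intro x y
    exact h x y
  inv_mem' := by
    have h : ∀ x : T (2 * 2), eB x = true → eB x⁻¹ = true := by decide +kernel
    intro x
    exact h x

theorem mem_Q {y : T (2 * 2)} : y ∈ Q ↔ qB y = true := Iff.rfl
theorem mem_E {y : T (2 * 2)} : y ∈ E ↔ eB y = true := Iff.rfl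

instance decQ (y : T (2 * 2)) : Decidable (y ∈ Q) := inferInstanceAs (Decidable (qB y = true))
instance decE (y : T (2 * 2)) : Decidable (y ∈ E) := inferInstanceAs (Decidable (eB y = true))

theorem Q_eq_ker : Q = (lam 2 1 0 0).ker := by
  ext y
  rw [MonoidHom.mem_ker, lam_eq_one_iff, mem_Q]
  revert y
  decide +kernel

theorem E_le_Q : ∀ x : T (2 * 2), x ∈ E → x ∈ Q := by decide +kernel
theorem E_sq : ∀ x : T (2 * 2), x ∈ E → x * x = 1 := by decide +kernel
theorem E_comm : ∀ x y : T (2 * 2), x ∈ E → y ∈ E → x * y = y * x := by decide +kernel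
theorem E_comm_Q : ∀ q e : T (2 * 2), q ∈ Q → e ∈ E → q * e * q⁻¹ = e ∨ q * e * q⁻¹ = e * z 2 := by
  decide +kernel
theorem E_normal : ∀ q e : T (2 * 2), e ∈ E → q * e * q⁻¹ ∈ E := by decide +kernel
theorem Q_normal : ∀ q e : T (2 * 2), e ∈ Q → q * e * q⁻¹ ∈ Q := by decide +kernel
theorem Q_sq : ∀ q : T (2 * 2), q ∈ Q → q * q = 1 ∨ q * q = z 2 := by decide +kernel
theorem z_mem_E : z 2 ∈ E := by decide +kernel
theorem z_mem_Q : z 2 ∈ Q := by decide +kernel
theorem z_sq : z 2 * z 2 = 1 := by decide +kernel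
theorem z_ne : z 2 ≠ (1 : T (2 * 2)) := by decide +kernel
theorem z_cen : ∀ x : T (2 * 2), x * z 2 = z 2 * x := by decide +kernel
theorem cen_Q : ∀ y : T (2 * 2), (∀ q, q ∈ Q → y * q = q * y) → y = 1 ∨ y = z 2 := by
  decide +kernel
theorem cen_E : ∀ y : T (2 * 2), y ∈ Q → (∀ q, q ∈ E → y * q = q * y) → y ∈ E := by
  decide +kernel
theorem E_four : ∀ v : T (2 * 2), v ∈ E → v ≠ 1 → v ≠ z 2 → ∀ e, e ∈ E →
    (e ≠ 1 ∧ e ≠ z 2 ∧ e ≠ v ∧ e ≠ v * z 2) → ∀ e', e' ∈ E →
    (e' ≠ 1 ∧ e' ≠ z 2 ∧ e' ≠ v ∧ e' ≠ v * z 2) →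
    (e⁻¹ * e' = 1 ∨ e⁻¹ * e' = z 2 ∨ e⁻¹ * e' = v ∨ e⁻¹ * e' = v * z 2) := by
  decide +kernel

/-- the map `Q → Q/E` as two booleans -/
def kap (y : T (2 * 2)) : Bool × Bool := (xor (decide (y.i + y.i = 2)) y.e, y.d)

theorem kap_inv_mul : ∀ x y : T (2 * 2), x ∈ Q → y ∈ Q →
    kap (x⁻¹ * y) = (xor (kap x).1 (kap y).1, xor (kap x).2 (kap y).2) := by
  decide +kernel
theorem kap_iff : ∀ x : T (2 * 2), x ∈ Q → (x ∈ E ↔ kap x = (false, false)) := by
  decide +kernel

theorem Q_four (v w w' : T (2 * 2)) (hv : v ∈ Q) (hw : w ∈ Q) (hw' : w' ∈ Q) (h1 : v ∉ E)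
    (h2 : w ∉ E) (h3 : v⁻¹ * w ∉ E) (h4 : w' ∉ E) (h5 : v⁻¹ * w' ∉ E) :
    w⁻¹ * w' ∈ E ∨ v⁻¹ * (w⁻¹ * w') ∈ E := by
  have a1 := Q.mul_mem (Q.inv_mem hv) hw
  have a2 := Q.mul_mem (Q.inv_mem hv) hw'
  have a3 := Q.mul_mem (Q.inv_mem hw) hw'
  have a4 := Q.mul_mem (Q.inv_mem hv) a3
  rw [kap_iff _ hv] at h1
  rw [kap_iff _ hw] at h2
  rw [kap_iff _ hw'] at h4
  rw [kap_iff _ a1, kap_inv_mul _ _ hv hw] at h3
  rw [kap_iff _ a2, kap_inv_mul _ _ hv hw'] at h5
  rw [kap_iff _ a3, kap_iff _ a4, kap_inv_mul _ _ hv a3, kap_inv_mul _ _ hw hw']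
  revert h1 h2 h3 h4 h5
  generalize kap v = a
  generalize kap w = b
  generalize kap w' = c
  revert a b c
  decide

end Cfsg.Agent.MTwelveType.CentModel
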