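import Cfsg.Agent.MTwelveType.Base

/-!
# Counting pairs of involutions whose product has `z` as a power (S1741, part T4b)

`X` finite with a homomorphism `f : T (2 * 2) →* X`, `|C(z)| = 192`, `Q` normal in `C(z)`, fusion of type `M₁₂`.
`card_az`: there are 240 pairs `(x, y)`, `x` of z-type, `y` of t-type, with `z ∈ ⟨x y⟩`.
`card_zz`: there are at least 64 pairs of z-types `(x, y)` with `z ∈ ⟨x y⟩`.
-/

set_option autoImplicit false

namespace Cfsg.Agent.MTwelveType.CountPairs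

open Cfsg.Agent.ClassificationK.GTwoModel Cfsg.Agent.ClassificationK.GTwoModel.T
open Cfsg.Agent.MTwelveType.Base Subgroup

/-! ### model facts -/

section model

set_option maxRecDepth 100000

theorem cent_z : ∀ x : T (2 * 2), x * z 2 = z 2 * x := by decide

theorem SS_of : ∀ x : T (2 * 2), x * x = 1 → ¬ InQ x → InSS x := by decide

theorem Q_cases : ∀ x : T (2 * 2), x * x = 1 → x ≠ 1 → InQ x → InE x ∨ InTT x := by decide

theorem SS_or_TT : ∀ x : T (2 * 2), InSS x → InTT x → False := by decide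

/-- `⟨Q, s⟩ = T` -/
theorem Q_s : ∀ x : T (2 * 2), InQ x ∨ InQ (x * s 2) := by decide

theorem InE_cases : ∀ x : T (2 * 2), InE x → x ≠ 1 → x ≠ z 2 →
    ((∃ g, g * a' 2 * g⁻¹ = x) ∨ (∃ g, g * r 2 * g⁻¹ = x)) := by decide

/-- `z` is a power of `x` -/
def ZPow (x : T (2 * 2)) : Prop := x = z 2 ∨ x * x = z 2 ∨ x * x * (x * x) = z 2

instance : DecidablePred ZPow := fun x => by unfold ZPow; infer_instance

theorem card_cent_a : Fintype.card {x : T (2 * 2) // x * a' 2 = a' 2 * x} = 32 := by decide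
theorem card_cent_r : Fintype.card {x : T (2 * 2) // x * r 2 = r 2 * x} = 16 := by decide
theorem card_cent_s : Fintype.card {x : T (2 * 2) // x * s 2 = s 2 * x} = 8 := by decide

theorem card_EE : Fintype.card {x : T (2 * 2) // InE x ∧ x ≠ 1 ∧ x ≠ z 2} = 6 := by decide

theorem count_s_ty : Fintype.card {q : T (2 * 2) // InTT q ∧ ZPow (s 2 * q)} = 8 := by decide
theorem count_a_ty : Fintype.card {q : T (2 * 2) // InTT q ∧ ZPow (a' 2 * q)} = 8 := by decide
theorem count_z_ty : ∀ q : T (2 * 2), InTT q → ¬ ZPow (z 2 * q) := by decide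
theorem count_s_zy : Fintype.card {q : T (2 * 2) // InSS q ∧ ZPow (s 2 * q)} = 5 := by decide

theorem pow_eight : ∀ x : T (2 * 2), (x * x * (x * x)) * (x * x * (x * x)) = 1 := by decide

theorem ZPow_of_pow : ∀ (x : T (2 * 2)) (k : Fin 8), x ^ (k : ℕ) = z 2 → ZPow x := by
  decide +kernel

end model

theorem ZPow_iff (x : T (2 * 2)) : z 2 ∈ zpowers x ↔ ZPow x := by
  constructor
  · intro h
    obtain ⟨k, hk⟩ := mem_zpowers_iff.mp h
    have h8 : x ^ 8 = 1 := by
      rw [← pow_eight x]; simp only [← pow_two, ← pow_mul]; norm_num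
    have h1 : x ^ k = x ^ (k % 8).toNat := by
      have h2 : x ^ k = x ^ (k % 8) := by
        conv_lhs => rw [← Int.emod_add_mul_ediv k 8]
        rw [zpow_add, zpow_mul]
        have : x ^ (8 : ℤ) = 1 := by exact_mod_cast h8
        rw [this, one_zpow, mul_one]
      rw [h2]
      have h3 : ((k % 8).toNat : ℤ) = k % 8 := Int.toNat_of_nonneg (Int.emod_nonneg _ (by norm_num))
      conv_lhs => rw [← h3]
      rw [zpow_natCast]
    have h4 : (k % 8).toNat < 8 := by omega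
    exact ZPow_of_pow x ⟨(k % 8).toNat, h4⟩ (by rw [← hk, h1])
  · rintro (h | h | h)
    · rw [h]; exact mem_zpowers _
    · rw [← h]; exact mul_mem (mem_zpowers _) (mem_zpowers _)
    · rw [← h]
      exact mul_mem (mul_mem (mem_zpowers _) (mem_zpowers _)) (mul_mem (mem_zpowers _) (mem_zpowers _))

/-! ### general tools -/

section tools

variable {G : Type*} [Group G]

/-- If `w` is an involution in `⟨x y⟩`, `x, y` involutions, then `w` commutes with `x` and `y`. -/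
theorem comm_of_mem_zpowers {x y w : G} (hx : x * x = 1) (hy : y * y = 1) (hw : w * w = 1)
    (h : w ∈ zpowers (x * y)) : x * w = w * x ∧ y * w = w * y := by
  obtain ⟨k, rfl⟩ := mem_zpowers_iff.mp h
  have hxi : x⁻¹ = x := (eq_inv_of_mul_eq_one_left hx).symm
  have hyi : y⁻¹ = y := (eq_inv_of_mul_eq_one_left hy).symm
  have hwi : ((x * y) ^ k)⁻¹ = (x * y) ^ k := (eq_inv_of_mul_eq_one_left hw).symm
  have h1 : x * (x * y) * x⁻¹ = (x * y)⁻¹ := by
    rw [mul_inv_rev, hyi, hxi, ← mul_assoc, hx, one_mul]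
  have h2 : x * (x * y) ^ k * x⁻¹ = (x * y) ^ k := by
    rw [← conj_zpow, h1, inv_zpow, hwi]
  have h3 : x * (x * y) ^ k = (x * y) ^ k * x := by
    calc x * (x * y) ^ k = x * (x * y) ^ k * x⁻¹ * x := by group
      _ = (x * y) ^ k * x := by rw [h2]
  refine ⟨h3, ?_⟩
  have h4 : (x * y) * (x * y) ^ k = (x * y) ^ k * (x * y) := by
    rw [← zpow_one_add, ← zpow_add_one, add_comm]
  have h5 : x * (y * (x * y) ^ k) = x * ((x * y) ^ k * y) := by
    calc x * (y * (x * y) ^ k) = (x * y) * (x * y) ^ k := by group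
      _ = (x * y) ^ k * (x * y) := h4
      _ = ((x * y) ^ k * x) * y := by group
      _ = (x * (x * y) ^ k) * y := by rw [h3]
      _ = x * ((x * y) ^ k * y) := by group
  exact mul_left_cancel h5

theorem card_sigma_const {α : Type*} [Finite α] {β : α → Type*} [∀ a, Finite (β a)] (n : ℕ)
    (h : ∀ a, Nat.card (β a) = n) : Nat.card (Σ a, β a) = Nat.card α * n := by
  classical
  have := Fintype.ofFinite α
  rw [Nat.card_sigma, Finset.sum_congr rfl (fun a _ => h a), Finset.sum_const, Finset.card_univ,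
    Nat.card_eq_fintype_card, smul_eq_mul]

/-- the length of a conjugacy class under a subgroup -/
theorem card_orbit [Finite G] (C : Subgroup G) (x : G) :
    Nat.card {y : G // ∃ c ∈ C, c * x * c⁻¹ = y} * Nat.card (C ⊓ centralizer {x} : Subgroup G) =
      Nat.card C := by
  classical
  let A : MulAction C G :=
    { smul := fun c y => (c : G) * y * (c : G)⁻¹
      one_smul := fun y => by change ((1 : C) : G) * y * ((1 : C) : G)⁻¹ = y; simp
      mul_smul := fun a b y => by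
        change ((a * b : C) : G) * y * ((a * b : C) : G)⁻¹ = (a : G) * ((b : G) * y * (b : G)⁻¹) * (a : G)⁻¹
        rw [coe_mul]; group }
  have hs : ∀ (c : C) (y : G), c • y = (c : G) * y * (c : G)⁻¹ := fun _ _ => rfl
  have h1 : Nat.card (MulAction.orbit C x) * Nat.card (MulAction.stabilizer C x) = Nat.card C := by
    rw [← Nat.card_prod]
    exact Nat.card_congr (MulAction.orbitProdStabilizerEquivGroup C x)
  have h2 : Nat.card (MulAction.orbit C x) = Nat.card {y : G // ∃ c ∈ C, c * x * c⁻¹ = y} := by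
    apply Nat.card_congr
    refine Equiv.subtypeEquivRight (fun y => ?_)
    rw [MulAction.mem_orbit_iff]
    constructor
    · rintro ⟨c, hc⟩; exact ⟨c, c.2, by rw [← hc, hs]⟩
    · rintro ⟨c, hc, hy⟩; exact ⟨⟨c, hc⟩, by rw [hs]; exact hy⟩
  have h3 : Nat.card (MulAction.stabilizer C x) = Nat.card (C ⊓ centralizer {x} : Subgroup G) := by
    apply Nat.card_congr
    exact {
      toFun := fun c => ⟨c.1.1, mem_inf.2 ⟨c.1.2, mem_centralizer_singleton_iff.2 (by
        have := c.2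
        rw [MulAction.mem_stabilizer_iff, hs] at this
        calc (c.1.1 : G) * x = (c.1.1 * x * c.1.1⁻¹) * c.1.1 := by group
          _ = x * c.1.1 := by rw [this])⟩⟩
      invFun := fun c => ⟨⟨c.1, (mem_inf.1 c.2).1⟩, by
        have := mem_centralizer_singleton_iff.1 (mem_inf.1 c.2).2
        rw [MulAction.mem_stabilizer_iff, hs]
        change c.1 * x * c.1⁻¹ = x
        rw [this]; group⟩
      left_inv := fun c => rfl
      right_inv := fun c => rfl }
  rw [← h2, ← h3, h1]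

theorem isConj_conj {a x : G} (g : G) : IsConj a x ↔ IsConj a (g * x * g⁻¹) := by
  have h1 : IsConj x (g * x * g⁻¹) := isConj_iff.mpr ⟨g, rfl⟩
  exact ⟨fun h => h.trans h1, fun h => h.trans h1.symm⟩

end tools

/-! ### the local situation -/

section loc

variable {G : Type*} [Group G] {S : Sylow 2 G} {f : T (2 * 2) →* G}

theorem mem_C (x : T (2 * 2)) : f x ∈ centralizer {f (z 2)} := by
  rw [mem_centralizer_singleton_iff, ← map_mul, ← map_mul, cent_z]

theorem range_le : f.range ≤ centralizer {f (z 2)} := by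
  rintro _ ⟨x, rfl⟩; exact mem_C x

theorem card_range (hinj : Function.Injective f) : Nat.card f.range = 64 := by
  have h := card_T (2 * 2)
  rw [Nat.card_congr (MonoidHom.ofInjective hinj).toEquiv] at h
  rw [h]; norm_num

theorem mul_self_of_isConj {x y : G} (hx : x * x = 1) (h : IsConj x y) : y * y = 1 := by
  obtain ⟨c, rfl⟩ := isConj_iff.1 h
  calc c * x * c⁻¹ * (c * x * c⁻¹) = c * (x * x) * c⁻¹ := by group
    _ = 1 := by rw [hx]; group

theorem ne_one_of_isConj {x y : G} (hx : x ≠ 1) (h : IsConj x y) : y ≠ 1 := by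
  obtain ⟨c, rfl⟩ := isConj_iff.1 h
  intro h1
  apply hx
  calc x = c⁻¹ * (c * x * c⁻¹) * c := by group
    _ = 1 := by rw [h1]; group

variable [Finite G]

theorem exists_conj (P : Pat S f) {y : G} (hy : y ∈ centralizer {f (z 2)}) (hyy : y * y = 1) :
    ∃ c ∈ centralizer {f (z 2)}, ∃ q, y = c * f q * c⁻¹ := by
  set C := centralizer {f (z 2)} with hCdef
  have hSC : (S : Subgroup G) ≤ C := by rw [← P.range]; exact range_le
  let S1 : Sylow 2 C := S.subtype hSC
  have hp : IsPGroup 2 (zpowers (⟨y, hy⟩ : C)) := by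
    rw [IsPGroup.iff_card]
    have h2 : orderOf (⟨y, hy⟩ : C) ∣ 2 := by
      apply orderOf_dvd_of_pow_eq_one
      rw [pow_two]
      exact Subtype.ext hyy
    rw [Nat.card_zpowers]
    rcases (Nat.dvd_prime Nat.prime_two).1 h2 with h | h
    · exact ⟨0, by rw [h, pow_zero]⟩
    · exact ⟨1, by rw [h, pow_one]⟩
  obtain ⟨Q1, hQ1⟩ := hp.exists_le_sylow
  obtain ⟨c, hc⟩ := MulAction.exists_smul_eq C S1 Q1
  have h1 : (⟨y, hy⟩ : C) ∈ (Q1 : Subgroup C) := hQ1 (mem_zpowers _)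
  rw [← hc, Sylow.coe_subgroup_smul] at h1
  obtain ⟨w, hw, hwy⟩ := h1
  have h2 : (w : G) ∈ (S : Subgroup G) := hw
  rw [← P.range] at h2
  obtain ⟨q, hq⟩ := h2
  refine ⟨c, c.2, q, ?_⟩
  have h3 := congrArg (Subtype.val) hwy
  rw [hq]
  exact h3.symm

theorem stab (P : Pat S f) (hC : Nat.card (centralizer {f (z 2)}) = 192)
    (har : ∃ c : G, c * f (z 2) = f (z 2) * c ∧ c * f (a' 2) * c⁻¹ = f (r 2))
    {c : G} (hc : c ∈ centralizer {f (z 2)}) (hn : ∀ x, ∃ y, c * f x * c⁻¹ = f y) : ∃ x, f x = c := by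
  set C := centralizer {f (z 2)} with hCdef
  set N := C ⊓ normalizer (f.range : Set G) with hN
  have hle : f.range ≤ N := le_inf range_le le_normalizer
  have h1 : 64 ∣ Nat.card N := by
    rw [← card_range P.inj]; exact card_dvd_of_le hle
  have h2 : Nat.card N ∣ 192 := by rw [← hC]; exact card_dvd_of_le inf_le_left
  have hcN : c ∈ N := by
    refine mem_inf.2 ⟨hc, mem_normalizer_fintype ?_⟩
    rintro _ ⟨x, rfl⟩
    obtain ⟨y, hy⟩ := hn x
    exact ⟨y, hy.symm⟩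
  have h3 : Nat.card N ≠ 192 := by
    intro h
    have hNC : N = C := eq_of_le_of_card_ge inf_le_left (by rw [h, hC])
    obtain ⟨d, hd, hd2⟩ := har
    have hdN : d ∈ N := by rw [hNC, mem_centralizer_singleton_iff]; exact hd
    have hdn := mem_normalizer_iff.1 (mem_inf.1 hdN).2
    have h4 : ∀ x : {x : T (2 * 2) // x * a' 2 = a' 2 * x},
        ∃ y : {x : T (2 * 2) // x * r 2 = r 2 * x}, d * f x.1 * d⁻¹ = f y.1 := by
      rintro ⟨x, hx⟩
      obtain ⟨y, hy⟩ := (hdn (f x)).1 ⟨x, rfl⟩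
      refine ⟨⟨y, ?_⟩, hy.symm⟩
      apply P.inj
      rw [map_mul, map_mul, hy, ← hd2]
      calc d * f x * d⁻¹ * (d * f (a' 2) * d⁻¹) = d * (f x * f (a' 2)) * d⁻¹ := by group
        _ = d * (f (a' 2) * f x) * d⁻¹ := by rw [← map_mul, hx, map_mul]
        _ = d * f (a' 2) * d⁻¹ * (d * f x * d⁻¹) := by group
    choose φ hφ using h4
    have h5 : Function.Injective φ := by
      intro x y hxy
      have h6 : d * f x.1 * d⁻¹ = d * f y.1 * d⁻¹ := by rw [hφ, hφ, hxy]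
      exact Subtype.ext (P.inj (mul_left_cancel (mul_right_cancel h6)))
    have h7 := Fintype.card_le_of_injective φ h5
    rw [card_cent_a, card_cent_r] at h7
    omega
  have h4 : Nat.card N = 64 := by
    obtain ⟨k, hk⟩ := h1
    rw [hk] at h2 h3 ⊢
    have h5 : k ∣ 3 := by
      have : 64 * k ∣ 64 * 3 := h2
      exact (Nat.mul_dvd_mul_iff_left (by norm_num)).1 this
    rcases (Nat.dvd_prime Nat.prime_three).1 h5 with rfl | rfl
    · rfl
    · exact absurd rfl h3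
  have h5 : f.range = N := eq_of_le_of_card_ge hle (by rw [h4, card_range P.inj])
  rw [← h5] at hcN
  exact hcN

theorem cent_s (P : Pat S f) (hC : Nat.card (centralizer {f (z 2)}) = 192)
    (hQ : ∀ c ∈ centralizer {f (z 2)}, ∀ q, InQ q → ∃ q', InQ q' ∧ c * f q * c⁻¹ = f q')
    (har : ∃ c : G, c * f (z 2) = f (z 2) * c ∧ c * f (a' 2) * c⁻¹ = f (r 2))
    {c : G} (hc : c ∈ centralizer {f (z 2)}) (hcs : c * f (s 2) = f (s 2) * c) :
    ∃ x, f x = c := by
  apply stab P hC har hc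
  intro x
  rcases Q_s x with h | h
  · obtain ⟨q', _, h2⟩ := hQ c hc x h
    exact ⟨q', h2⟩
  · obtain ⟨q', _, h2⟩ := hQ c hc _ h
    refine ⟨q' * (s 2)⁻¹, ?_⟩
    rw [map_mul, ← h2, map_mul, map_inv]
    have h3 : c * (f (s 2))⁻¹ = (f (s 2))⁻¹ * c := by
      calc c * (f (s 2))⁻¹ = (f (s 2))⁻¹ * (f (s 2) * c) * (f (s 2))⁻¹ := by group
        _ = (f (s 2))⁻¹ * (c * f (s 2)) * (f (s 2))⁻¹ := by rw [hcs]
        _ = (f (s 2))⁻¹ * c := by group
    calc c * f x * c⁻¹ = c * (f x * f (s 2)) * ((f (s 2))⁻¹ * c⁻¹) := by group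
      _ = c * (f x * f (s 2)) * (c * f (s 2))⁻¹ := by rw [mul_inv_rev]
      _ = c * (f x * f (s 2)) * (f (s 2) * c)⁻¹ := by rw [hcs]
      _ = c * (f x * f (s 2)) * c⁻¹ * (f (s 2))⁻¹ := by group

theorem card_class_s (P : Pat S f) (hC : Nat.card (centralizer {f (z 2)}) = 192)
    (hQ : ∀ c ∈ centralizer {f (z 2)}, ∀ q, InQ q → ∃ q', InQ q' ∧ c * f q * c⁻¹ = f q')
    (har : ∃ c : G, c * f (z 2) = f (z 2) * c ∧ c * f (a' 2) * c⁻¹ = f (r 2)) :
    Nat.card {y : G // ∃ c ∈ centralizer {f (z 2)}, c * f (s 2) * c⁻¹ = y} = 24 := by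
  have h1 := card_orbit (centralizer {f (z 2)}) (f (s 2))
  have h2 : Nat.card (centralizer {f (z 2)} ⊓ centralizer {f (s 2)} : Subgroup G) = 8 := by
    rw [← card_cent_s, ← Nat.card_eq_fintype_card]
    symm
    refine Nat.card_congr (Equiv.ofBijective (fun x => ⟨f x.1, mem_inf.2 ⟨mem_C _, ?_⟩⟩) ⟨?_, ?_⟩)
    · rw [mem_centralizer_singleton_iff, ← map_mul, x.2, map_mul]
    · intro x y hxy
      exact Subtype.ext (P.inj (congrArg Subtype.val hxy))
    · rintro ⟨c, hc⟩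
      obtain ⟨h3, h4⟩ := mem_inf.1 hc
      rw [mem_centralizer_singleton_iff] at h4
      obtain ⟨x, rfl⟩ := cent_s P hC hQ har h3 h4
      refine ⟨⟨x, P.inj ?_⟩, rfl⟩
      rw [map_mul, map_mul, h4]
  rw [h2, hC] at h1
  omega

/-- a z-type of `C(z)` different from `z` lies in `f(E)` or is conjugate to `s` -/
theorem z_cases (P : Pat S f)
    (hQ : ∀ c ∈ centralizer {f (z 2)}, ∀ q, InQ q → ∃ q', InQ q' ∧ c * f q * c⁻¹ = f q')
    {y : G} (hy : y ∈ centralizer {f (z 2)}) (hzy : IsConj (f (z 2)) y) :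
    (∃ x, InE x ∧ x ≠ 1 ∧ f x = y) ∨ (∃ c ∈ centralizer {f (z 2)}, c * f (s 2) * c⁻¹ = y) := by
  have hyy : y * y = 1 := mul_self_of_isConj (by rw [← map_mul]; exact map_one f) hzy
  have hy1 : y ≠ 1 := ne_one_of_isConj (fun h => by
    have : z 2 = (1 : T (2 * 2)) := P.inj (by rw [h, map_one])
    exact absurd this (by decide)) hzy
  obtain ⟨c, hc, q, rfl⟩ := exists_conj P hy hyy
  have hq2 : q * q = 1 := by
    apply P.inj
    rw [map_mul, map_one]
    calc f q * f q = c⁻¹ * ((c * f q * c⁻¹) * (c * f q * c⁻¹)) * c := by group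
      _ = 1 := by rw [hyy]; group
  by_cases hqQ : InQ q
  · left
    obtain ⟨q', h1, h2⟩ := hQ c hc q hqQ
    rw [h2] at hyy hy1 hzy ⊢
    have hq'2 : q' * q' = 1 := P.inj (by rw [map_mul, map_one]; exact hyy)
    have hq'1 : q' ≠ 1 := fun h => hy1 (by rw [h, map_one])
    rcases Q_cases q' hq'2 hq'1 h1 with h3 | h3
    · exact ⟨q', h3, hq'1, rfl⟩
    · exact absurd (hzy.trans (P.isConj_TT h3).symm) P.nzt
  · right
    obtain ⟨g, hg⟩ := conj_of_InSS q (SS_of q hq2 hqQ)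
    refine ⟨c * f g, mul_mem hc (mem_C g), ?_⟩
    rw [← hg, map_mul, map_mul, map_inv]; group

/-- a t-type of `C(z)` lies in `f(Q)` -/
theorem t_cases (P : Pat S f) (hs : IsConj (f (z 2)) (f (s 2)))
    (hQ : ∀ c ∈ centralizer {f (z 2)}, ∀ q, InQ q → ∃ q', InQ q' ∧ c * f q * c⁻¹ = f q')
    {y : G} (hy : y ∈ centralizer {f (z 2)}) (hzy : IsConj (f (t 2)) y) :
    ∃ x, InTT x ∧ f x = y := by
  have hyy : y * y = 1 := mul_self_of_isConj (by rw [← map_mul]; exact map_one f) hzy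
  have hy1 : y ≠ 1 := ne_one_of_isConj (fun h => by
    have : t 2 = (1 : T (2 * 2)) := P.inj (by rw [h, map_one])
    exact absurd this (by decide)) hzy
  obtain ⟨c, hc, q, rfl⟩ := exists_conj P hy hyy
  have hq2 : q * q = 1 := by
    apply P.inj
    rw [map_mul, map_one]
    calc f q * f q = c⁻¹ * ((c * f q * c⁻¹) * (c * f q * c⁻¹)) * c := by group
      _ = 1 := by rw [hyy]; group
  by_cases hqQ : InQ q
  · obtain ⟨q', h1, h2⟩ := hQ c hc q hqQ
    rw [h2] at hyy hy1 hzy ⊢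
    have hq'2 : q' * q' = 1 := P.inj (by rw [map_mul, map_one]; exact hyy)
    have hq'1 : q' ≠ 1 := fun h => hy1 (by rw [h, map_one])
    rcases Q_cases q' hq'2 hq'1 h1 with h3 | h3
    · exact absurd ((P.isConj_E h3 hq'1).trans hzy.symm) P.nzt
    · exact ⟨q', h3, rfl⟩
  · exfalso
    have h1 : IsConj (f (s 2)) (f q) := Pat.isConj_SS (SS_of q hq2 hqQ)
    have h2 : IsConj (f q) (c * f q * c⁻¹) := isConj_iff.2 ⟨c, rfl⟩
    exact P.nzt (((hs.trans h1).trans h2).trans hzy.symm)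

theorem zpow_iff (P : Pat S f) (x : T (2 * 2)) : f (z 2) ∈ zpowers (f x) ↔ ZPow x := by
  rw [← ZPow_iff]
  constructor
  · intro h
    obtain ⟨k, hk⟩ := mem_zpowers_iff.1 h
    exact mem_zpowers_iff.2 ⟨k, P.inj (by rw [map_zpow, hk])⟩
  · intro h
    obtain ⟨k, hk⟩ := mem_zpowers_iff.1 h
    exact mem_zpowers_iff.2 ⟨k, by rw [← map_zpow, hk]⟩

theorem fiber_t (P : Pat S f) (hs : IsConj (f (z 2)) (f (s 2)))
    (hQ : ∀ c ∈ centralizer {f (z 2)}, ∀ q, InQ q → ∃ q', InQ q' ∧ c * f q * c⁻¹ = f q')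
    (x : T (2 * 2)) (hx : x * x = 1) :
    Nat.card {y : G // IsConj (f (t 2)) y ∧ f (z 2) ∈ zpowers (f x * y)} =
      Fintype.card {q : T (2 * 2) // InTT q ∧ ZPow (x * q)} := by
  rw [← Nat.card_eq_fintype_card]
  symm
  refine Nat.card_congr (Equiv.ofBijective (fun q => ⟨f q.1, P.isConj_TT q.2.1, ?_⟩) ⟨?_, ?_⟩)
  · rw [← map_mul, zpow_iff P]; exact q.2.2
  · intro a b hab
    exact Subtype.ext (P.inj (congrArg Subtype.val hab))
  · rintro ⟨y, hy, hyz⟩
    have hyy : y * y = 1 := mul_self_of_isConj (by rw [← map_mul]; exact map_one f) hy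
    have h1 := comm_of_mem_zpowers (by rw [← map_mul, hx, map_one]) hyy
      (by rw [← map_mul]; exact map_one f) hyz
    obtain ⟨q, hq, rfl⟩ := t_cases P hs hQ (mem_centralizer_singleton_iff.2 h1.2) hy
    exact ⟨⟨q, hq, by rw [← zpow_iff P, map_mul]; exact hyz⟩, rfl⟩

omit [Finite G] in
/-- transport of the fibre by conjugation with `c ∈ C(w)` -/
theorem fiber_conj (a w x c : G) (hc : c * w = w * c) :
    Nat.card {y : G // IsConj a y ∧ w ∈ zpowers (c * x * c⁻¹ * y)} =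
      Nat.card {y : G // IsConj a y ∧ w ∈ zpowers (x * y)} := by
  symm
  refine Nat.card_congr ((MulAut.conj c).toEquiv.subtypeEquiv (fun y => ?_))
  have h1 : (MulAut.conj c).toEquiv y = c * y * c⁻¹ := rfl
  rw [h1, ← isConj_conj c]
  have h2 : c * x * c⁻¹ * (c * y * c⁻¹) = c * (x * y) * c⁻¹ := by group
  have hw : c * w * c⁻¹ = w := by rw [hc]; group
  rw [h2]
  refine and_congr_right (fun _ => ?_)
  constructor
  · intro h
    obtain ⟨k, hk⟩ := mem_zpowers_iff.1 h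
    exact mem_zpowers_iff.2 ⟨k, by rw [conj_zpow, hk, hw]⟩
  · intro h
    obtain ⟨k, hk⟩ := mem_zpowers_iff.1 h
    refine mem_zpowers_iff.2 ⟨k, ?_⟩
    rw [conj_zpow] at hk
    calc (x * y) ^ k = c⁻¹ * (c * (x * y) ^ k * c⁻¹) * c := by group
      _ = c⁻¹ * w * c := by rw [hk]
      _ = c⁻¹ * (c * w * c⁻¹) * c := by rw [hw]
      _ = w := by group

theorem fiber_t_all (P : Pat S f) (hs : IsConj (f (z 2)) (f (s 2)))
    (hQ : ∀ c ∈ centralizer {f (z 2)}, ∀ q, InQ q → ∃ q', InQ q' ∧ c * f q * c⁻¹ = f q')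
    (har : ∃ c : G, c * f (z 2) = f (z 2) * c ∧ c * f (a' 2) * c⁻¹ = f (r 2))
    {x : G} (hx : x ∈ centralizer {f (z 2)}) (hzx : IsConj (f (z 2)) x) (hne : x ≠ f (z 2)) :
    Nat.card {y : G // IsConj (f (t 2)) y ∧ f (z 2) ∈ zpowers (x * y)} = 8 := by
  have ha : Nat.card {y : G // IsConj (f (t 2)) y ∧ f (z 2) ∈ zpowers (f (a' 2) * y)} = 8 := by
    rw [fiber_t P hs hQ _ (by decide)]; exact count_a_ty
  have hss : Nat.card {y : G // IsConj (f (t 2)) y ∧ f (z 2) ∈ zpowers (f (s 2) * y)} = 8 := by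
    rw [fiber_t P hs hQ _ (by decide)]; exact count_s_ty
  have hr : Nat.card {y : G // IsConj (f (t 2)) y ∧ f (z 2) ∈ zpowers (f (r 2) * y)} = 8 := by
    obtain ⟨c, hc, hc2⟩ := har
    rw [← hc2, fiber_conj _ _ _ _ hc]; exact ha
  rcases z_cases P hQ hx hzx with ⟨q, hq, hq1, rfl⟩ | ⟨c, hc, rfl⟩
  · have hqz : q ≠ z 2 := fun h => hne (by rw [h])
    rcases InE_cases q hq hq1 hqz with ⟨g, rfl⟩ | ⟨g, rfl⟩
    · rw [map_mul, map_mul, map_inv, fiber_conj _ _ _ _ (by rw [← map_mul, ← map_mul, cent_z])]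
      exact ha
    · rw [map_mul, map_mul, map_inv, fiber_conj _ _ _ _ (by rw [← map_mul, ← map_mul, cent_z])]
      exact hr
  · rw [fiber_conj _ _ _ _ (mem_centralizer_singleton_iff.1 hc)]
    exact hss

theorem card_zC (P : Pat S f) (hs : IsConj (f (z 2)) (f (s 2)))
    (hC : Nat.card (centralizer {f (z 2)}) = 192)
    (hQ : ∀ c ∈ centralizer {f (z 2)}, ∀ q, InQ q → ∃ q', InQ q' ∧ c * f q * c⁻¹ = f q')
    (har : ∃ c : G, c * f (z 2) = f (z 2) * c ∧ c * f (a' 2) * c⁻¹ = f (r 2)) :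
    Nat.card {x : G // x ∈ centralizer {f (z 2)} ∧ IsConj (f (z 2)) x ∧ x ≠ f (z 2)} = 30 := by
  classical
  have hdis : ∀ (c : G) (q : T (2 * 2)), c ∈ centralizer {f (z 2)} → InE q →
      c * f (s 2) * c⁻¹ ≠ f q := by
    intro c q hc hq h
    obtain ⟨q', h1, h2⟩ := hQ c⁻¹ (inv_mem hc) q (InQ_of_InE q hq)
    have h3 : f (s 2) = f q' := by
      rw [← h2, ← h]; group
    have h4 := P.inj h3
    exact absurd h1 (by rw [← h4]; decide)
  have h1 : Nat.card ({y : G // ∃ c ∈ centralizer {f (z 2)}, c * f (s 2) * c⁻¹ = y} ⊕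
      {x : T (2 * 2) // InE x ∧ x ≠ 1 ∧ x ≠ z 2}) = 30 := by
    rw [Nat.card_sum, card_class_s P hC hQ har, Nat.card_eq_fintype_card, card_EE]
  rw [← h1]
  symm
  refine Nat.card_congr (Equiv.ofBijective (fun y => match y with
    | Sum.inl y => ⟨y.1, ?_⟩
    | Sum.inr x => ⟨f x.1, mem_C _, P.isConj_E x.2.1 x.2.2.1, fun h => x.2.2.2 (P.inj h)⟩) ⟨?_, ?_⟩)
  · obtain ⟨c, hc, hy⟩ := y.2
    refine ⟨?_, ?_, ?_⟩
    · rw [← hy]; exact mul_mem (mul_mem hc (mem_C _)) (inv_mem hc)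
    · rw [← hy]; exact hs.trans (isConj_iff.2 ⟨c, rfl⟩)
    · rw [← hy]; exact hdis c _ hc (by decide)
  · rintro (⟨y, c, hc, rfl⟩ | x) (⟨y', c', hc', rfl⟩ | x') h
    · have h2 := congrArg Subtype.val h
      simp only at h2
      exact congrArg Sum.inl (Subtype.ext h2)
    · have h2 := congrArg Subtype.val h
      exact absurd h2 (hdis c _ hc x'.2.1)
    · have h2 := congrArg Subtype.val h
      exact absurd h2.symm (hdis c' _ hc' x.2.1)
    · have h2 := congrArg Subtype.val h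
      exact congrArg Sum.inr (Subtype.ext (P.inj h2))
  · rintro ⟨x, hx, hzx, hne⟩
    rcases z_cases P hQ hx hzx with ⟨q, hq, hq1, rfl⟩ | ⟨c, hc, rfl⟩
    · exact ⟨Sum.inr ⟨q, hq, hq1, fun h => hne (by rw [h])⟩, rfl⟩
    · exact ⟨Sum.inl ⟨_, c, hc, rfl⟩, rfl⟩

/-- There are 240 pairs (z-type, t-type) whose product has `z` as a power. -/
theorem card_az (P : Pat S f) (hs : IsConj (f (z 2)) (f (s 2)))
    (hC : Nat.card (centralizer {f (z 2)}) = 192)
    (hQ : ∀ c ∈ centralizer {f (z 2)}, ∀ q, InQ q → ∃ q', InQ q' ∧ c * f q * c⁻¹ = f q')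
    (har : ∃ c : G, c * f (z 2) = f (z 2) * c ∧ c * f (a' 2) * c⁻¹ = f (r 2)) :
    Nat.card {p : G × G // IsConj (f (z 2)) p.1 ∧ IsConj (f (t 2)) p.2 ∧
      f (z 2) ∈ zpowers (p.1 * p.2)} = 240 := by
  have h1 : Nat.card (Σ x : {x : G // x ∈ centralizer {f (z 2)} ∧ IsConj (f (z 2)) x ∧ x ≠ f (z 2)},
      {y : G // IsConj (f (t 2)) y ∧ f (z 2) ∈ zpowers (x.1 * y)}) = 30 * 8 := by
    rw [card_sigma_const 8 (fun x => fiber_t_all P hs hQ har x.2.1 x.2.2.1 x.2.2.2),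
      card_zC P hs hC hQ har]
  rw [← show 30 * 8 = 240 by norm_num, ← h1]
  symm
  refine Nat.card_congr (Equiv.ofBijective (fun p => ⟨(p.1.1, p.2.1), p.1.2.2.1, p.2.2.1, p.2.2.2⟩)
    ⟨?_, ?_⟩)
  · rintro ⟨⟨x, hx⟩, ⟨y, hy⟩⟩ ⟨⟨x', hx'⟩, ⟨y', hy'⟩⟩ h
    have h2 := congrArg Subtype.val h
    simp only [Prod.mk.injEq] at h2
    obtain ⟨rfl, rfl⟩ := h2
    rfl
  · rintro ⟨⟨x, y⟩, hx, hy, hz⟩
    simp only at hx hy hz
    have hxx : x * x = 1 := mul_self_of_isConj (by rw [← map_mul]; exact map_one f) hx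
    have hyy : y * y = 1 := mul_self_of_isConj (by rw [← map_mul]; exact map_one f) hy
    have h2 := comm_of_mem_zpowers hxx hyy (by rw [← map_mul]; exact map_one f) hz
    have hne : x ≠ f (z 2) := by
      rintro rfl
      obtain ⟨q, hq, rfl⟩ := t_cases P hs hQ (mem_centralizer_singleton_iff.2 h2.2) hy
      rw [← map_mul, zpow_iff P] at hz
      exact count_z_ty q hq hz
    exact ⟨⟨⟨x, mem_centralizer_singleton_iff.2 h2.1, hx, hne⟩, ⟨y, hy, hz⟩⟩, rfl⟩

theorem fiber_s (P : Pat S f) (hs : IsConj (f (z 2)) (f (s 2))) :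
    5 ≤ Nat.card {y : G // IsConj (f (z 2)) y ∧ f (z 2) ∈ zpowers (f (s 2) * y)} := by
  rw [← count_s_zy, ← Nat.card_eq_fintype_card]
  refine Nat.card_le_card_of_injective
    (fun q => ⟨f q.1, hs.trans (Pat.isConj_SS q.2.1), ?_⟩) ?_
  · rw [← map_mul, zpow_iff P]; exact q.2.2
  · intro a b hab
    exact Subtype.ext (P.inj (congrArg Subtype.val hab))

/-- There are at least 64 pairs of z-types whose product has `z` as a power. -/
theorem card_zz (P : Pat S f) (hs : IsConj (f (z 2)) (f (s 2)))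
    (hC : Nat.card (centralizer {f (z 2)}) = 192)
    (hQ : ∀ c ∈ centralizer {f (z 2)}, ∀ q, InQ q → ∃ q', InQ q' ∧ c * f q * c⁻¹ = f q')
    (har : ∃ c : G, c * f (z 2) = f (z 2) * c ∧ c * f (a' 2) * c⁻¹ = f (r 2)) :
    64 ≤ Nat.card {p : G × G // IsConj (f (z 2)) p.1 ∧ IsConj (f (z 2)) p.2 ∧
      f (z 2) ∈ zpowers (p.1 * p.2)} := by
  have h1 : 24 * 5 ≤ Nat.card (Σ x : {x : G // ∃ c ∈ centralizer {f (z 2)}, c * f (s 2) * c⁻¹ = x},
      {y : G // IsConj (f (z 2)) y ∧ f (z 2) ∈ zpowers (x.1 * y)}) := by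
    rw [card_sigma_const (Nat.card {y : G // IsConj (f (z 2)) y ∧ f (z 2) ∈ zpowers (f (s 2) * y)}),
      card_class_s P hC hQ har]
    · exact Nat.mul_le_mul_left _ (fiber_s P hs)
    · rintro ⟨_, c, hc, rfl⟩
      exact fiber_conj _ _ _ _ (mem_centralizer_singleton_iff.1 hc)
  refine le_trans (le_trans (by norm_num) h1) (Nat.card_le_card_of_injective
    (fun p => ⟨(p.1.1, p.2.1), ?_, p.2.2.1, p.2.2.2⟩) ?_)
  · obtain ⟨c, hc, h⟩ := p.1.2
    exact hs.trans (isConj_iff.2 ⟨c, h⟩)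
  · rintro ⟨⟨x, hx⟩, ⟨y, hy⟩⟩ ⟨⟨x', hx'⟩, ⟨y', hy'⟩⟩ h
    have h2 := congrArg Subtype.val h
    simp only [Prod.mk.injEq] at h2
    obtain ⟨rfl, rfl⟩ := h2
    rfl

end loc

end Cfsg.Agent.MTwelveType.CountPairs
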