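import Cfsg.Agent.MTwelveType.ModelFour

/-!
The counts inside the centralizer of a 2-central involution, for a group whose Sylow 2-subgroup is of type
`M₁₂` and in which `|C(z)| = 192` (pattern with two classes of involutions).
-/

set_option autoImplicit false
set_option linter.unusedSectionVars false
set_option linter.style.haveILetI false

namespace Cfsg.Agent.MTwelveType.CountZ

open Cfsg.Agent.ClassificationK.GTwoModel Cfsg.Agent.ClassificationK.GTwoModel.T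
open Cfsg.Agent.MTwelveType.ModelFour

/-- the hypotheses -/
structure Dat {G : Type*} [Group G] (f : T4 →* G) : Prop where
  inj : Function.Injective f
  card : Nat.card (Subgroup.centralizer ({f (z 2)} : Set G)) = 192
  nQ : ∀ c : G, c * f (z 2) = f (z 2) * c → ∀ x : T4, QP x → ∃ x' : T4, QP x' ∧ c * f x * c⁻¹ = f x'
  car : ∃ c : G, c * f (z 2) = f (z 2) * c ∧ c * f (a' 2) * c⁻¹ = f (r 2)
  ctu : ∃ c : G, c * f (z 2) = f (z 2) * c ∧ c * f (t 2) * c⁻¹ = f (u 2)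
  ctw : ∃ c : G, c * f (z 2) = f (z 2) * c ∧ c * f (t 2) * c⁻¹ = f (w 2)
  za : IsConj (f (z 2)) (f (a' 2))
  zr : IsConj (f (z 2)) (f (r 2))
  zs : IsConj (f (z 2)) (f (s 2))
  tu : IsConj (f (t 2)) (f (u 2))
  tw : IsConj (f (t 2)) (f (w 2))
  nzt : ¬ IsConj (f (z 2)) (f (t 2))

variable {G : Type*} [Group G] [Finite G] {f : T4 →* G}

theorem z_comm (x : T4) : z 2 * x = x * z 2 := Cfsg.Agent.ClassificationK.GTwoFusion.z_central x

theorem conj_EE' (D : Dat f) (x : T4) (hx : x ∈ EE) : IsConj (f (z 2)) (f x) := by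
  rcases conj_EE x hx with h | h | ⟨i, j, h⟩
  · rw [h]; exact D.za
  · rw [h]; exact D.za.trans (f.map_isConj (isConj_a'_b' 2))
  · exact D.zr.trans (f.map_isConj (isConj_of_conj _ _ _ h))

theorem conj_SS' (D : Dat f) (x : T4) (hx : x ∈ SS) : IsConj (f (z 2)) (f x) := by
  obtain ⟨i, j, d, h⟩ := conj_SS x hx
  exact D.zs.trans (f.map_isConj (isConj_of_conj _ _ _ h))

theorem conj_TT' (D : Dat f) (x : T4) (hx : x ∈ TT) : IsConj (f (t 2)) (f x) := by
  rcases conj_TT x hx with ⟨i, j, h⟩ | ⟨i, j, h⟩ | ⟨i, j, h⟩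
  · exact f.map_isConj (isConj_of_conj _ _ _ h)
  · exact D.tu.trans (f.map_isConj (isConj_of_conj _ _ _ h))
  · exact D.tw.trans (f.map_isConj (isConj_of_conj _ _ _ h))

theorem z_sq : (z 2 : T4) * z 2 = 1 := by decide
theorem z_ne : (z 2 : T4) ≠ 1 := by decide
theorem t_ne : (t 2 : T4) ≠ 1 := by decide
theorem t_sq : (t 2 : T4) * t 2 = 1 := by decide

theorem sq_of_conj {g h : G} (hgh : IsConj g h) (hg : g * g = 1) : h * h = 1 := by
  obtain ⟨c, rfl⟩ := isConj_iff.1 hgh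
  calc c * g * c⁻¹ * (c * g * c⁻¹) = c * (g * g) * c⁻¹ := by group
    _ = 1 := by rw [hg]; group

theorem ne_of_conj {g h : G} (hgh : IsConj g h) (hg : g ≠ 1) : h ≠ 1 := by
  obtain ⟨c, rfl⟩ := isConj_iff.1 hgh
  intro h
  apply hg
  calc g = c⁻¹ * (c * g * c⁻¹) * c := by group
    _ = 1 := by rw [h]; group

theorem fz_sq : f (z 2) * f (z 2) = 1 := by rw [← map_mul, z_sq, map_one]
theorem ft_sq : f (t 2) * f (t 2) = 1 := by rw [← map_mul, t_sq, map_one]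
theorem fz_ne (D : Dat f) : f (z 2) ≠ 1 := fun h => z_ne (D.inj (by rw [h, map_one]))
theorem ft_ne (D : Dat f) : f (t 2) ≠ 1 := fun h => t_ne (D.inj (by rw [h, map_one]))

theorem type_z (D : Dat f) (x : T4) (h : IsConj (f (z 2)) (f x)) : x = z 2 ∨ x ∈ EE ∨ x ∈ SS := by
  have h1 : x * x = 1 := D.inj (by rw [map_mul, map_one]; exact sq_of_conj h fz_sq)
  have h2 : x ≠ 1 := fun h3 => ne_of_conj h (fz_ne D) (by rw [h3, map_one])
  rcases inv_cases' x h1 h2 with h3 | h3 | h3 | h3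
  · exact Or.inl h3
  · exact Or.inr (Or.inl h3)
  · exact Or.inr (Or.inr h3)
  · exact absurd (h.trans (conj_TT' D x h3).symm) D.nzt

theorem type_t (D : Dat f) (x : T4) (h : IsConj (f (t 2)) (f x)) : x ∈ TT := by
  have h1 : x * x = 1 := D.inj (by rw [map_mul, map_one]; exact sq_of_conj h ft_sq)
  have h2 : x ≠ 1 := fun h3 => ne_of_conj h (ft_ne D) (by rw [h3, map_one])
  rcases inv_cases' x h1 h2 with h3 | h3 | h3 | h3
  · subst h3; exact absurd h.symm D.nzt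
  · exact absurd ((conj_EE' D x h3).trans h.symm) D.nzt
  · exact absurd ((conj_SS' D x h3).trans h.symm) D.nzt
  · exact h3

/-! ### an element of order 3 -/

theorem exists_y (D : Dat f) : ∃ y : G, y * f (z 2) = f (z 2) * y ∧ orderOf y = 3 := by
  haveI : Fact (Nat.Prime 3) := ⟨Nat.prime_three⟩
  obtain ⟨y, hy⟩ := exists_prime_orderOf_dvd_card' (G := Subgroup.centralizer ({f (z 2)} : Set G)) 3
    (by rw [D.card]; norm_num)
  refine ⟨y.1, Subgroup.mem_centralizer_singleton_iff.1 y.2, ?_⟩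
  rw [← hy, Subgroup.orderOf_coe]

theorem not_range (y : G) (hy : orderOf y = 3) (x : T4) : y ≠ f x := by
  rintro rfl
  have h : orderOf (f x) ∣ 8 := orderOf_dvd_of_pow_eq_one (by rw [← map_pow, pow_eight', map_one])
  rw [hy] at h
  revert h
  decide

/-! ### the cosets of `S` in `C(z)` -/

/-- the element of order 3 -/
structure Y (f : T4 →* G) (y : G) : Prop where
  comm : y * f (z 2) = f (z 2) * y
  ord : orderOf y = 3

theorem Y.pow {y : G} (hy : Y f y) : y ^ 3 = 1 := by rw [← hy.ord]; exact pow_orderOf_eq_one y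

theorem Y.comm_pow {y : G} (hy : Y f y) (k : ℕ) : y ^ k * f (z 2) = f (z 2) * y ^ k :=
  (Commute.pow_left (show Commute y (f (z 2)) from hy.comm) k)

theorem Y.comm_inv {c : G} (hc : c * f (z 2) = f (z 2) * c) : c⁻¹ * f (z 2) = f (z 2) * c⁻¹ :=
  (Commute.inv_left (show Commute c (f (z 2)) from hc))

theorem Y.inj {y : G} (hy : Y f y) (k l : Fin 3) (x : T4) (h : y ^ (k : ℕ) = f x * y ^ (l : ℕ)) : k = l := by
  have h8 : (f x) ^ 8 = 1 := by rw [← map_pow, pow_eight', map_one]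
  have h1 : (f x) = y ^ ((k : ℕ) : ℤ) * y ^ (-((l : ℕ) : ℤ)) := by
    rw [zpow_natCast, h, zpow_neg, zpow_natCast, mul_inv_cancel_right]
  have h2 : y ^ ((8 : ℤ) * ((k : ℤ) - (l : ℤ))) = 1 := by
    rw [← h8, h1, ← zpow_add, ← zpow_natCast, ← zpow_mul]
    congr 1
    push_cast
    ring
  rw [← orderOf_dvd_iff_zpow_eq_one, hy.ord] at h2
  have hk := k.2
  have hl := l.2
  apply Fin.ext
  omega

theorem decomp (D : Dat f) {y : G} (hy : Y f y) (c : G) (hc : c * f (z 2) = f (z 2) * c) :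
    ∃ (x : T4) (k : Fin 3), c = f x * y ^ (k : ℕ) := by
  let φ : T4 × Fin 3 → Subgroup.centralizer ({f (z 2)} : Set G) := fun p =>
    ⟨f p.1 * y ^ (p.2 : ℕ), by
      rw [Subgroup.mem_centralizer_singleton_iff, mul_assoc, hy.comm_pow, ← mul_assoc, ← map_mul,
        ← z_comm, map_mul, mul_assoc]⟩
  have hφ : Function.Injective φ := by
    rintro ⟨x, k⟩ ⟨x', l⟩ h
    have h1 : f x * y ^ (k : ℕ) = f x' * y ^ (l : ℕ) := congrArg Subtype.val h
    have h2 : y ^ (k : ℕ) = f (x⁻¹ * x') * y ^ (l : ℕ) := by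
      rw [map_mul, map_inv, mul_assoc, ← h1, inv_mul_cancel_left]
    have h3 := hy.inj k l _ h2
    subst h3
    have h4 := D.inj (mul_right_cancel h1)
    rw [h4]
  have hcard : Nat.card (T4 × Fin 3) = Nat.card (Subgroup.centralizer ({f (z 2)} : Set G)) := by
    rw [D.card, Nat.card_prod, card_T, Nat.card_eq_fintype_card, Fintype.card_fin]
    norm_num
  have hb := (Nat.bijective_iff_injective_and_card φ).2 ⟨hφ, hcard⟩
  obtain ⟨⟨x, k⟩, h⟩ := hb.2 ⟨c, Subgroup.mem_centralizer_singleton_iff.2 hc⟩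
  exact ⟨x, k, (congrArg Subtype.val h).symm⟩

/-- an element of order 3 of `C(z)` does not normalise `S` -/
theorem not_norm (D : Dat f) (c : G) (hc : c * f (z 2) = f (z 2) * c) (hc3 : c ^ 3 = 1)
    (hn : ∀ x : T4, ∃ x' : T4, c * f x * c⁻¹ = f x') : c = 1 := by
  by_contra hc1
  have hY : Y f c := ⟨hc, orderOf_eq_prime (hp := ⟨Nat.prime_three⟩) hc3 hc1⟩
  -- `c` maps `a'` to `a'` or `b'`
  have hV : ∀ v : T4, v = a' 2 ∨ v = b' 2 → ∃ v', (v' = a' 2 ∨ v' = b' 2) ∧ c * f v * c⁻¹ = f v' := by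
    intro v hv
    have hsq : ∃ q : T4, v = q * q := by
      rcases hv with rfl | rfl
      · exact ⟨⟨1, 0, false, false⟩, by decide⟩
      · exact ⟨⟨0, 1, false, false⟩, by decide⟩
    obtain ⟨q, hq⟩ := hsq
    obtain ⟨q', hq'⟩ := hn q
    have hv2 : v * v = 1 := by rcases hv with rfl | rfl <;> decide
    have hvz : v ≠ z 2 := by rcases hv with rfl | rfl <;> decide
    have hv1 : v ≠ 1 := by rcases hv with rfl | rfl <;> decide
    have h1 : c * f v * c⁻¹ = f (q' * q') := by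
      rw [map_mul, ← hq', hq, map_mul]; group
    refine ⟨q' * q', ?_, h1⟩
    have h2 : (q' * q') * (q' * q') = 1 := D.inj (by
      rw [map_mul, ← h1, map_one]
      calc c * f v * c⁻¹ * (c * f v * c⁻¹) = c * (f v * f v) * c⁻¹ := by group
        _ = 1 := by rw [← map_mul, hv2, map_one]; group)
    rcases sq_cases q'.i q'.j q'.e q'.d h2 with h3 | h3 | h3 | h3
    · exfalso
      apply hv1
      apply D.inj
      change q' * q' = 1 at h3
      rw [h3, map_one] at h1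
      rw [map_one]
      calc f v = c⁻¹ * (c * f v * c⁻¹) * c := by group
        _ = 1 := by rw [h1]; group
    · exfalso
      apply hvz
      apply D.inj
      change q' * q' = z 2 at h3
      rw [h3] at h1
      calc f v = c⁻¹ * (c * f v * c⁻¹) * c := by group
        _ = c⁻¹ * (f (z 2) * c) := by rw [h1]; group
        _ = f (z 2) := by rw [← hc]; group
    · exact Or.inl h3
    · exact Or.inr h3
  have hab : (a' 2 : T4) ≠ b' 2 := by decide
  -- `c` commutes with `a'`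
  have hcomm : c * f (a' 2) * c⁻¹ = f (a' 2) := by
    obtain ⟨v1, hv1, h1⟩ := hV (a' 2) (Or.inl rfl)
    rcases hv1 with rfl | rfl
    · exact h1
    · obtain ⟨v2, hv2, h2⟩ := hV (b' 2) (Or.inr rfl)
      rcases hv2 with rfl | rfl
      · -- `c` swaps, so `c ^ 3` swaps
        exfalso
        apply hab
        apply D.inj
        have h3 : c ^ 3 * f (a' 2) * (c ^ 3)⁻¹ = f (b' 2) := by
          have h4 : c ^ 3 = c * c * c := by rw [pow_succ, pow_two]
          calc c ^ 3 * f (a' 2) * (c ^ 3)⁻¹ = c * (c * (c * f (a' 2) * c⁻¹) * c⁻¹) * c⁻¹ := by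
                rw [h4]; group
            _ = f (b' 2) := by rw [h1, h2, h1]
        rw [hc3] at h3
        simpa using h3
      · exfalso
        apply hab
        apply D.inj
        have : c * f (a' 2) * c⁻¹ = c * f (b' 2) * c⁻¹ := h1.trans h2.symm
        exact mul_left_cancel (mul_right_cancel this)
  obtain ⟨g, hg, hg'⟩ := D.car
  obtain ⟨v, k, rfl⟩ := decomp D hY g hg
  have h5 : Commute (c ^ (k : ℕ)) (f (a' 2)) :=
    Commute.pow_left (show Commute c (f (a' 2)) from mul_inv_eq_iff_eq_mul.1 hcomm) _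
  have h6 : f (v * a' 2) = f (r 2 * v) := by
    have h7 : f v * c ^ (k : ℕ) * f (a' 2) * (f v * c ^ (k : ℕ))⁻¹ = f v * f (a' 2) * (f v)⁻¹ := by
      rw [mul_assoc (f v), h5.eq]; group
    rw [h7] at hg'
    rw [map_mul, map_mul]
    exact mul_inv_eq_iff_eq_mul.1 hg'
  have h8 : ∀ (i j : ZMod (2 * 2)) (e d : Bool), (⟨i, j, e, d⟩ : T4) * a' 2 ≠ r 2 * ⟨i, j, e, d⟩ := by decide
  exact h8 v.i v.j v.e v.d (D.inj h6)


/-- every involution of `C(z)` is conjugate into `S` by a power of `y` -/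
theorem exists_conj (D : Dat f) {y : G} (hy : Y f y) (p : G) (hp : p * f (z 2) = f (z 2) * p)
    (hp2 : p * p = 1) : ∃ (x : T4) (k : Fin 3), y ^ (k : ℕ) * p = f x * y ^ (k : ℕ) := by
  have h1 : ∀ k : Fin 3, ∃ (x : T4) (l : Fin 3), y ^ (k : ℕ) * p = f x * y ^ (l : ℕ) := fun k =>
    decomp D hy _ (by rw [mul_assoc, hp, ← mul_assoc, hy.comm_pow, mul_assoc])
  choose X σ hσ using h1
  have h2 : ∀ k, σ (σ k) = k := by
    intro k
    symm
    apply hy.inj k (σ (σ k)) (X k * X (σ k))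
    calc y ^ (k : ℕ) = y ^ (k : ℕ) * p * p := by rw [mul_assoc, hp2, mul_one]
      _ = f (X k) * (y ^ (σ k : ℕ) * p) := by rw [hσ, mul_assoc]
      _ = _ := by rw [hσ, map_mul, mul_assoc]
  have h3 : ∀ σ : Fin 3 → Fin 3, (∀ k, σ (σ k) = k) → ∃ k, σ k = k := by decide
  obtain ⟨k, hk⟩ := h3 σ h2
  refine ⟨X k, k, ?_⟩
  have := hσ k
  rwa [hk] at this

/-- conjugates of elements of `Q` -/
theorem conj_Q (D : Dat f) {c : G} (hc : c * f (z 2) = f (z 2) * c) {p : G} {x : T4} (hx : QP x)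
    (h : c * p = f x * c) : ∃ x', QP x' ∧ p = f x' := by
  obtain ⟨x', hx', h'⟩ := D.nQ c⁻¹ (Y.comm_inv hc) x hx
  refine ⟨x', hx', ?_⟩
  rw [← h', mul_assoc, inv_inv, ← h, inv_mul_cancel_left]

/-- the involutions of `C(z)` of the second class -/
theorem t_in_C (D : Dat f) (q : G) (hq : q * f (z 2) = f (z 2) * q) (hqt : IsConj (f (t 2)) q) :
    ∃ x ∈ TT, q = f x := by
  obtain ⟨y, hy1, hy2⟩ := exists_y D
  have hy : Y f y := ⟨hy1, hy2⟩
  obtain ⟨x, k, h⟩ := exists_conj D hy q hq (sq_of_conj hqt ft_sq)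
  have hc : IsConj q (f x) := isConj_of_conj _ _ _ h
  have hx := type_t D x (hqt.trans hc)
  obtain ⟨x', hx', h'⟩ := conj_Q D (hy.comm_pow k) (qp_of_TT x hx) h
  exact ⟨x', type_t D x' (h' ▸ hqt), h'⟩

/-- the involutions of `C(z)` of the first class -/
theorem z_in_C (D : Dat f) {y : G} (hy : Y f y) (p : G) (hp : p * f (z 2) = f (z 2) * p)
    (hpz : IsConj (f (z 2)) p) :
    p = f (z 2) ∨ (∃ x ∈ EE, p = f x) ∨ ∃ x ∈ SS, ∃ k : Fin 3, y ^ (k : ℕ) * p = f x * y ^ (k : ℕ) := by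
  obtain ⟨x, k, h⟩ := exists_conj D hy p hp (sq_of_conj hpz fz_sq)
  have hc : IsConj p (f x) := isConj_of_conj _ _ _ h
  have hQ : QP x → p = f (z 2) ∨ ∃ x ∈ EE, p = f x := by
    intro hx
    obtain ⟨x', hx', h'⟩ := conj_Q D (hy.comm_pow k) hx h
    rcases type_z D x' (h' ▸ hpz) with h1 | h1 | h1
    · exact Or.inl (by rw [h', h1])
    · exact Or.inr ⟨x', h1, h'⟩
    · exact absurd hx' (not_qp_of_SS x' h1)
  rcases type_z D x (hpz.trans hc) with h1 | h1 | h1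
  · rcases hQ (h1 ▸ qp_z) with h2 | h2
    · exact Or.inl h2
    · exact Or.inr (Or.inl h2)
  · rcases hQ (qp_of_EE x h1) with h2 | h2
    · exact Or.inl h2
    · exact Or.inr (Or.inl h2)
  · exact Or.inr (Or.inr ⟨x, h1, k, h⟩)

/-- uniqueness for the outer involutions -/
theorem SS_inj (D : Dat f) {y : G} (hy : Y f y) (p : G) (x x' : T4) (hx : x ∈ SS) (k l : Fin 3)
    (h : y ^ (k : ℕ) * p = f x * y ^ (k : ℕ)) (h' : y ^ (l : ℕ) * p = f x' * y ^ (l : ℕ)) :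
    k = l ∧ x = x' := by
  set c : G := y ^ (l : ℕ) * (y ^ (k : ℕ))⁻¹ with hc
  have hcz : c * f (z 2) = f (z 2) * c := by
    rw [hc, mul_assoc, Y.comm_inv (hy.comm_pow k), ← mul_assoc, hy.comm_pow, mul_assoc]
  have hcx : c * f x * c⁻¹ = f x' := by
    have h1 : p = (y ^ (k : ℕ))⁻¹ * f x * y ^ (k : ℕ) := by rw [mul_assoc, ← h, inv_mul_cancel_left]
    rw [h1] at h'
    calc c * f x * c⁻¹ = (y ^ (l : ℕ) * ((y ^ (k : ℕ))⁻¹ * f x * y ^ (k : ℕ))) * (y ^ (l : ℕ))⁻¹ := by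
          rw [hc]; group
      _ = f x' := by rw [h', mul_inv_cancel_right]
  have hc3 : c ^ 3 = 1 := by
    have h1 : Commute (y ^ (l : ℕ)) ((y ^ (k : ℕ))⁻¹) :=
      ((Commute.refl y).pow_pow _ _).inv_right
    rw [hc, h1.mul_pow, inv_pow, ← pow_mul, ← pow_mul, mul_comm, mul_comm (k : ℕ), pow_mul, pow_mul, hy.pow,
      one_pow, one_pow, inv_one, one_mul]
  have hn : ∀ v : T4, ∃ v' : T4, c * f v * c⁻¹ = f v' := by
    intro v
    rcases qp_or x hx v with h1 | h1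
    · obtain ⟨v', -, h2⟩ := D.nQ c hcz v h1
      exact ⟨v', h2⟩
    · obtain ⟨v', -, h2⟩ := D.nQ c hcz (v * x) h1
      refine ⟨v' * x'⁻¹, ?_⟩
      rw [map_mul f v', ← h2, map_inv, ← hcx, map_mul]
      group
  have hc1 := not_norm D c hcz hc3 hn
  have hkl : y ^ (l : ℕ) = f 1 * y ^ (k : ℕ) := by
    rw [map_one, one_mul]
    rw [hc] at hc1
    exact mul_inv_eq_one.1 hc1
  have := hy.inj l k 1 hkl
  subst this
  refine ⟨rfl, D.inj ?_⟩
  rw [← hcx, hc1]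
  group

/-! ### pairs -/

theorem comm_of_zpowers {p q Z : G} (hp : p * p = 1) (hZ : Z * Z = 1) (hq : q * q = 1)
    (h : Z ∈ Subgroup.zpowers (p * q)) : p * Z = Z * p ∧ q * Z = Z * q := by
  obtain ⟨n, hn⟩ := h
  change (p * q) ^ n = Z at hn
  have hp' : p⁻¹ = p := inv_eq_of_mul_eq_one_left hp
  have hq' : q⁻¹ = q := inv_eq_of_mul_eq_one_left hq
  have hZ' : Z⁻¹ = Z := inv_eq_of_mul_eq_one_left hZ
  have h1 : p * (p * q) * p⁻¹ = (p * q)⁻¹ := by
    rw [mul_inv_rev, hp', hq', ← mul_assoc, hp, one_mul]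
  have h2 : p * Z * p⁻¹ = Z := by
    rw [← hn, ← conj_zpow, h1, inv_zpow, hn, hZ']
  have h3 : p * Z = Z * p := mul_inv_eq_iff_eq_mul.1 h2
  have h4 : (p * q) * Z = Z * (p * q) := by
    rw [← hn]
    exact (Commute.zpow_right (Commute.refl (p * q)) n)
  refine ⟨h3, ?_⟩
  have h5 : q = p⁻¹ * (p * q) := by rw [inv_mul_cancel_left]
  have h6 : p⁻¹ * Z = Z * p⁻¹ := by rw [hp', h3]
  rw [h5, mul_assoc, h4, ← mul_assoc, h6, mul_assoc]

theorem zp_map (D : Dat f) (x : T4) : f (z 2) ∈ Subgroup.zpowers (f x) ↔ Zp x := by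
  rw [← zp_iff, ← MonoidHom.map_zpowers, Subgroup.mem_map_iff_mem D.inj]

theorem zp_conj {c g Z : G} (hc : c * Z = Z * c) : Z ∈ Subgroup.zpowers (c⁻¹ * g * c) ↔ Z ∈ Subgroup.zpowers g := by
  have hc' : c⁻¹ * Z * c = Z := by rw [mul_assoc, ← hc, inv_mul_cancel_left]
  constructor
  · rintro ⟨n, hn⟩
    refine ⟨n, ?_⟩
    change (c⁻¹ * g * c) ^ n = Z at hn
    change g ^ n = Z
    have h1 : (c⁻¹ * g * c) ^ n = c⁻¹ * g ^ n * c := by
      have := conj_zpow (a := c⁻¹) (b := g) (i := n)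
      rwa [inv_inv] at this
    rw [h1] at hn
    calc g ^ n = c * (c⁻¹ * g ^ n * c) * c⁻¹ := by group
      _ = Z := by rw [hn, hc, mul_inv_cancel_right]
  · rintro ⟨n, hn⟩
    refine ⟨n, ?_⟩
    change g ^ n = Z at hn
    change (c⁻¹ * g * c) ^ n = Z
    have h1 : (c⁻¹ * g * c) ^ n = c⁻¹ * g ^ n * c := by
      have := conj_zpow (a := c⁻¹) (b := g) (i := n)
      rwa [inv_inv] at this
    rw [h1, hn, hc']

/-- `(p, q)` with `x, q` in the model -/
abbrev PE : Finset (T4 × T4) := (EE ×ˢ TT).filter fun p => Zp (p.1 * p.2)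
/-- the same for the outer involutions -/
abbrev PS : Finset (T4 × T4) := (SS ×ˢ TT).filter fun p => Zp (p.1 * p.2)
/-- pairs of outer involutions -/
abbrev PZ : Finset (T4 × T4) := (SS ×ˢ SS).filter fun p => Zp (p.1 * p.2)

theorem mem_PE (p : T4 × T4) : p ∈ PE ↔ (p.1 ∈ EE ∧ p.2 ∈ TT) ∧ Zp (p.1 * p.2) := by
  rw [Finset.mem_filter, Finset.mem_product]
theorem mem_PS (p : T4 × T4) : p ∈ PS ↔ (p.1 ∈ SS ∧ p.2 ∈ TT) ∧ Zp (p.1 * p.2) := by
  rw [Finset.mem_filter, Finset.mem_product]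
theorem mem_PZ (p : T4 × T4) : p ∈ PZ ↔ (p.1 ∈ SS ∧ p.2 ∈ SS) ∧ Zp (p.1 * p.2) := by
  rw [Finset.mem_filter, Finset.mem_product]

theorem isConj_conj (c g : G) : IsConj g (c⁻¹ * g * c) :=
  isConj_iff.2 ⟨c⁻¹, by rw [inv_inv]⟩

theorem conj_mul_conj (c g h : G) : (c⁻¹ * g * c) * (c⁻¹ * h * c) = c⁻¹ * (g * h) * c := by group

set_option maxRecDepth 100000 in
theorem not_zp_TT : ∀ x ∈ TT, ¬ Zp (z 2 * x) := by decide

theorem card_az (D : Dat f) : Nat.card {p : G × G // IsConj (f (z 2)) p.1 ∧ IsConj (f (t 2)) p.2 ∧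
    f (z 2) ∈ Subgroup.zpowers (p.1 * p.2)} = 240 := by
  obtain ⟨y, hy1, hy2⟩ := exists_y D
  have hy : Y f y := ⟨hy1, hy2⟩
  let Φ : PE ⊕ (Fin 3 × PS) → {p : G × G // IsConj (f (z 2)) p.1 ∧ IsConj (f (t 2)) p.2 ∧
    f (z 2) ∈ Subgroup.zpowers (p.1 * p.2)} := fun v => match v with
    | Sum.inl p => ⟨(f p.1.1, f p.1.2), conj_EE' D _ ((mem_PE _).1 p.2).1.1, conj_TT' D _ ((mem_PE _).1 p.2).1.2, by
        rw [← map_mul, zp_map D]; exact ((mem_PE _).1 p.2).2⟩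
    | Sum.inr (k, p) => ⟨((y ^ (k : ℕ))⁻¹ * f p.1.1 * y ^ (k : ℕ), (y ^ (k : ℕ))⁻¹ * f p.1.2 * y ^ (k : ℕ)),
        (conj_SS' D _ ((mem_PS _).1 p.2).1.1).trans (isConj_conj _ _),
        (conj_TT' D _ ((mem_PS _).1 p.2).1.2).trans (isConj_conj _ _), by
        change f (z 2) ∈ Subgroup.zpowers (((y ^ (k : ℕ))⁻¹ * f p.1.1 * y ^ (k : ℕ)) *
          ((y ^ (k : ℕ))⁻¹ * f p.1.2 * y ^ (k : ℕ)))
        rw [conj_mul_conj, zp_conj (hy.comm_pow k), ← map_mul, zp_map D]; exact ((mem_PS _).1 p.2).2⟩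
  have hkey : ∀ (k : Fin 3) (x : T4), y ^ (k : ℕ) * ((y ^ (k : ℕ))⁻¹ * f x * y ^ (k : ℕ)) = f x * y ^ (k : ℕ) := by
    intro k x
    group
  have hinj : Function.Injective Φ := by
    rintro (⟨⟨x, q⟩, hp⟩ | ⟨k, ⟨x, q⟩, hp⟩) (⟨⟨x', q'⟩, hp'⟩ | ⟨l, ⟨x', q'⟩, hp'⟩) h
    · have h1 : (f x, f q) = (f x', f q') := congrArg Subtype.val h
      rw [Prod.mk.injEq] at h1
      have h2 := D.inj h1.1
      have h3 := D.inj h1.2
      subst h2; subst h3; rfl
    · exfalso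
      have h1 : f x = (y ^ (l : ℕ))⁻¹ * f x' * y ^ (l : ℕ) := congrArg (fun v => v.1.1) h
      obtain ⟨x'', hx'', h2⟩ := D.nQ _ (hy.comm_pow l) x (qp_of_EE x ((mem_PE _).1 hp).1.1)
      have h3 : x' = x'' := D.inj (by rw [← h2, h1]; group)
      exact not_qp_of_SS x' ((mem_PS _).1 hp').1.1 (h3 ▸ hx'')
    · exfalso
      have h1 : (y ^ (k : ℕ))⁻¹ * f x * y ^ (k : ℕ) = f x' := congrArg (fun v => v.1.1) h
      obtain ⟨x'', hx'', h2⟩ := D.nQ _ (hy.comm_pow k) x' (qp_of_EE x' ((mem_PE _).1 hp').1.1)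
      have h3 : x = x'' := D.inj (by rw [← h2, ← h1]; group)
      exact not_qp_of_SS x ((mem_PS _).1 hp).1.1 (h3 ▸ hx'')
    · have h1 : (y ^ (k : ℕ))⁻¹ * f x * y ^ (k : ℕ) = (y ^ (l : ℕ))⁻¹ * f x' * y ^ (l : ℕ) :=
        congrArg (fun v => v.1.1) h
      have h1' : (y ^ (k : ℕ))⁻¹ * f q * y ^ (k : ℕ) = (y ^ (l : ℕ))⁻¹ * f q' * y ^ (l : ℕ) :=
        congrArg (fun v => v.1.2) h
      obtain ⟨h2, h3⟩ := SS_inj D hy _ x x' ((mem_PS _).1 hp).1.1 k l (hkey k x) (by rw [h1]; exact hkey l x')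
      subst h2; subst h3
      have h4 : q = q' := D.inj (mul_left_cancel (mul_right_cancel h1'))
      subst h4
      rfl
  have hsurj : Function.Surjective Φ := by
    rintro ⟨⟨p, q⟩, hp, hq, hz⟩
    obtain ⟨hpC, hqC⟩ := comm_of_zpowers (sq_of_conj hp fz_sq) fz_sq (sq_of_conj hq ft_sq) hz
    rcases z_in_C D hy p hpC hp with h1 | ⟨x, hx, h1⟩ | ⟨x, hx, k, h1⟩
    · exfalso
      obtain ⟨v, hv, rfl⟩ := t_in_C D q hqC hq
      subst h1
      rw [← map_mul, zp_map D] at hz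
      exact not_zp_TT v hv hz
    · obtain ⟨v, hv, rfl⟩ := t_in_C D q hqC hq
      subst h1
      have hz' := hz
      rw [← map_mul, zp_map D] at hz'
      exact ⟨Sum.inl ⟨(x, v), (mem_PE _).2 ⟨⟨hx, hv⟩, hz'⟩⟩, rfl⟩
    · have hc := hy.comm_pow (k : ℕ)
      have hq' : y ^ (k : ℕ) * q * (y ^ (k : ℕ))⁻¹ * f (z 2) = f (z 2) * (y ^ (k : ℕ) * q * (y ^ (k : ℕ))⁻¹) := by
        rw [mul_assoc, Y.comm_inv hc, ← mul_assoc, mul_assoc _ q, hqC, ← mul_assoc, hc]
        group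
      obtain ⟨v, hv, h2⟩ := t_in_C D _ hq' (hq.trans (isConj_iff.2 ⟨_, rfl⟩))
      have hp1 : p = (y ^ (k : ℕ))⁻¹ * f x * y ^ (k : ℕ) := by rw [mul_assoc, ← h1, inv_mul_cancel_left]
      have hq1 : q = (y ^ (k : ℕ))⁻¹ * f v * y ^ (k : ℕ) := by rw [← h2]; group
      have hz' := hz
      change f (z 2) ∈ Subgroup.zpowers (p * q) at hz'
      rw [hp1, hq1, conj_mul_conj, zp_conj hc, ← map_mul, zp_map D] at hz'
      refine ⟨Sum.inr (k, ⟨(x, v), (mem_PS _).2 ⟨⟨hx, hv⟩, hz'⟩⟩), ?_⟩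
      apply Subtype.ext
      exact Prod.ext hp1.symm hq1.symm
  rw [← Nat.card_congr (Equiv.ofBijective Φ ⟨hinj, hsurj⟩), Nat.card_sum, Nat.card_prod, Nat.card_eq_fintype_card,
    Nat.card_eq_fintype_card, Nat.card_eq_fintype_card, Fintype.card_fin, Fintype.card_coe, Fintype.card_coe,
    card_PE, card_PS]

theorem card_zz (D : Dat f) : 120 ≤ Nat.card {p : G × G // IsConj (f (z 2)) p.1 ∧ IsConj (f (z 2)) p.2 ∧
    f (z 2) ∈ Subgroup.zpowers (p.1 * p.2)} := by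
  obtain ⟨y, hy1, hy2⟩ := exists_y D
  have hy : Y f y := ⟨hy1, hy2⟩
  let Φ : (Fin 3 × PZ) → {p : G × G // IsConj (f (z 2)) p.1 ∧ IsConj (f (z 2)) p.2 ∧
    f (z 2) ∈ Subgroup.zpowers (p.1 * p.2)} := fun v => match v with
    | (k, p) => ⟨((y ^ (k : ℕ))⁻¹ * f p.1.1 * y ^ (k : ℕ), (y ^ (k : ℕ))⁻¹ * f p.1.2 * y ^ (k : ℕ)),
        (conj_SS' D _ ((mem_PZ _).1 p.2).1.1).trans (isConj_conj _ _),
        (conj_SS' D _ ((mem_PZ _).1 p.2).1.2).trans (isConj_conj _ _), by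
        change f (z 2) ∈ Subgroup.zpowers (((y ^ (k : ℕ))⁻¹ * f p.1.1 * y ^ (k : ℕ)) *
          ((y ^ (k : ℕ))⁻¹ * f p.1.2 * y ^ (k : ℕ)))
        rw [conj_mul_conj, zp_conj (hy.comm_pow k), ← map_mul, zp_map D]; exact ((mem_PZ _).1 p.2).2⟩
  have hkey : ∀ (k : Fin 3) (x : T4), y ^ (k : ℕ) * ((y ^ (k : ℕ))⁻¹ * f x * y ^ (k : ℕ)) = f x * y ^ (k : ℕ) := by
    intro k x
    group
  have hinj : Function.Injective Φ := by
    rintro ⟨k, ⟨x, q⟩, hp⟩ ⟨l, ⟨x', q'⟩, hp'⟩ h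
    have h1 : (y ^ (k : ℕ))⁻¹ * f x * y ^ (k : ℕ) = (y ^ (l : ℕ))⁻¹ * f x' * y ^ (l : ℕ) :=
        congrArg (fun v => v.1.1) h
    have h1' : (y ^ (k : ℕ))⁻¹ * f q * y ^ (k : ℕ) = (y ^ (l : ℕ))⁻¹ * f q' * y ^ (l : ℕ) :=
        congrArg (fun v => v.1.2) h
    obtain ⟨h2, h3⟩ := SS_inj D hy _ x x' ((mem_PZ _).1 hp).1.1 k l (hkey k x) (by rw [h1]; exact hkey l x')
    subst h2; subst h3
    have h4 : q = q' := D.inj (mul_left_cancel (mul_right_cancel h1'))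
    subst h4
    rfl
  have h := Nat.card_le_card_of_injective Φ hinj
  rw [Nat.card_prod, Nat.card_eq_fintype_card, Nat.card_eq_fintype_card, Fintype.card_fin, Fintype.card_coe,
    card_PZ] at h
  exact h

/-! ### the second class inside `C(z)` -/

theorem fz_comm (x : T4) : f x * f (z 2) = f (z 2) * f x := by
  rw [← map_mul, ← map_mul, z_comm]

theorem card_twelve (D : Dat f) : Nat.card {q : G // IsConj (f (t 2)) q ∧ q * f (z 2) = f (z 2) * q} = 12 := by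
  let Φ : TT → {q : G // IsConj (f (t 2)) q ∧ q * f (z 2) = f (z 2) * q} := fun x =>
    ⟨f x.1, conj_TT' D _ x.2, fz_comm _⟩
  have hb : Function.Bijective Φ := by
    constructor
    · intro x x' h
      exact Subtype.ext (D.inj (congrArg Subtype.val h))
    · rintro ⟨q, h1, h2⟩
      obtain ⟨x, hx, rfl⟩ := t_in_C D q h2 h1
      exact ⟨⟨x, hx⟩, rfl⟩
  rw [← Nat.card_congr (Equiv.ofBijective Φ hb), Nat.card_eq_fintype_card, Fintype.card_coe, card_TT]

/-- the `C(z)`-class of `t` -/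
def Ot (f : T4 →* G) (x : T4) : Prop := ∃ c : G, c * f (z 2) = f (z 2) * c ∧ c * f (t 2) * c⁻¹ = f x

theorem Ot.conj {x x' : T4} (h : Ot f x) (v : T4) (hv : v * x = x' * v) : Ot f x' := by
  obtain ⟨c, hc, h⟩ := h
  refine ⟨f v * c, by rw [mul_assoc, hc, ← mul_assoc, fz_comm, mul_assoc], ?_⟩
  have h1 : f x' = f v * f x * (f v)⁻¹ := by rw [← map_mul, hv, map_mul, mul_inv_cancel_right]
  rw [h1, ← h]
  group

theorem card_Ot_mul (D : Dat f) :
    Nat.card {c : G // c * f (z 2) = f (z 2) * c ∧ c * f (t 2) = f (t 2) * c} * Nat.card {x : T4 // Ot f x} = 192 := by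
  let C := Subgroup.centralizer ({f (z 2)} : Set G)
  let tt : C := ⟨f (t 2), Subgroup.mem_centralizer_singleton_iff.2 (fz_comm _)⟩
  have e1 : Nat.card {x : T4 // Ot f x} = Nat.card (MulAction.orbit (ConjAct C) tt) := by
    have : ∀ x : {x : T4 // Ot f x}, (⟨f x.1, Subgroup.mem_centralizer_singleton_iff.2 (fz_comm _)⟩ : C) ∈
        MulAction.orbit (ConjAct C) tt := by
      rintro ⟨x, c, hc, h⟩
      refine ⟨ConjAct.toConjAct ⟨c, Subgroup.mem_centralizer_singleton_iff.2 hc⟩, ?_⟩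
      apply Subtype.ext
      exact h
    refine Nat.card_congr (Equiv.ofBijective (fun x => ⟨_, this x⟩) ⟨?_, ?_⟩)
    · intro x x' h
      apply Subtype.ext
      apply D.inj
      exact congrArg (fun v => v.1.1) h
    · rintro ⟨⟨g, hg⟩, c, hc⟩
      have hc1 : (ConjAct.ofConjAct c).1 * f (t 2) * (ConjAct.ofConjAct c).1⁻¹ = g := congrArg Subtype.val hc
      have hcC := Subgroup.mem_centralizer_singleton_iff.1 (ConjAct.ofConjAct c).2
      obtain ⟨x, hx, h1⟩ := t_in_C D g (Subgroup.mem_centralizer_singleton_iff.1 hg) (isConj_iff.2 ⟨_, hc1⟩)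
      refine ⟨⟨x, _, hcC, hc1.trans h1⟩, ?_⟩
      apply Subtype.ext
      apply Subtype.ext
      exact h1.symm
  have e2 : Nat.card {c : G // c * f (z 2) = f (z 2) * c ∧ c * f (t 2) = f (t 2) * c} =
      Nat.card (MulAction.stabilizer (ConjAct C) tt) := by
    have hiff : ∀ c : C, ConjAct.toConjAct c ∈ MulAction.stabilizer (ConjAct C) tt ↔
        c.1 * f (t 2) = f (t 2) * c.1 := by
      intro c
      rw [MulAction.mem_stabilizer_iff, Subtype.ext_iff]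
      exact mul_inv_eq_iff_eq_mul
    refine Nat.card_congr
      { toFun := fun c => ⟨ConjAct.toConjAct ⟨c.1, Subgroup.mem_centralizer_singleton_iff.2 c.2.1⟩,
          (hiff _).2 c.2.2⟩
        invFun := fun c => ⟨(ConjAct.ofConjAct c.1).1,
          Subgroup.mem_centralizer_singleton_iff.1 (ConjAct.ofConjAct c.1).2, (hiff (ConjAct.ofConjAct c.1)).1 c.2⟩
        left_inv := fun _ => rfl
        right_inv := fun _ => rfl }
  rw [e1, e2, Nat.card_coe_set_eq, ← MulAction.index_stabilizer, Subgroup.card_mul_index]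
  exact D.card

/-- the three `S`-classes in the second class -/
def tC : Finset T4 := {⟨0, 0, true, false⟩, ⟨0, 2, true, false⟩, ⟨2, 0, true, false⟩, ⟨2, 2, true, false⟩}
/-- the class of `u` -/
def uC : Finset T4 := {⟨0, 0, false, true⟩, ⟨1, 3, false, true⟩, ⟨2, 2, false, true⟩, ⟨3, 1, false, true⟩}
/-- the class of `w` -/
def wC : Finset T4 := {⟨0, 0, true, true⟩, ⟨1, 1, true, true⟩, ⟨2, 2, true, true⟩, ⟨3, 3, true, true⟩}

set_option maxRecDepth 100000 in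
theorem mem_TT : ∀ x ∈ TT, x ∈ tC ∨ x ∈ uC ∨ x ∈ wC := by decide

set_option maxRecDepth 100000 in
theorem tC_conj : ∀ x ∈ tC, ∀ x' ∈ tC, ∃ (i j : ZMod (2 * 2)),
    (⟨i, j, false, false⟩ : T4) * x = x' * ⟨i, j, false, false⟩ := by decide

set_option maxRecDepth 100000 in
theorem uC_conj : ∀ x ∈ uC, ∀ x' ∈ uC, ∃ (i j : ZMod (2 * 2)),
    (⟨i, j, false, false⟩ : T4) * x = x' * ⟨i, j, false, false⟩ := by decide

set_option maxRecDepth 100000 in
theorem wC_conj : ∀ x ∈ wC, ∀ x' ∈ wC, ∃ (i j : ZMod (2 * 2)),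
    (⟨i, j, false, false⟩ : T4) * x = x' * ⟨i, j, false, false⟩ := by decide

theorem card_of_finset {α : Type*} [DecidableEq α] (F : Finset α) {P : α → Prop} (h : ∀ x, P x ↔ x ∈ F) :
    Nat.card {x // P x} = F.card := by
  rw [Nat.card_congr (Equiv.subtypeEquivRight h), Nat.card_eq_fintype_card, Fintype.card_coe]

theorem all_Ot (D : Dat f) : ∀ x ∈ TT, Ot f x := by
  have h0 : Ot f (t 2) := ⟨1, by rw [one_mul, mul_one], by rw [one_mul, inv_one, mul_one]⟩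
  intro x hx
  rcases mem_TT x hx with h1 | h1 | h1
  · obtain ⟨i, j, h⟩ := tC_conj (t 2) (by decide) x h1
    exact h0.conj _ h
  · obtain ⟨i, j, h⟩ := uC_conj (u 2) (by decide) x h1
    exact Ot.conj D.ctu _ h
  · obtain ⟨i, j, h⟩ := wC_conj (w 2) (by decide) x h1
    exact Ot.conj D.ctw _ h

theorem card_cen (D : Dat f) :
    Nat.card {c : G // c * f (z 2) = f (z 2) * c ∧ c * f (t 2) = f (t 2) * c} = 16 := by
  have h1 := card_Ot_mul D
  have h2 : Nat.card {x : T4 // Ot f x} = 12 := by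
    rw [← card_TT]
    refine card_of_finset TT (fun x => ⟨?_, all_Ot D x⟩)
    rintro ⟨c, -, h⟩
    exact type_t D x (isConj_iff.2 ⟨c, h⟩)
  rw [h2] at h1
  omega

/-- all pairs are conjugate in `C(z)` -/
theorem pair (D : Dat f) (q : G) (hq : IsConj (f (t 2)) q) (hqz : q * f (z 2) = f (z 2) * q) :
    ∃ c : G, c * f (z 2) = f (z 2) * c ∧ c * f (t 2) * c⁻¹ = q := by
  obtain ⟨x, hx, rfl⟩ := t_in_C D q hqz hq
  exact all_Ot D x hx

/-- the centralizer of `z` and `t` -/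
theorem cen_eq (D : Dat f) (c : G) (h1 : c * f (z 2) = f (z 2) * c) (h2 : c * f (t 2) = f (t 2) * c) :
    ∃ x ∈ CT, c = f x := by
  let Φ : CT → {c : G // c * f (z 2) = f (z 2) * c ∧ c * f (t 2) = f (t 2) * c} := fun x =>
    ⟨f x.1, fz_comm _, by rw [← map_mul, ← map_mul, (mem_CT x.1).1 x.2]⟩
  have hinj : Function.Injective Φ := by
    intro x x' h
    exact Subtype.ext (D.inj (congrArg Subtype.val h))
  have hb := (Nat.bijective_iff_injective_and_card Φ).2 ⟨hinj, by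
    rw [card_cen D, Nat.card_eq_fintype_card, Fintype.card_coe, card_CT]⟩
  obtain ⟨x, hx⟩ := hb.2 ⟨c, h1, h2⟩
  exact ⟨x.1, x.2, (congrArg Subtype.val hx).symm⟩

theorem card_three (D : Dat f) : Nat.card {x : G // IsConj (f (z 2)) x ∧ x * f (z 2) = f (z 2) * x ∧
    x * f (t 2) = f (t 2) * x} = 3 := by
  let F := CT.filter fun x => x = z 2 ∨ x ∈ EE ∨ x ∈ SS
  have hF : ∀ x, x ∈ F ↔ x ∈ CT ∧ (x = z 2 ∨ x ∈ EE ∨ x ∈ SS) := fun x => Finset.mem_filter
  let Φ : F → {x : G // IsConj (f (z 2)) x ∧ x * f (z 2) = f (z 2) * x ∧ x * f (t 2) = f (t 2) * x} := fun x =>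
    ⟨f x.1, by
      rcases ((hF x.1).1 x.2).2 with h | h | h
      · rw [h]
      · exact conj_EE' D _ h
      · exact conj_SS' D _ h, fz_comm _, by rw [← map_mul, ← map_mul, (mem_CT x.1).1 ((hF x.1).1 x.2).1]⟩
  have hb : Function.Bijective Φ := by
    constructor
    · intro x x' h
      exact Subtype.ext (D.inj (congrArg Subtype.val h))
    · rintro ⟨q, h1, h2, h3⟩
      obtain ⟨x, hx, rfl⟩ := cen_eq D q h2 h3
      exact ⟨⟨x, (hF x).2 ⟨hx, type_z D x h1⟩⟩, rfl⟩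
  rw [← Nat.card_congr (Equiv.ofBijective Φ hb), Nat.card_eq_fintype_card, Fintype.card_coe]
  exact card_CT3

theorem card_eight (D : Dat f) (x : G) (hx : IsConj (f (z 2)) x) (hxz : x ≠ f (z 2))
    (h1 : x * f (z 2) = f (z 2) * x) (h2 : x * f (t 2) = f (t 2) * x) :
    Nat.card {c : G // c * f (z 2) = f (z 2) * c ∧ c * x = x * c ∧ c * f (t 2) = f (t 2) * c} = 8 := by
  obtain ⟨v, hv, rfl⟩ := cen_eq D x h1 h2
  let F := CT.filter fun x => x * v = v * x
  have hF : ∀ x, x ∈ F ↔ x ∈ CT ∧ x * v = v * x := fun x => Finset.mem_filter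
  let Φ : F → {c : G // c * f (z 2) = f (z 2) * c ∧ c * f v = f v * c ∧ c * f (t 2) = f (t 2) * c} := fun x =>
    ⟨f x.1, fz_comm _, by rw [← map_mul, ← map_mul, ((hF x.1).1 x.2).2],
      by rw [← map_mul, ← map_mul, (mem_CT x.1).1 ((hF x.1).1 x.2).1]⟩
  have hb : Function.Bijective Φ := by
    constructor
    · intro x x' h
      exact Subtype.ext (D.inj (congrArg Subtype.val h))
    · rintro ⟨q, h1, h2, h3⟩
      obtain ⟨x, hx, rfl⟩ := cen_eq D q h1 h3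
      exact ⟨⟨x, (hF x).2 ⟨hx, D.inj (by rw [map_mul, h2, map_mul])⟩⟩, rfl⟩
  rw [← Nat.card_congr (Equiv.ofBijective Φ hb), Nat.card_eq_fintype_card, Fintype.card_coe]
  refine card_CT8 v hv ?_
  rcases type_z D v hx with h | h | h
  · exact absurd (by rw [h]) hxz
  · exact Or.inl h
  · exact Or.inr h

/-- involutions of the first class commuting with `t` are conjugate to `z` in `C(t)` -/
theorem conj_t (D : Dat f) (x : G) (hx : IsConj (f (z 2)) x) (h2 : x * f (t 2) = f (t 2) * x) :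
    ∃ h : G, h * f (t 2) = f (t 2) * h ∧ h * f (z 2) * h⁻¹ = x := by
  obtain ⟨g, hg⟩ := isConj_iff.1 hx
  -- `g⁻¹ t g` lies in `C(z)`
  have h3 : g⁻¹ * f (t 2) * g * f (z 2) = f (z 2) * (g⁻¹ * f (t 2) * g) := by
    have : f (z 2) = g⁻¹ * x * g := by rw [← hg]; group
    rw [this]
    calc g⁻¹ * f (t 2) * g * (g⁻¹ * x * g) = g⁻¹ * (f (t 2) * x) * g := by group
      _ = g⁻¹ * (x * f (t 2)) * g := by rw [h2]
      _ = _ := by group
  obtain ⟨c, hc, h4⟩ := pair D _ (isConj_conj g _) h3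
  refine ⟨g * c, ?_, ?_⟩
  · have : c * f (t 2) = g⁻¹ * f (t 2) * g * c := mul_inv_eq_iff_eq_mul.1 h4
    rw [mul_assoc, this]
    group
  · calc g * c * f (z 2) * (g * c)⁻¹ = g * (c * f (z 2)) * c⁻¹ * g⁻¹ := by group
      _ = g * f (z 2) * g⁻¹ := by rw [hc]; group
      _ = x := hg

theorem mul_t (D : Dat f) (x : G) (hx : IsConj (f (z 2)) x) (h2 : x * f (t 2) = f (t 2) * x) :
    IsConj (f (t 2)) (x * f (t 2)) := by
  obtain ⟨h, h3, h4⟩ := conj_t D x hx h2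
  have h5 : x * f (t 2) = h * f (z 2 * t 2) * h⁻¹ := by
    rw [← h4, map_mul]
    calc h * f (z 2) * h⁻¹ * f (t 2) = h * f (z 2) * h⁻¹ * (f (t 2) * h) * h⁻¹ := by group
      _ = h * (f (z 2) * f (t 2)) * h⁻¹ := by rw [← h3]; group
  rw [h5]
  exact (conj_TT' D _ z_mul_t).trans (isConj_iff.2 ⟨h, rfl⟩)

theorem mul_z_aux (D : Dat f) (x : G) (hx : IsConj (f (z 2)) x) (hxz : x ≠ f (z 2))
    (h : x * f (z 2) = f (z 2) * x) : IsConj (f (z 2)) (f (z 2) * x) := by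
  obtain ⟨y, hy1, hy2⟩ := exists_y D
  have hy : Y f y := ⟨hy1, hy2⟩
  rcases z_in_C D hy x h hx with h1 | ⟨v, hv, h1⟩ | ⟨v, hv, k, h1⟩
  · exact absurd h1 hxz
  · rw [h1, ← map_mul]
    exact conj_EE' D _ (z_mul_EE v hv)
  · have h2 : f (z 2) * x = (y ^ (k : ℕ))⁻¹ * f (z 2 * v) * y ^ (k : ℕ) := by
      rw [map_mul]
      calc f (z 2) * x = (y ^ (k : ℕ))⁻¹ * (y ^ (k : ℕ) * f (z 2)) * x := by group
        _ = (y ^ (k : ℕ))⁻¹ * f (z 2) * (y ^ (k : ℕ) * x) := by rw [hy.comm_pow]; group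
        _ = _ := by rw [h1]; group
    rw [h2]
    exact (conj_SS' D _ (z_mul_SS v hv)).trans (isConj_conj _ _)

/-- the product of two commuting involutions of the first class is in the first class -/
theorem mul_z (D : Dat f) (x y : G) (hx : IsConj (f (z 2)) x) (hy : IsConj (f (z 2)) y) (hxy : x ≠ y)
    (h : x * y = y * x) : IsConj (f (z 2)) (x * y) := by
  obtain ⟨g, hg⟩ := isConj_iff.1 hx
  have h1 : f (z 2) = g⁻¹ * x * g := by rw [← hg]; group
  have h2 := mul_z_aux D (g⁻¹ * y * g) (hy.trans (isConj_conj g y)) (fun h3 => hxy (by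
    rw [h1] at h3
    exact (mul_left_cancel (mul_right_cancel h3)).symm)) (by
    rw [h1, conj_mul_conj, conj_mul_conj, h])
  have h3 : x * y = g * (f (z 2) * (g⁻¹ * y * g)) * g⁻¹ := by
    rw [← hg]; group
  rw [h3]
  exact h2.trans (isConj_iff.2 ⟨g, rfl⟩)

end Cfsg.Agent.MTwelveType.CountZ
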