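import Cfsg.Agent.MTwelveType.Lift
import Cfsg.Agent.MTwelveType.CentModel

/-!
(C4): an element of odd order normalising `Q` and `E` and centralising a non-central element of `Q`
modulo `⟨z⟩` centralises `Q`.
-/

set_option autoImplicit false

open Subgroup
open Cfsg.Agent.ClassificationK.GTwoModel
open Cfsg.Agent.ClassificationK.GTwoModel.T
open Cfsg.Agent.MTwelveType.CentModel
open Cfsg.Agent.MTwelveType.Lift

namespace Cfsg.Agent.MTwelveType.FixPoint

theorem sq_comm {G : Type*} [Group G] {x q n : G} (h : x * q = q * n * x) (hn : x * n = n * x)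
    (hnn : n * n = 1) : x * x * q = q * (x * x) := by
  calc x * x * q = x * (x * q) := mul_assoc _ _ _
    _ = x * (q * n * x) := by rw [h]
    _ = (x * q) * (n * x) := by simp only [mul_assoc]
    _ = (q * n * x) * (n * x) := by rw [h]
    _ = q * n * (x * n) * x := by simp only [mul_assoc]
    _ = q * n * (n * x) * x := by rw [hn]
    _ = q * (n * n) * (x * x) := by simp only [mul_assoc]
    _ = q * (x * x) := by rw [hnn, mul_one]

/-- action on the second step: `x` centralises `E` hence `Q` -/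
theorem centralize_Q {G : Type*} [Group G] (Q E : Subgroup G) (x : G) (hx : Odd (orderOf x))
    (hE2 : ∀ e ∈ E, e * e = 1)
    (hEQ : ∀ q ∈ Q, ∀ e ∈ E, q * e * q⁻¹ ∈ E) (hEle : E ≤ Q)
    (hCE : ∀ q ∈ Q, (∀ e ∈ E, q * e = e * q) → q ∈ E)
    (hxQ : ∀ q ∈ Q, x * q * x⁻¹ ∈ Q)
    (hxE : ∀ e ∈ E, x * e = e * x) : ∀ q ∈ Q, x * q = q * x := by
  intro q hq
  have h1 : q⁻¹ * (x * q * x⁻¹) ∈ E := by
    refine hCE _ (Q.mul_mem (Q.inv_mem hq) (hxQ q hq)) ?_
    intro e he
    -- `x (q e q⁻¹) x⁻¹ = q e q⁻¹`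
    have h2 : x * (q * e * q⁻¹) = (q * e * q⁻¹) * x := hxE _ (hEQ q hq e he)
    have h3 : x * e = e * x := hxE e he
    have h4 : x⁻¹ * e = e * x⁻¹ := by
      rw [inv_mul_eq_iff_eq_mul, ← mul_assoc, h3, mul_assoc, mul_inv_cancel, mul_one]
    calc q⁻¹ * (x * q * x⁻¹) * e = q⁻¹ * x * q * (x⁻¹ * e) := by group
      _ = q⁻¹ * (x * (q * e * q⁻¹)) * q * x⁻¹ := by rw [h4]; group
      _ = e * (q⁻¹ * (x * q * x⁻¹)) := by rw [h2]; group
  have h5 : x * x ∈ centralizer {q} := by
    rw [mem_centralizer_singleton_iff]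
    set e := q⁻¹ * (x * q * x⁻¹) with he
    have h6 : x * q * x⁻¹ = q * e := by rw [he]; group
    have h7 : x * q = q * e * x := by rw [← h6]; group
    exact sq_comm h7 (hxE e h1) (hE2 e h1)
  exact mem_centralizer_singleton_iff.1 (mem_of_mul_self_mem hx h5)

/-- (C4), abstract form -/
theorem fix_lemma {G : Type*} [Group G] (Q E : Subgroup G) (z : G) (x : G)
    (hx : Odd (orderOf x))
    (hE2 : ∀ e ∈ E, e * e = 1) (hEc : ∀ e ∈ E, ∀ e' ∈ E, e * e' = e' * e)
    (hEQ : ∀ q ∈ Q, ∀ e ∈ E, q * e * q⁻¹ ∈ E) (hEle : E ≤ Q) (hzE : z ∈ E)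
    (hzQ : ∀ q ∈ Q, q * z = z * q)
    (hcom : ∀ q ∈ Q, ∀ e ∈ E, q * e * q⁻¹ = e ∨ q * e * q⁻¹ = e * z)
    (hsq : ∀ q ∈ Q, q * q ∈ E)
    (hCQ : ∀ e ∈ E, (∀ q ∈ Q, e * q = q * e) → e = 1 ∨ e = z)
    (hCE : ∀ q ∈ Q, (∀ e ∈ E, q * e = e * q) → q ∈ E)
    (hidxE : ∀ v ∈ E, v ≠ 1 → v ≠ z → ∀ e ∈ E, (e ≠ 1 ∧ e ≠ z ∧ e ≠ v ∧ e ≠ v * z) →
      ∀ e' ∈ E, (e' ≠ 1 ∧ e' ≠ z ∧ e' ≠ v ∧ e' ≠ v * z) →
      (e⁻¹ * e' = 1 ∨ e⁻¹ * e' = z ∨ e⁻¹ * e' = v ∨ e⁻¹ * e' = v * z))
    (hidxQ : ∀ v ∈ Q, ∀ w ∈ Q, ∀ w' ∈ Q, v ∉ E → w ∉ E → v⁻¹ * w ∉ E → w' ∉ E →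
      v⁻¹ * w' ∉ E → w⁻¹ * w' ∈ E ∨ v⁻¹ * (w⁻¹ * w') ∈ E)
    (hxz : x * z = z * x) (hxE : ∀ e ∈ E, x * e * x⁻¹ ∈ E) (hxE' : ∀ e ∈ E, x⁻¹ * e * x ∈ E)
    (hxQ : ∀ q ∈ Q, x * q * x⁻¹ ∈ Q)
    (v : G) (hv : v ∈ Q) (hv1 : v ≠ 1) (hvz : v ≠ z)
    (hxv : x * v * x⁻¹ = v ∨ x * v * x⁻¹ = v * z) : ∀ q ∈ Q, x * q = q * x := by
  have hzz : z * z = 1 := hE2 z hzE
  -- `x` centralises `v`
  have hxv' : x * v = v * x := by
    have h5 : x * x ∈ centralizer {v} := by
      rw [mem_centralizer_singleton_iff]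
      rcases hxv with h | h
      · have h1 : x * v = v * x := by rw [← mul_inv_eq_iff_eq_mul]; exact h
        exact sq_comm (n := 1) (by rw [mul_one]; exact h1) (by group) (one_mul 1)
      · have h1 : x * v = v * z * x := by rw [← mul_inv_eq_iff_eq_mul]; exact h
        exact sq_comm h1 hxz hzz
    exact mem_centralizer_singleton_iff.1 (mem_of_mul_self_mem hx h5)
  refine centralize_Q Q E x hx hE2 hEQ hEle hCE hxQ ?_
  by_cases hvE : v ∈ E
  · -- `x` fixes `v ∈ E`
    intro e he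
    have h5 : x * x ∈ centralizer {e} := by
      rw [mem_centralizer_singleton_iff]
      by_cases h0 : e ≠ 1 ∧ e ≠ z ∧ e ≠ v ∧ e ≠ v * z
      · have h1 : x * e * x⁻¹ ≠ 1 ∧ x * e * x⁻¹ ≠ z ∧ x * e * x⁻¹ ≠ v ∧ x * e * x⁻¹ ≠ v * z := by
          refine ⟨?_, ?_, ?_, ?_⟩
          · intro h; apply h0.1; rwa [conj_eq_one_iff] at h
          · intro h; apply h0.2.1
            have h2 : e = x⁻¹ * (x * e * x⁻¹) * x := by group
            rw [h2, h, mul_assoc, ← hxz]; group
          · intro h; apply h0.2.2.1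
            have h2 : e = x⁻¹ * (x * e * x⁻¹) * x := by group
            rw [h2, h, mul_assoc, ← hxv']; group
          · intro h; apply h0.2.2.2
            have h2 : e = x⁻¹ * (x * e * x⁻¹) * x := by group
            rw [h2, h]
            calc x⁻¹ * (v * z) * x = x⁻¹ * v * (z * x) := by group
              _ = x⁻¹ * (v * x) * z := by rw [← hxz]; group
              _ = v * z := by rw [← hxv']; group
        have h3 := hidxE v hvE hv1 hvz e he h0 _ (hxE e he) h1
        have h4 : ∃ n, x * e = e * n * x ∧ x * n = n * x ∧ n * n = 1 := by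
          have h6 : ∀ n, e⁻¹ * (x * e * x⁻¹) = n → x * e = e * n * x := by
            intro n hn; rw [← hn]; group
          rcases h3 with h | h | h | h
          · exact ⟨1, h6 _ h, by simp, by simp⟩
          · exact ⟨z, h6 _ h, hxz, hzz⟩
          · exact ⟨v, h6 _ h, hxv', hE2 v hvE⟩
          · refine ⟨v * z, h6 _ h, ?_, hE2 _ (E.mul_mem hvE hzE)⟩
            rw [← mul_assoc, hxv', mul_assoc, hxz, ← mul_assoc]
        obtain ⟨n, hn1, hn2, hn3⟩ := h4
        exact sq_comm hn1 hn2 hn3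
      · have h1 : x * e = e * x := by
          by_cases ha : e = 1
          · rw [ha]; group
          by_cases hb : e = z
          · rw [hb]; exact hxz
          by_cases hc : e = v
          · rw [hc]; exact hxv'
          have hd : e = v * z := by
            by_contra hd
            exact h0 ⟨ha, hb, hc, hd⟩
          rw [hd, ← mul_assoc, hxv', mul_assoc, hxz, ← mul_assoc]
        rw [mul_assoc, h1, ← mul_assoc, h1, mul_assoc]
    exact mem_centralizer_singleton_iff.1 (mem_of_mul_self_mem hx h5)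
  · -- `x` fixes `v ∉ E`; `y = x²` acts trivially on `Q/E`
    have hEQ' : ∀ q ∈ Q, ∀ e ∈ E, q⁻¹ * e * q ∈ E := by
      intro q hq e he
      have := hEQ q⁻¹ (Q.inv_mem hq) e he
      rwa [inv_inv] at this
    have hyQ : ∀ w ∈ Q, w⁻¹ * (x * x * w * (x * x)⁻¹) ∈ E := by
      intro w hw
      by_cases h1 : w ∈ E
      · refine E.mul_mem (E.inv_mem h1) ?_
        have := hxE _ (hxE w h1)
        convert this using 1
        group
      by_cases h2 : v⁻¹ * w ∈ E
      · -- `w = v e`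
        set e := v⁻¹ * w with he
        have h3 : w = v * e := by rw [he]; group
        have h4 : x * x * w * (x * x)⁻¹ = v * (x * (x * e * x⁻¹) * x⁻¹) := by
          rw [h3]
          calc x * x * (v * e) * (x * x)⁻¹ = x * (x * v) * e * (x * x)⁻¹ := by group
            _ = x * (v * x) * e * (x * x)⁻¹ := by rw [hxv']
            _ = (x * v) * x * e * (x * x)⁻¹ := by group
            _ = (v * x) * x * e * (x * x)⁻¹ := by rw [hxv']
            _ = v * (x * (x * e * x⁻¹) * x⁻¹) := by group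
        rw [h4, h3]
        have h5 := E.mul_mem (E.inv_mem h2) (hxE _ (hxE _ h2))
        convert h5 using 1
        group
      · have h3 : x * w * x⁻¹ ∈ Q := hxQ w hw
        have h4 : x * w * x⁻¹ ∉ E := by
          intro h; apply h1
          have := hxE' _ h
          convert this using 1
          group
        have h5 : v⁻¹ * (x * w * x⁻¹) ∉ E := by
          intro h; apply h2
          have h6 := hxE' _ h
          have h7 : x⁻¹ * v⁻¹ = v⁻¹ * x⁻¹ := by
            rw [← mul_inv_rev, ← mul_inv_rev, hxv']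
          convert h6 using 1
          calc v⁻¹ * w = (v⁻¹ * x⁻¹) * x * w := by group
            _ = x⁻¹ * (v⁻¹ * (x * w * x⁻¹)) * x := by rw [← h7]; group
        have h6 := hidxQ v hv w hw _ h3 hvE h1 h2 h4 h5
        rcases h6 with h6 | h6
        · -- `x w x⁻¹ = w e`
          set e := w⁻¹ * (x * w * x⁻¹) with he
          have h7 : x * w = w * e * x := by rw [he]; group
          have h8 : w⁻¹ * (x * x * w * (x * x)⁻¹) = e * (x * e * x⁻¹) := by
            calc w⁻¹ * (x * x * w * (x * x)⁻¹) = w⁻¹ * x * (x * w) * x⁻¹ * x⁻¹ := by group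
              _ = w⁻¹ * x * (w * e * x) * x⁻¹ * x⁻¹ := by rw [h7]
              _ = w⁻¹ * (x * w) * e * x⁻¹ := by group
              _ = w⁻¹ * (w * e * x) * e * x⁻¹ := by rw [h7]
              _ = e * (x * e * x⁻¹) := by group
          rw [h8]
          exact E.mul_mem h6 (hxE e h6)
        · -- `x w x⁻¹ = w v e`
          set e := v⁻¹ * (w⁻¹ * (x * w * x⁻¹)) with he
          have h7 : x * w = w * v * e * x := by rw [he]; group
          have h8 : w⁻¹ * (x * x * w * (x * x)⁻¹) =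
              (v * v) * (v⁻¹ * e * v) * (x * e * x⁻¹) := by
            calc w⁻¹ * (x * x * w * (x * x)⁻¹) = w⁻¹ * x * (x * w) * x⁻¹ * x⁻¹ := by group
              _ = w⁻¹ * x * (w * v * e * x) * x⁻¹ * x⁻¹ := by rw [h7]
              _ = w⁻¹ * (x * w) * v * e * x⁻¹ := by group
              _ = w⁻¹ * (w * v * e * x) * v * e * x⁻¹ := by rw [h7]
              _ = v * e * (x * v) * e * x⁻¹ := by group
              _ = v * e * (v * x) * e * x⁻¹ := by rw [hxv']
              _ = (v * v) * (v⁻¹ * e * v) * (x * e * x⁻¹) := by group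
          rw [h8]
          exact E.mul_mem (E.mul_mem (hsq v hv) (hEQ' v hv e h6)) (hxE e h6)
    -- duality: `y` acts trivially on `E/⟨z⟩`
    have hyE : ∀ e ∈ E, e⁻¹ * (x * x * e * (x * x)⁻¹) = 1 ∨ e⁻¹ * (x * x * e * (x * x)⁻¹) = z := by
      intro e he
      have hye : x * x * e * (x * x)⁻¹ ∈ E := by
        have := hxE _ (hxE e he)
        convert this using 1
        group
      refine hCQ _ (E.mul_mem (E.inv_mem he) hye) ?_
      intro q hq
      set y := x * x with hy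
      set e₁ := y * e * y⁻¹ with he₁
      have h1 : q⁻¹ * (y * q * y⁻¹) ∈ E := hyQ q hq
      set e₂ := q⁻¹ * (y * q * y⁻¹) with he₂
      have hyz : y * z = z * y := by
        rw [hy, mul_assoc, hxz, ← mul_assoc, hxz, mul_assoc]
      -- `y (q e q⁻¹) y⁻¹ = q e₁ q⁻¹`
      have h2 : y * (q * e * q⁻¹) * y⁻¹ = q * e₁ * q⁻¹ := by
        have h3 : y * q * y⁻¹ = q * e₂ := by rw [he₂]; group
        calc y * (q * e * q⁻¹) * y⁻¹ = (y * q * y⁻¹) * e₁ * (y * q * y⁻¹)⁻¹ := by
              rw [he₁]; group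
          _ = q * (e₂ * e₁) * e₂⁻¹ * q⁻¹ := by rw [h3]; group
          _ = q * e₁ * q⁻¹ := by rw [hEc e₂ h1 e₁ hye]; group
      -- compare
      have h4 : (q * e * q⁻¹) * e⁻¹ = (q * e₁ * q⁻¹) * e₁⁻¹ := by
        rw [← h2]
        rcases hcom q hq e he with h | h
        · rw [h, ← he₁]; group
        · rw [h]
          have hez : e * z = z * e := hEc e he z hzE
          calc e * z * e⁻¹ = z := by rw [hez]; group
            _ = (y * z) * y⁻¹ := by rw [hyz]; group
            _ = y * (z * e) * y⁻¹ * e₁⁻¹ := by rw [he₁]; group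
            _ = y * (e * z) * y⁻¹ * e₁⁻¹ := by rw [hez]
      -- `q (e⁻¹ e₁) q⁻¹ = e⁻¹ e₁`
      have h5 : q * (e⁻¹ * e₁) * q⁻¹ = e⁻¹ * e₁ := by
        have h6 : (q * e * q⁻¹)⁻¹ * (q * e₁ * q⁻¹) = e⁻¹ * e₁ := by
          have h7 : q * e₁ * q⁻¹ = (q * e * q⁻¹) * e⁻¹ * e₁ := by rw [h4]; group
          rw [h7]; group
        have h8 : q * (e⁻¹ * e₁) * q⁻¹ = (q * e * q⁻¹)⁻¹ * (q * e₁ * q⁻¹) := by group
        rw [h8, h6]
      have h6 : q * (e⁻¹ * e₁) = (e⁻¹ * e₁) * q := by
        rw [← mul_inv_eq_iff_eq_mul]; exact h5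
      exact h6.symm
    intro e he
    have h5 : (x * x) * (x * x) ∈ centralizer {e} := by
      rw [mem_centralizer_singleton_iff]
      set y := x * x with hy
      have hyz : y * z = z * y := by
        rw [hy, mul_assoc, hxz, ← mul_assoc, hxz, mul_assoc]
      rcases hyE e he with h | h
      · have h1 : y * e = e * y := by
          have : y * e * y⁻¹ = e := by
            rw [inv_mul_eq_one] at h; exact h.symm
          rw [← mul_inv_eq_iff_eq_mul]; exact this
        exact sq_comm (n := 1) (by rw [mul_one]; exact h1) (by group) (one_mul 1)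
      · have h1 : y * e = e * z * y := by
          have : y * e * y⁻¹ = e * z := by
            rw [← h]; group
          rw [← mul_inv_eq_iff_eq_mul]; exact this
        exact sq_comm h1 hyz hzz
    have hxx : Odd (orderOf (x * x)) := by
      rw [← pow_two]
      exact Odd.of_dvd_nat hx (orderOf_pow_dvd 2)
    exact mem_centralizer_singleton_iff.1 (mem_of_mul_self_mem hx (mem_of_mul_self_mem hxx h5))

end Cfsg.Agent.MTwelveType.FixPoint
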