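import Mathlib
import Cfsg.Agent.MTwelveType.Order

/-!
# Lemma K (S1741, part T3)

`H` a finite group with a central involution `t` and a class `P` of involutions, such that the product of two
distinct commuting elements of `P` is in `P`, each `x` in `P` commutes with exactly three elements of `P`,
`|C(x)| = 16`, and `|C(x) ∩ C(y)| = 8` for commuting `x ≠ y` in `P`. Then `|P|` is 3 or 15.
-/

set_option autoImplicit false

namespace Cfsg.Agent.MTwelveType.LemmaK

open Subgroup Cfsg.Agent.MTwelveType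

/-- The hypotheses of Lemma K. -/
structure Hyp {H : Type*} [Group H] (t : H) (P : H → Prop) : Prop where
  ht : orderOf t = 2
  htc : ∀ h : H, h * t = t * h
  hne : ∃ x, P x
  hP2 : ∀ x, P x → orderOf x = 2
  hPt : ¬ P t
  hPi : ∀ x g, P x → P (g * x * g⁻¹)
  hPc : ∀ x y, P x → P y → IsConj x y
  hmul : ∀ x y, P x → P y → x ≠ y → x * y = y * x → P (x * y)
  h3 : ∀ x, P x → Nat.card {y // P y ∧ y * x = x * y} = 3
  h16 : ∀ x, P x → Nat.card (centralizer ({x} : Set H)) = 16
  h8 : ∀ x y, P x → P y → x ≠ y → x * y = y * x →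
    Nat.card (centralizer ({x} : Set H) ⊓ centralizer ({y} : Set H) : Subgroup H) = 8

section general

variable {H : Type*} [Group H]

theorem comm_symm {x y : H} (h : x * y = y * x) : y * x = x * y := h.symm

theorem comm_conj {x y : H} (g : H) :
    (g * x * g⁻¹) * (g * y * g⁻¹) = (g * y * g⁻¹) * (g * x * g⁻¹) ↔ x * y = y * x :=
  (Order.comm_conj g).symm

theorem conj_eq_iff {g x : H} : g * x * g⁻¹ = x ↔ g * x = x * g := by
  constructor
  · intro h
    calc g * x = g * x * g⁻¹ * g := by group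
      _ = x * g := by rw [h]
  · intro h
    rw [h, mul_inv_cancel_right]

/-- in an odd-order cyclic group, every element is a square -/
theorem exists_half {w : H} (hw : Odd (orderOf w)) (k : ℤ) : ∃ s : ℤ, w ^ (2 * s) = w ^ k := by
  obtain ⟨j, hj⟩ := hw
  refine ⟨(j + 1) * k, ?_⟩
  have h1 : w ^ (2 * j + 1) = 1 := by rw [← hj, pow_orderOf_eq_one]
  have h2 : w ^ (2 * ((j : ℤ) + 1)) = w := by
    have : (2 * ((j : ℤ) + 1)) = ((2 * j + 1 : ℕ) : ℤ) + 1 := by push_cast; ring
    rw [this, zpow_add_one, zpow_natCast, h1, one_mul]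
  rw [← mul_assoc, zpow_mul, h2]

/-- conjugation in a dihedral group -/
theorem dihedral {x y : H} (hx : x * x = 1) (hy : y * y = 1) (s : ℤ) :
    (x * y) ^ s * x * ((x * y) ^ s)⁻¹ = (x * y) ^ (2 * s) * x := by
  have hxi : x⁻¹ = x := (eq_inv_of_mul_eq_one_left hx).symm
  have hyi : y⁻¹ = y := (eq_inv_of_mul_eq_one_left hy).symm
  have h1 : x * (x * y) * x⁻¹ = (x * y)⁻¹ := by
    rw [mul_inv_rev, hyi, hxi, ← mul_assoc, hx, one_mul]
  have h2 : x * ((x * y) ^ s)⁻¹ * x⁻¹ = (x * y) ^ s := by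
    rw [← zpow_neg, ← conj_zpow, h1, inv_zpow, zpow_neg, inv_inv]
  calc (x * y) ^ s * x * ((x * y) ^ s)⁻¹ = (x * y) ^ s * (x * ((x * y) ^ s)⁻¹ * x⁻¹) * x := by group
    _ = (x * y) ^ s * (x * y) ^ s * x := by rw [h2]
    _ = (x * y) ^ (2 * s) * x := by rw [← zpow_add, two_mul]

theorem exists_conj_of_odd {x y : H} (hx : x * x = 1) (hy : y * y = 1) (ho : Odd (orderOf (x * y))) :
    ∃ s : ℤ, (x * y) ^ s * x * ((x * y) ^ s)⁻¹ = y := by
  obtain ⟨s, hs⟩ := exists_half ho (-1)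
  refine ⟨s, ?_⟩
  have hyi : y⁻¹ = y := (eq_inv_of_mul_eq_one_left hy).symm
  have hxi : x⁻¹ = x := (eq_inv_of_mul_eq_one_left hx).symm
  rw [dihedral hx hy, hs, zpow_neg_one, mul_inv_rev, hyi, hxi, mul_assoc, hx, mul_one]

/-- the involution of a dihedral group of order `2 (2 r + 1)` exchanging `x` and `y` -/
theorem exists_swap_of_odd {x y : H} (hx : x * x = 1) (hy : y * y = 1) (ho : Odd (orderOf (x * y))) :
    ∃ g : H, (g * x * g⁻¹) * x * (g * x * g⁻¹)⁻¹ = y := by
  obtain ⟨a, ha⟩ := exists_half ho (-1)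
  obtain ⟨s, hs⟩ := exists_half ho a
  refine ⟨(x * y) ^ s, ?_⟩
  have hyi : y⁻¹ = y := (eq_inv_of_mul_eq_one_left hy).symm
  have hxi : x⁻¹ = x := (eq_inv_of_mul_eq_one_left hx).symm
  rw [dihedral hx hy, hs]
  have h1 : (x * y) ^ a * x * x * ((x * y) ^ a * x)⁻¹ = (x * y) ^ a * x * ((x * y) ^ a)⁻¹ := by
    rw [mul_inv_rev, hxi]
    calc (x * y) ^ a * x * x * (x * ((x * y) ^ a)⁻¹) = (x * y) ^ a * x * (x * x) * ((x * y) ^ a)⁻¹ := by
          group
      _ = _ := by rw [hx, mul_one]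
  rw [h1, dihedral hx hy, ha, zpow_neg_one, mul_inv_rev, hyi, hxi, mul_assoc, hx, mul_one]

theorem mem_zpowers_three {d e : H} (hd : orderOf d = 3) (he : e ≠ 1) (h : e ∈ zpowers d) :
    e = d ∨ e = d⁻¹ := by
  obtain ⟨k, hk⟩ := mem_zpowers_iff.1 h
  have h1 : d ^ (3 : ℤ) = 1 := by
    have : d ^ (3 : ℕ) = 1 := by rw [← hd, pow_orderOf_eq_one]
    exact_mod_cast this
  have h2 : k = 3 * (k / 3) + k % 3 := (Int.mul_ediv_add_emod k 3).symm
  have h3 : d ^ k = d ^ (k % 3) := by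
    conv_lhs => rw [h2]
    rw [zpow_add, zpow_mul, h1, one_zpow, one_mul]
  have h4 : k % 3 = 0 ∨ k % 3 = 1 ∨ k % 3 = 2 := by omega
  rw [h3] at hk
  rcases h4 with h | h | h
  · exact absurd (by rw [← hk, h, zpow_zero]) he
  · left; rw [← hk, h, zpow_one]
  · right
    rw [← hk, h]
    have h5 : d ^ (2 : ℤ) * d = 1 := by rw [← zpow_add_one]; exact h1
    exact eq_inv_of_mul_eq_one_left h5

/-- many elements of prime order -/
theorem card_order_prime [Finite H] (p : ℕ) [Fact p.Prime] (h : (Nat.card H).factorization p = 1)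
    (hne : ∀ Q : Subgroup H, Nat.card Q = p → ¬ Q.Normal) :
    (p + 1) * (p - 1) ≤ Nat.card {b : H // orderOf b = p} := by
  have hp := (Fact.out : p.Prime)
  have hcard : ∀ Q : Sylow p H, Nat.card Q = p := fun Q => by
    rw [Sylow.card_eq_multiplicity, h, pow_one]
  have h1 : Nat.card (Sylow p H) ≡ 1 [MOD p] := card_sylow_modEq_one p H
  have h2 : Nat.card (Sylow p H) ≠ 1 := by
    intro h2
    rw [Nat.card_eq_one_iff_unique] at h2
    obtain ⟨h3, ⟨Q⟩⟩ := h2
    exact hne Q (hcard Q) (Sylow.normal_of_subsingleton Q)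
  have h3 : p + 1 ≤ Nat.card (Sylow p H) := by
    have h4 : 0 < Nat.card (Sylow p H) := Nat.card_pos
    have h5 : 1 < Nat.card (Sylow p H) := by omega
    have h6 : p ∣ Nat.card (Sylow p H) - 1 := (Nat.modEq_iff_dvd' (by omega)).1 h1.symm
    have h7 := Nat.le_of_dvd (by omega) h6
    omega
  have h4 : Nat.card (Σ Q : Sylow p H, {g : Q // g ≠ 1}) = Nat.card (Sylow p H) * (p - 1) := by
    refine Order.card_sigma_const _ (fun Q => ?_)
    have h5 : ({g : Q | g ≠ 1} : Set Q).ncard = Nat.card Q - 1 := by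
      have h6 : ({g : Q | g ≠ 1} : Set Q) = {(1 : Q)}ᶜ := by
        ext g
        rw [Set.mem_compl_iff, Set.mem_singleton_iff]
        exact Iff.rfl
      rw [h6, Set.ncard_compl, Set.ncard_singleton]
    rw [hcard Q] at h5
    exact h5
  have hz : ∀ (Q : Sylow p H) (g : Q), g ≠ 1 → orderOf (g : H) = p ∧ zpowers (g : H) = Q := by
    intro Q g hg
    have h5 : orderOf (g : H) = p := by
      have h6 : orderOf (g : H) ∣ p := by
        have := Subgroup.orderOf_dvd_natCard (Q : Subgroup H) g.2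
        rwa [hcard Q] at this
      rcases (Nat.dvd_prime hp).1 h6 with h7 | h7
      · exfalso
        apply hg
        rw [orderOf_eq_one_iff] at h7
        exact Subtype.ext h7
      · exact h7
    refine ⟨h5, ?_⟩
    apply Subgroup.eq_of_le_of_card_ge
    · rw [zpowers_le]; exact g.2
    · rw [Nat.card_zpowers, h5, hcard Q]
  calc (p + 1) * (p - 1) ≤ Nat.card (Sylow p H) * (p - 1) := Nat.mul_le_mul_right _ h3
    _ = Nat.card (Σ Q : Sylow p H, {g : Q // g ≠ 1}) := h4.symm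
    _ ≤ Nat.card {b : H // orderOf b = p} := by
      refine Nat.card_le_card_of_injective (fun a => ⟨a.2.1, (hz a.1 a.2.1 a.2.2).1⟩) ?_
      rintro ⟨Q, g, hg⟩ ⟨Q', g', hg'⟩ h
      have h5 : (g : H) = g' := congrArg Subtype.val h
      have h6 : Q = Q' := by
        apply Sylow.ext
        rw [← (hz Q g hg).2, ← (hz Q' g' hg').2, h5]
      subst h6
      have h7 : g = g' := Subtype.ext h5
      subst h7
      rfl

/-- a group of order 30 or 60 with a central involution has a normal subgroup of order 3 or 5 -/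
theorem exists_normal_small [Finite H] (h30 : 30 ∣ Nat.card H) (h60 : Nat.card H ∣ 60) (t : H) (ht : orderOf t = 2)
    (htc : ∀ h : H, h * t = t * h) : ∃ Q : Subgroup H, (Nat.card Q = 3 ∨ Nat.card Q = 5) ∧ Q.Normal := by
  by_contra hcon
  push Not at hcon
  have hcard : Nat.card H = 30 ∨ Nat.card H = 60 := by
    obtain ⟨k, hk⟩ := h30
    have h1 : 30 * k ≤ 60 := by rw [← hk]; exact Nat.le_of_dvd (by norm_num) h60
    have h2 : 0 < Nat.card H := Nat.card_pos
    have h3 : k = 1 ∨ k = 2 := by omega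
    rcases h3 with rfl | rfl
    · left; exact hk
    · right; exact hk
  have hfac : ∀ p : ℕ, p.Prime → p ∣ Nat.card H → ¬ p ^ 2 ∣ Nat.card H → (Nat.card H).factorization p = 1 := by
    intro p hp h1 h2
    have h3 : 1 ≤ (Nat.card H).factorization p := by
      rw [← Nat.Prime.dvd_iff_one_le_factorization hp Nat.card_pos.ne']
      exact h1
    have h4 : ¬ 2 ≤ (Nat.card H).factorization p := by
      intro h
      exact h2 ((Nat.Prime.pow_dvd_iff_le_factorization hp Nat.card_pos.ne').2 h)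
    omega
  have hf3 : (Nat.card H).factorization 3 = 1 := by
    apply hfac 3 Nat.prime_three <;> rcases hcard with h | h <;> rw [h] <;> decide
  have hf5 : (Nat.card H).factorization 5 = 1 := by
    apply hfac 5 Nat.prime_five <;> rcases hcard with h | h <;> rw [h] <;> decide
  have : Fact (Nat.Prime 3) := ⟨Nat.prime_three⟩
  have : Fact (Nat.Prime 5) := ⟨Nat.prime_five⟩
  have h3 := card_order_prime 3 hf3 (fun Q hQ => hcon Q (Or.inl hQ))
  have h5 := card_order_prime 5 hf5 (fun Q hQ => hcon Q (Or.inr hQ))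
  have h3' : 8 ≤ ({b : H | orderOf b = 3} : Set H).ncard := h3
  have h5' : 24 ≤ ({b : H | orderOf b = 5} : Set H).ncard := h5
  set S : Set H := {b : H | orderOf b = 3} ∪ {b : H | orderOf b = 5} with hS
  have hSc : 32 ≤ S.ncard := by
    rw [hS, Set.ncard_union_eq _ (Set.toFinite _) (Set.toFinite _)]
    · omega
    · rw [Set.disjoint_left]
      intro a ha hb
      have h6 : orderOf a = 3 := ha
      have h7 : orderOf a = 5 := hb
      omega
  have hS15 : ∀ b ∈ S, b ^ 15 = 1 := by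
    rintro b (hb | hb)
    · have h6 : orderOf b = 3 := hb
      exact orderOf_dvd_iff_pow_eq_one.1 (by rw [h6]; decide)
    · have h6 : orderOf b = 5 := hb
      exact orderOf_dvd_iff_pow_eq_one.1 (by rw [h6]; decide)
  have hdis : Disjoint S ((fun g => t * g) '' S) := by
    rw [Set.disjoint_left]
    rintro b hb ⟨c, hc, hcb⟩
    have h6 := hS15 b hb
    rw [← hcb] at h6
    have h7 : (t * c) ^ 15 = t ^ 15 * c ^ 15 := (show Commute t c from (htc c).symm).mul_pow 15
    have h8 : t ^ 15 = t := by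
      have : t ^ 2 = 1 := by rw [← ht, pow_orderOf_eq_one]
      calc t ^ 15 = (t ^ 2) ^ 7 * t := by rw [← pow_mul, ← pow_succ]
        _ = t := by rw [this, one_pow, one_mul]
    change (t * c) ^ 15 = 1 at h6
    rw [h7, h8, hS15 c hc, mul_one] at h6
    rw [h6, orderOf_one] at ht
    omega
  have h6 := Set.ncard_union_eq hdis (Set.toFinite _) (Set.toFinite _)
  rw [Set.ncard_image_of_injective _ (mul_right_injective t)] at h6
  have h7 : (S ∪ ((fun g => t * g) '' S)).ncard ≤ Nat.card H := by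
    rw [← Set.ncard_univ]
    exact Set.ncard_le_ncard (Set.subset_univ _) (Set.toFinite _)
  have h8 : Nat.card H ≤ 60 := by rcases hcard with h | h <;> omega
  omega

end general

section K

variable {H : Type*} [Group H] {t : H} {P : H → Prop} (K : Hyp t P)
include K

namespace Hyp

theorem sq {x : H} (hx : P x) : x * x = 1 := Order.mul_self_of_orderOf (K.hP2 x hx)

theorem inv {x : H} (hx : P x) : x⁻¹ = x := (eq_inv_of_mul_eq_one_left (K.sq hx)).symm

theorem ne_one {x : H} (hx : P x) : x ≠ 1 := Order.ne_one_of_orderOf (K.hP2 x hx)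

theorem tt : t * t = 1 := Order.mul_self_of_orderOf K.ht

theorem t_ne_one : t ≠ 1 := Order.ne_one_of_orderOf K.ht

/-- the elements of `P` commuting with `x` -/
theorem cases {x y w : H} (hx : P x) (hy : P y) (hxy : x ≠ y) (hc : x * y = y * x) (hw : P w)
    (hwx : w * x = x * w) : w = x ∨ w = y ∨ w = x * y := by
  have hmul := K.hmul x y hx hy hxy hc
  have h1 : x ≠ x * y := fun h => K.ne_one hy (mul_eq_left.1 h.symm)
  have h2 : y ≠ x * y := fun h => K.ne_one hx (mul_eq_right.1 h.symm)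
  have h3 : ({x, y, x * y} : Set H) = {w | P w ∧ w * x = x * w} := by
    apply Set.eq_of_subset_of_ncard_le
    · rintro w (rfl | rfl | rfl)
      · exact ⟨hx, rfl⟩
      · exact ⟨hy, hc.symm⟩
      · exact ⟨hmul, by rw [mul_assoc, ← hc]⟩
    · have h4 : ({x, y, x * y} : Set H).ncard = 3 := Set.ncard_eq_three.2 ⟨x, y, x * y, hxy, h1, h2, rfl⟩
      have h5 : ({w | P w ∧ w * x = x * w} : Set H).ncard = 3 := K.h3 x hx
      omega
    · apply Set.finite_of_ncard_pos
      have h5 : ({w | P w ∧ w * x = x * w} : Set H).ncard = 3 := K.h3 x hx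
      omega
  have h4 : w ∈ ({x, y, x * y} : Set H) := by rw [h3]; exact ⟨hw, hwx⟩
  simpa using h4

theorem exists_ne {x : H} (hx : P x) : ∃ y, P y ∧ x ≠ y ∧ x * y = y * x := by
  have h1 : 1 < ({w | P w ∧ w * x = x * w} : Set H).ncard := by
    have h5 : ({w | P w ∧ w * x = x * w} : Set H).ncard = 3 := K.h3 x hx
    omega
  obtain ⟨y, hy, hyx⟩ := Set.exists_ne_of_one_lt_ncard h1 x
  exact ⟨y, hy.1, hyx.symm, hy.2.symm⟩

/-- commuting is transitive on `P` -/
theorem trans {x y w : H} (hx : P x) (hy : P y) (hw : P w) (h1 : x * y = y * x) (h2 : y * w = w * y) :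
    x * w = w * x := by
  by_cases hxy : x = y
  · subst hxy; exact h2
  · rcases K.cases hy hx (Ne.symm hxy) h1.symm hw h2.symm with rfl | rfl | rfl
    · exact h1
    · rfl
    · rw [← mul_assoc, h1, mul_assoc]

end Hyp

/-- the four-group of `x` -/
def InV (P : H → Prop) (x g : H) : Prop := g = 1 ∨ (P g ∧ g * x = x * g)

namespace Hyp

omit K in
theorem inV_self {x : H} (hx : P x) : InV P x x := Or.inr ⟨hx, rfl⟩

theorem inV_sq {x g : H} (hg : InV P x g) : g * g = 1 := by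
  rcases hg with rfl | ⟨h, _⟩
  · simp
  · exact K.sq h

theorem inV_comm {x g h : H} (hx : P x) (hg : InV P x g) (hh : InV P x h) : g * h = h * g := by
  rcases hg with rfl | ⟨h1, h2⟩
  · simp
  · rcases hh with rfl | ⟨h3, h4⟩
    · simp
    · exact K.trans h1 hx h3 h2 h4.symm

theorem inV_mul {x g h : H} (hx : P x) (hg : InV P x g) (hh : InV P x h) : InV P x (g * h) := by
  have hc := K.inV_comm hx hg hh
  rcases hg with rfl | ⟨h1, h2⟩
  · simpa using hh
  · rcases hh with rfl | ⟨h3, h4⟩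
    · rw [mul_one]; exact Or.inr ⟨h1, h2⟩
    · by_cases hgh : g = h
      · subst hgh; exact Or.inl (K.sq h1)
      · refine Or.inr ⟨K.hmul g h h1 h3 hgh hc, ?_⟩
        rw [mul_assoc, h4, ← mul_assoc, h2, mul_assoc]

theorem ncard_V {x : H} (hx : P x) : ({g | InV P x g} : Set H).ncard = 4 := by
  have h5 : ({w | P w ∧ w * x = x * w} : Set H).ncard = 3 := K.h3 x hx
  have h1 : ({g | InV P x g} : Set H) = insert 1 {w | P w ∧ w * x = x * w} := by
    ext g; simp [InV]
  have hfin : ({w | P w ∧ w * x = x * w} : Set H).Finite := Set.finite_of_ncard_pos (by omega)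
  rw [h1, Set.ncard_insert_of_notMem (fun h => K.ne_one h.1 rfl) hfin, h5]

theorem t_notMem {x : H} : ¬ InV P x t := by
  rintro (h | ⟨h, _⟩)
  · exact K.t_ne_one h
  · exact K.hPt h

/-- `C(V_x) = V_x × ⟨t⟩` -/
theorem cent_V {x y k : H} (hx : P x) (hy : P y) (hxy : x ≠ y) (hc : x * y = y * x)
    (h1 : k * x = x * k) (h2 : k * y = y * k) : InV P x k ∨ InV P x (t * k) := by
  have h8 : ((centralizer ({x} : Set H) ⊓ centralizer ({y} : Set H) : Subgroup H) : Set H).ncard = 8 :=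
    K.h8 x y hx hy hxy hc
  have hV := K.ncard_V hx
  have hsub : ({g | InV P x g} : Set H) ⊆ (centralizer ({x} : Set H) ⊓ centralizer ({y} : Set H) : Subgroup H) := by
    intro g hg
    rw [SetLike.mem_coe, mem_inf, mem_centralizer_singleton_iff, mem_centralizer_singleton_iff]
    exact ⟨K.inV_comm hx hg (inV_self hx), K.inV_comm hx hg (Or.inr ⟨hy, hc.symm⟩)⟩
  have hfin : ({g | InV P x g} : Set H).Finite := Set.finite_of_ncard_pos (by omega)
  have hW : ((fun g => t * g) '' ({g | InV P x g} : Set H)).ncard = 4 := by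
    rw [Set.ncard_image_of_injective _ (mul_right_injective t), hV]
  have hdis : Disjoint ({g | InV P x g} : Set H) ((fun g => t * g) '' ({g | InV P x g} : Set H)) := by
    rw [Set.disjoint_left]
    rintro g hg ⟨h, hh, rfl⟩
    apply K.t_notMem (x := x)
    have h9 : t = (t * h) * h := by rw [mul_assoc, K.inV_sq hh, mul_one]
    rw [h9]
    exact K.inV_mul hx hg hh
  have hun := Set.ncard_union_eq hdis hfin (hfin.image _)
  have heq : ({g | InV P x g} : Set H) ∪ ((fun g => t * g) '' ({g | InV P x g} : Set H)) =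
      (centralizer ({x} : Set H) ⊓ centralizer ({y} : Set H) : Subgroup H) := by
    apply Set.eq_of_subset_of_ncard_le
    · apply Set.union_subset hsub
      rintro _ ⟨g, hg, rfl⟩
      have h9 := hsub hg
      have htm : t ∈ (centralizer ({x} : Set H) ⊓ centralizer ({y} : Set H) : Subgroup H) := by
        rw [mem_inf, mem_centralizer_singleton_iff, mem_centralizer_singleton_iff]
        exact ⟨(K.htc x).symm, (K.htc y).symm⟩
      exact mul_mem htm h9
    · rw [hun, h8, hV, hW]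
    · exact Set.finite_of_ncard_pos (by omega)
  have hk : k ∈ ((centralizer ({x} : Set H) ⊓ centralizer ({y} : Set H) : Subgroup H) : Set H) := by
    rw [SetLike.mem_coe, mem_inf, mem_centralizer_singleton_iff, mem_centralizer_singleton_iff]
    exact ⟨h1, h2⟩
  rw [← heq] at hk
  rcases hk with hk | ⟨g, hg, hgk⟩
  · exact Or.inl hk
  · right
    have h9 : t * k = g := by
      rw [← hgk]
      change t * (t * g) = g
      rw [← mul_assoc, K.tt, one_mul]
    rw [h9]; exact hg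

/-- non-commuting elements of `P` have a product of odd order -/
theorem odd_of_not_comm [Finite H] {x y : H} (hx : P x) (hy : P y) (hn : x * y ≠ y * x) :
    Odd (orderOf (x * y)) := by
  rw [← Nat.not_even_iff_odd]
  rintro ⟨k, hk⟩
  have hxx := K.sq hx
  have hyy := K.sq hy
  have hxi := K.inv hx
  have hyi := K.inv hy
  have hpos := orderOf_pos (x * y)
  set w := x * y with hw
  have he1 : w ^ (k : ℤ) * w ^ (k : ℤ) = 1 := by
    rw [← zpow_add]
    have : ((k : ℤ) + k) = ((orderOf w : ℕ) : ℤ) := by rw [hk]; push_cast; rfl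
    rw [this, zpow_natCast, pow_orderOf_eq_one]
  have he2 : w ^ (k : ℤ) ≠ 1 := by
    rw [zpow_natCast]
    intro h
    have := orderOf_dvd_of_pow_eq_one h
    have := Nat.le_of_dvd (by omega) this
    omega
  obtain ⟨hc1, hc2⟩ := Order.comm_of_mem_zpowers hxx hyy he1 (mem_zpowers_iff.2 ⟨k, rfl⟩)
  -- `e x` is in `P`
  have hP : P (w ^ (k : ℤ) * x) := by
    rcases Int.even_or_odd' (k : ℤ) with ⟨s, hs | hs⟩
    · rw [hs, ← dihedral hxx hyy s]
      exact K.hPi x _ hx
    · -- `w^(2 s + 1) x = w^s (w x) w^{-s}`, and `w x = x y x`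
      have h1 : w ^ (2 * s + 1) * x = w ^ (s + 1) * y * (w ^ (s + 1))⁻¹ := by
        have h2 := dihedral hxx hyy (s + 1)
        rw [← hw] at h2
        have h3 : y = w⁻¹ * x := by
          rw [hw, mul_inv_rev, hyi, hxi, mul_assoc, hxx, mul_one]
        calc w ^ (2 * s + 1) * x = w⁻¹ * (w ^ (2 * (s + 1)) * x) := by
              rw [← mul_assoc, ← zpow_neg_one, ← zpow_add]; congr 2; ring
          _ = w⁻¹ * (w ^ (s + 1) * x * (w ^ (s + 1))⁻¹) := by rw [h2]
          _ = (w⁻¹ * w ^ (s + 1)) * x * (w ^ (s + 1))⁻¹ := by group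
          _ = (w ^ (s + 1) * w⁻¹) * x * (w ^ (s + 1))⁻¹ := by
              rw [← zpow_neg_one, ← zpow_add, ← zpow_add, add_comm]
          _ = w ^ (s + 1) * y * (w ^ (s + 1))⁻¹ := by rw [h3]; group
      rw [hs, h1]
      exact K.hPi y _ hy
  have hPe : P (w ^ (k : ℤ)) := by
    have h1 : w ^ (k : ℤ) * x ≠ x := fun h => he2 (mul_eq_right.1 h)
    have h2 : w ^ (k : ℤ) * x * x = x * (w ^ (k : ℤ) * x) := by
      rw [← mul_assoc x, hc1]
    have h3 := K.hmul _ _ hP hx h1 h2
    rwa [mul_assoc, hxx, mul_one] at h3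
  exact hn (K.trans hx hPe hy hc1 hc2.symm)

theorem eq_one_of_odd [Finite H] {x g : H} (hx : P x) (hc : g * x = x * g) (ho : Odd (orderOf g)) : g = 1 := by
  have h1 : orderOf g ∣ 16 := by
    rw [← K.h16 x hx]
    exact Subgroup.orderOf_dvd_natCard _ (mem_centralizer_singleton_iff.2 hc)
  have h2 : (orderOf g).Coprime 16 := by
    have : (orderOf g).Coprime (2 ^ 4) := Nat.Coprime.pow_right 4 (Nat.coprime_two_right.2 ho)
    exact this
  rw [← orderOf_eq_one_iff]
  exact Nat.Coprime.eq_one_of_dvd h2 h1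

theorem not_comm_three [Finite H] {x d : H} (hx : P x) (hd : orderOf d = 3) : d * x ≠ x * d := by
  intro h
  have h1 := K.eq_one_of_odd hx h (by rw [hd]; decide)
  rw [h1, orderOf_one] at hd
  omega

/-- the element of `P` exchanging `x` and `y` -/
theorem exists_swap [Finite H] {x y : H} (hx : P x) (hy : P y) (hn : x * y ≠ y * x) :
    ∃ c, P c ∧ c * x * c⁻¹ = y := by
  obtain ⟨g, hg⟩ := exists_swap_of_odd (K.sq hx) (K.sq hy) (K.odd_of_not_comm hx hy hn)
  exact ⟨_, K.hPi x g hx, hg⟩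

theorem swap_unique [Finite H] {x y c c' : H} (hx : P x) (hn : x * y ≠ y * x) (hc : P c) (hc' : P c')
    (h : c * x * c⁻¹ = y) (h' : c' * x * c'⁻¹ = y) : c = c' := by
  have h1 : (c * c') * x = x * (c * c') := by
    rw [← conj_eq_iff]
    calc (c * c') * x * (c * c')⁻¹ = c * (c' * x * c'⁻¹) * c⁻¹ := by group
      _ = c * (c * x * c⁻¹) * c⁻¹ := by rw [h', h]
      _ = (c * c) * x * (c * c)⁻¹ := by group
      _ = x := by rw [K.sq hc]; group
  by_cases hcc : c * c' = c' * c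
  · by_contra hne
    have h2 := K.hmul c c' hc hc' hne hcc
    -- `c c'` commutes with `x` and `c`
    have h3 : (c * c') * c = c * (c * c') := by rw [mul_assoc, hcc]
    have h4 : c * x = x * c := K.trans hc h2 hx h3.symm h1
    apply hn
    rw [← h, conj_eq_iff.2 h4]
  · have h2 := K.odd_of_not_comm hc hc' hcc
    have h3 := K.eq_one_of_odd hx h1 h2
    calc c = c * c' * c'⁻¹ := by group
      _ = c' := by rw [h3, one_mul, K.inv hc']

/-- an element of `P` normalizing `V_x` is in `V_x` -/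
theorem comm_of_norm {x c : H} (hx : P x) (hc : P c) (h : (c * x * c⁻¹) * x = x * (c * x * c⁻¹)) :
    c * x = x * c := by
  by_cases h1 : c * x * c⁻¹ = x
  · exact conj_eq_iff.1 h1
  · have h2 := K.hmul _ _ hx (K.hPi x c hx) (Ne.symm h1) h.symm
    have h3 : c * (x * (c * x * c⁻¹)) = (x * (c * x * c⁻¹)) * c := by
      rw [← conj_eq_iff]
      calc c * (x * (c * x * c⁻¹)) * c⁻¹ = (c * x * c⁻¹) * ((c * c) * x * (c * c)⁻¹) := by group
        _ = (c * x * c⁻¹) * x := by rw [K.sq hc]; group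
        _ = _ := h
    have h4 : (x * (c * x * c⁻¹)) * x = x * (x * (c * x * c⁻¹)) := by rw [mul_assoc, h]
    exact K.trans hc h2 hx h3 h4

end Hyp

/-- `d` normalizes `V_x` -/
def F (P : H → Prop) (d x : H) : Prop := P x ∧ (d * x * d⁻¹) * x = x * (d * x * d⁻¹)

/-- the elements of `P` inverting `d` -/
def Inverts (P : H → Prop) (d c : H) : Prop := P c ∧ c * d * c⁻¹ = d⁻¹

namespace Hyp

omit K in
theorem pow3 {d : H} (hd : orderOf d = 3) : d * d * d = 1 := by
  have : d ^ 3 = 1 := by rw [← hd, pow_orderOf_eq_one]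
  rwa [pow_succ, pow_two] at this

omit K in
theorem sq3 {d : H} (hd : orderOf d = 3) : d * d = d⁻¹ := eq_inv_of_mul_eq_one_left (pow3 hd)

omit K in
theorem inv3 {d : H} (hd : orderOf d = 3) : d⁻¹ * d⁻¹ = d := by
  rw [← mul_inv_rev, sq3 hd, inv_inv]

omit K in
theorem c3a {d : H} (hd : orderOf d = 3) (x : H) : d * (d * x * d⁻¹) * d⁻¹ = d⁻¹ * x * d := by
  calc d * (d * x * d⁻¹) * d⁻¹ = (d * d) * x * (d⁻¹ * d⁻¹) := by group
    _ = d⁻¹ * x * d := by rw [sq3 hd, inv3 hd]

omit K in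
theorem c3c {d : H} (hd : orderOf d = 3) (x : H) : d⁻¹ * (d⁻¹ * x * d) * d = d * x * d⁻¹ := by
  calc d⁻¹ * (d⁻¹ * x * d) * d = (d⁻¹ * d⁻¹) * x * (d * d) := by group
    _ = d * x * d⁻¹ := by rw [sq3 hd, inv3 hd]

omit K in
theorem c3b (d x : H) : d * (d⁻¹ * x * d) * d⁻¹ = x := by group

omit K in
theorem c3d (d x : H) : d⁻¹ * (d * x * d⁻¹) * d = x := by group

/-- `x₁ ≠ x` -/
theorem conj_ne [Finite H] {d x : H} (hd : orderOf d = 3) (hx : P x) : d * x * d⁻¹ ≠ x :=
  fun h => K.not_comm_three hx hd (conj_eq_iff.1 h)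

theorem P_conj' {x d : H} (hx : P x) : P (d⁻¹ * x * d) := by
  have := K.hPi x d⁻¹ hx
  rwa [inv_inv] at this

/-- `x₂ = x x₁` -/
theorem tri [Finite H] {d x : H} (hd : orderOf d = 3) (hx : F P d x) : d⁻¹ * x * d = x * (d * x * d⁻¹) := by
  have hx0 := hx.1
  have h1 := K.conj_ne hd hx0
  have h3 : (d⁻¹ * x * d) * x = x * (d⁻¹ * x * d) := by
    have h4 := (comm_conj d⁻¹).2 hx.2
    rw [inv_inv, c3d] at h4
    exact h4.symm
  rcases K.cases hx0 (K.hPi x d hx0) (Ne.symm h1) hx.2.symm (K.P_conj' hx0) h3 with h | h | h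
  · exfalso
    apply h1
    have h5 := c3b d x
    rwa [h] at h5
  · exfalso
    apply h1
    have h5 := c3a hd x
    rw [← h, c3b] at h5
    rw [← h, ← h5]
  · exact h

theorem F_conj [Finite H] {d x : H} (hx : F P d x) : F P d (d * x * d⁻¹) :=
  ⟨K.hPi x d hx.1, (comm_conj d).2 hx.2⟩

omit K in
theorem F_inv {d x : H} (hx : F P d x) : F P d⁻¹ x := by
  refine ⟨hx.1, ?_⟩
  have h4 := (comm_conj d⁻¹).2 hx.2
  rw [inv_inv, c3d] at h4
  rw [inv_inv]
  exact h4.symm

/-- `F(d)` is a union of classes -/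
theorem F_of_comm {d x y : H} (hx : F P d x) (hy : P y) (h : x * y = y * x) : F P d y := by
  refine ⟨hy, ?_⟩
  have h1 : (d * y * d⁻¹) * (d * x * d⁻¹) = (d * x * d⁻¹) * (d * y * d⁻¹) := (comm_conj d).2 h.symm
  have h2 := K.trans (K.hPi y d hy) (K.hPi x d hx.1) hx.1 h1 hx.2
  exact K.trans (K.hPi y d hy) hx.1 hy h2 h

/-- the three commuting elements -/
theorem F_cases [Finite H] {d x y : H} (hd : orderOf d = 3) (hx : F P d x) (hy : P y)
    (h : y * x = x * y) : y = x ∨ y = d * x * d⁻¹ ∨ y = d⁻¹ * x * d := by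
  rw [K.tri hd hx]
  exact K.cases hx.1 (K.hPi x d hx.1) (Ne.symm (K.conj_ne hd hx.1)) hx.2.symm hy h

omit K in
theorem comm2 {d x : H} (hx : F P d x) : (d⁻¹ * x * d) * x = x * (d⁻¹ * x * d) := by
  have := (F_inv hx).2
  rwa [inv_inv] at this

/-- `v v₁ v₂ = 1` for `v` in `V_x` -/
theorem prodV [Finite H] {d x v : H} (hd : orderOf d = 3) (hx : F P d x) (hv : InV P x v) :
    v * (d * v * d⁻¹) * (d⁻¹ * v * d) = 1 := by
  rcases hv with rfl | ⟨h1, h2⟩
  · simp
  · have hFv := K.F_of_comm hx h1 h2.symm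
    rw [K.tri hd hFv]
    exact K.inV_sq (K.inV_mul h1 (inV_self h1) (Or.inr ⟨K.hPi v d h1, hFv.2⟩))

/-- `C(d) ∩ C(x) = ⟨t⟩` -/
theorem cent_two [Finite H] {d x k : H} (hd : orderOf d = 3) (hx : F P d x) (h1 : k * d = d * k)
    (h2 : k * x = x * k) : k = 1 ∨ k = t := by
  have h3 : k * (d * x * d⁻¹) = (d * x * d⁻¹) * k := by
    calc k * (d * x * d⁻¹) = (k * d) * x * d⁻¹ := by group
      _ = d * (k * x) * d⁻¹ := by rw [h1]; group
      _ = d * x * (k * d⁻¹) := by rw [h2]; group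
      _ = d * x * (d⁻¹ * (d * k) * d⁻¹) := by group
      _ = d * x * (d⁻¹ * (k * d) * d⁻¹) := by rw [h1]
      _ = (d * x * d⁻¹) * k := by group
  rcases K.cent_V hx.1 (K.hPi x d hx.1) (Ne.symm (K.conj_ne hd hx.1)) hx.2.symm h2 h3 with h | h
  · rcases h with h | ⟨h, _⟩
    · exact Or.inl h
    · exact absurd h1.symm (K.not_comm_three h hd)
  · rcases h with h | ⟨h, _⟩
    · right
      calc k = t * (t * k) := by rw [← mul_assoc, K.tt, one_mul]
        _ = t := by rw [h, mul_one]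
    · refine absurd ?_ (K.not_comm_three h hd)
      rw [← mul_assoc, K.htc d, mul_assoc, ← h1, mul_assoc]

/-- an element of `C(x)` inverting `d` -/
theorem exists_inv [Finite H] {d x : H} (hd : orderOf d = 3) (hx : F P d x) :
    ∃ s, s * x = x * s ∧ s * d * s⁻¹ = d⁻¹ := by
  have hx0 := hx.1
  set x1 := d * x * d⁻¹ with hx1
  have hx1P : P x1 := K.hPi x d hx0
  have hne : x1 ≠ x := K.conj_ne hd hx0
  have hx1x : x1 * x = x * x1 := hx.2
  set x2 := d⁻¹ * x * d with hx2
  have htri : x2 = x * x1 := K.tri hd hx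
  -- `g` in `C(x)` not commuting with `x1`
  have hg : ∃ g, g * x = x * g ∧ g * x1 ≠ x1 * g := by
    by_contra hcon
    push Not at hcon
    have h1 : (centralizer ({x} : Set H) ⊓ centralizer ({x1} : Set H) : Subgroup H) =
        centralizer ({x} : Set H) := by
      apply le_antisymm inf_le_left
      intro g hg
      rw [mem_centralizer_singleton_iff] at hg
      rw [mem_inf, mem_centralizer_singleton_iff, mem_centralizer_singleton_iff]
      exact ⟨hg, hcon g hg⟩
    have h2 := K.h8 x x1 hx0 hx1P (Ne.symm hne) hx1x.symm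
    rw [h1, K.h16 x hx0] at h2
    omega
  obtain ⟨g, hgx, hgx1⟩ := hg
  have hgxc : g * x * g⁻¹ = x := conj_eq_iff.2 hgx
  have h1 : g * x1 * g⁻¹ = x2 := by
    have h2 : (g * x1 * g⁻¹) * x = x * (g * x1 * g⁻¹) := by
      have := (comm_conj g).2 hx1x
      rwa [hgxc] at this
    rcases K.cases hx0 hx1P (Ne.symm hne) hx1x.symm (K.hPi x1 g hx1P) h2 with h | h | h
    · exfalso
      apply hne
      have : g * x1 * g⁻¹ = g * x * g⁻¹ := by rw [h, hgxc]
      exact mul_left_cancel (mul_right_cancel this)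
    · exact absurd (conj_eq_iff.1 h) hgx1
    · rw [h, htri]
  have h2 : g * x2 * g⁻¹ = x1 := by
    rw [htri]
    calc g * (x * x1) * g⁻¹ = (g * x * g⁻¹) * (g * x1 * g⁻¹) := by group
      _ = x * (x * x1) := by rw [hgxc, h1, htri]
      _ = x1 := by rw [← mul_assoc, K.sq hx0, one_mul]
  have h1' : g⁻¹ * x1 * g = x2 := by rw [← h2]; group
  have hgxc' : g⁻¹ * x * g = x := by
    calc g⁻¹ * x * g = g⁻¹ * (g * x * g⁻¹) * g := by rw [hgxc]
      _ = x := by group
  -- `k = d g d g⁻¹` centralizes `V`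
  set k := d * g * d * g⁻¹ with hk
  have hk1 : k * x = x * k := by
    rw [← conj_eq_iff, hk]
    calc d * g * d * g⁻¹ * x * (d * g * d * g⁻¹)⁻¹ = d * (g * (d * (g⁻¹ * x * g) * d⁻¹) * g⁻¹) * d⁻¹ := by
          group
      _ = d * x2 * d⁻¹ := by rw [hgxc', ← hx1, h1]
      _ = x := c3b d x
  have hk2 : k * x1 = x1 * k := by
    rw [← conj_eq_iff, hk]
    calc d * g * d * g⁻¹ * x1 * (d * g * d * g⁻¹)⁻¹ = d * (g * (d * (g⁻¹ * x1 * g) * d⁻¹) * g⁻¹) * d⁻¹ := by
          group
      _ = d * (g * (d * x2 * d⁻¹) * g⁻¹) * d⁻¹ := by rw [h1']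
      _ = d * (g * x * g⁻¹) * d⁻¹ := by rw [hx2, c3b]
      _ = x1 := by rw [hgxc]
  have hgd : g * d * g⁻¹ = d⁻¹ * k := by rw [hk]; group
  have hgd3 : (g * d * g⁻¹) * (g * d * g⁻¹) * (g * d * g⁻¹) = 1 := by
    calc (g * d * g⁻¹) * (g * d * g⁻¹) * (g * d * g⁻¹) = g * (d * d * d) * g⁻¹ := by group
      _ = 1 := by rw [pow3 hd]; group
  -- for `v` in `V`
  have hv3 : ∀ v, InV P x v → (d⁻¹ * v) * (d⁻¹ * v) * (d⁻¹ * v) = 1 := by
    intro v hv
    have h4 := K.prodV hd hx hv
    calc (d⁻¹ * v) * (d⁻¹ * v) * (d⁻¹ * v) = (d⁻¹ * v * d) * ((d⁻¹ * d⁻¹) * v * d⁻¹) * v := by group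
      _ = (d⁻¹ * v * d) * (d * v * d⁻¹) * v := by rw [inv3 hd]
      _ = v⁻¹ * (v * ((d⁻¹ * v * d) * (d * v * d⁻¹))) * v := by group
      _ = v⁻¹ * (v * ((d * v * d⁻¹) * (d⁻¹ * v * d))) * v := by
          have h5 : (d⁻¹ * v * d) * (d * v * d⁻¹) = (d * v * d⁻¹) * (d⁻¹ * v * d) := by
            rcases hv with rfl | ⟨h6, h7⟩
            · simp
            · have hFv := K.F_of_comm hx h6 h7.symm
              exact K.trans (K.P_conj' h6) h6 (K.hPi v d h6) (comm2 hFv) hFv.2.symm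
          rw [h5]
      _ = 1 := by rw [← mul_assoc v, h4]; group
  have hV : ∃ v, InV P x v ∧ g * d * g⁻¹ = d⁻¹ * v := by
    rcases K.cent_V hx0 hx1P (Ne.symm hne) hx1x.symm hk1 hk2 with h | h
    · exact ⟨k, h, hgd⟩
    · exfalso
      apply K.t_ne_one
      have h4 := hv3 (t * k) h
      have h5 : (d⁻¹ * (t * k)) * (d⁻¹ * (t * k)) * (d⁻¹ * (t * k)) =
          (t * t) * (t * ((d⁻¹ * k) * (d⁻¹ * k) * (d⁻¹ * k))) := by
        have h6 : d⁻¹ * (t * k) = t * (d⁻¹ * k) := by rw [← mul_assoc, K.htc, mul_assoc]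
        rw [h6]
        have h7 : ∀ a : H, t * a * (t * a) * (t * a) = (t * t) * (t * (a * a * a)) := by
          intro a
          calc t * a * (t * a) * (t * a) = t * (a * t) * a * (t * a) := by group
            _ = t * (t * a) * a * (t * a) := by rw [K.htc a]
            _ = (t * t) * (a * a * t) * a := by group
            _ = (t * t) * (t * (a * a)) * a := by rw [K.htc (a * a)]
            _ = _ := by group
        exact h7 _
      rw [h5, K.tt, one_mul, ← hgd, hgd3, mul_one] at h4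
      exact h4
  obtain ⟨v, hv, hgv⟩ := hV
  -- `u = v₁`
  have hu : InV P x (d * v * d⁻¹) := by
    rcases hv with rfl | ⟨h6, h7⟩
    · left; group
    · right
      have hFv := K.F_of_comm hx h6 h7.symm
      exact ⟨K.hPi v d h6, K.trans (K.hPi v d h6) h6 hx0 hFv.2 h7⟩
  refine ⟨(d * v * d⁻¹) * g, ?_, ?_⟩
  · rw [mul_assoc, hgx, ← mul_assoc, K.inV_comm hx0 hu (inV_self hx0), mul_assoc]
  · have h4 := K.prodV hd hx hv
    have h5 : v * d * v * d * v * d = 1 := by
      calc v * d * v * d * v * d = v * (d * v * d⁻¹) * ((d * d) * v * d) := by group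
        _ = 1 := by rw [sq3 hd, h4]
    calc (d * v * d⁻¹) * g * d * ((d * v * d⁻¹) * g)⁻¹ = (d * v * d⁻¹) * (g * d * g⁻¹) * (d * v * d⁻¹)⁻¹ := by
          group
      _ = (d * v * d⁻¹) * (d⁻¹ * v) * (d * v * d⁻¹)⁻¹ := by rw [hgv]
      _ = d * v * (d⁻¹ * d⁻¹) * v * d * v⁻¹ * d⁻¹ := by group
      _ = v⁻¹ * (v * d * v * d * v * d) * v⁻¹ * d⁻¹ := by rw [inv3 hd]; group
      _ = (v * v)⁻¹ * d⁻¹ := by rw [h5]; group
      _ = d⁻¹ := by rw [K.inV_sq hv, inv_one, one_mul]

omit K in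
theorem inverts_conj {c d : H} (hc : c * c = 1) (h : c * d * c⁻¹ = d⁻¹) : d * c = c * d⁻¹ ∧ d⁻¹ * c = c * d := by
  have hci : c⁻¹ = c := (eq_inv_of_mul_eq_one_left hc).symm
  have h1 : d⁻¹ * c = c * d := by rw [← h]; group
  refine ⟨?_, h1⟩
  calc d * c = d * (c * d) * d⁻¹ := by group
    _ = d * (d⁻¹ * c) * d⁻¹ := by rw [h1]
    _ = c * d⁻¹ := by group

theorem inverts_F {d x c : H} (hx : F P d x) (hc : Inverts P d c) : F P d (c * x * c⁻¹) := by
  refine ⟨K.hPi x c hx.1, ?_⟩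
  obtain ⟨h1, h2⟩ := inverts_conj (K.sq hc.1) hc.2
  have h3 : d * (c * x * c⁻¹) * d⁻¹ = c * (d⁻¹ * x * d) * c⁻¹ := by
    have h4 : c⁻¹ * d⁻¹ = d * c⁻¹ := by
      have : (d * c)⁻¹ = (c * d⁻¹)⁻¹ := by rw [h1]
      rw [mul_inv_rev, mul_inv_rev, inv_inv] at this
      exact this
    calc d * (c * x * c⁻¹) * d⁻¹ = (d * c) * x * (c⁻¹ * d⁻¹) := by group
      _ = (c * d⁻¹) * x * (d * c⁻¹) := by rw [h1, h4]
      _ = c * (d⁻¹ * x * d) * c⁻¹ := by group
  rw [h3]
  exact (comm_conj c).2 (comm2 hx)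

theorem inverts_not_comm [Finite H] {d x c : H} (hd : orderOf d = 3) (hx : F P d x) (hc : Inverts P d c) :
    x * (c * x * c⁻¹) ≠ (c * x * c⁻¹) * x := by
  intro h
  have h1 := K.comm_of_norm hx.1 hc.1 h.symm
  have h2 := K.F_of_comm hx hc.1 h1.symm
  obtain ⟨h3, h4⟩ := inverts_conj (K.sq hc.1) hc.2
  have h5 : c * (d * c * d⁻¹) = d := by
    calc c * (d * c * d⁻¹) = c * (c * d⁻¹) * d⁻¹ := by rw [h3]; group
      _ = (c * c) * (d⁻¹ * d⁻¹) := by group
      _ = d := by rw [K.sq hc.1, inv3 hd, one_mul]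
  have h6 : (c * (d * c * d⁻¹)) * (c * (d * c * d⁻¹)) = 1 :=
    K.inV_sq (K.inV_mul hc.1 (inV_self hc.1) (Or.inr ⟨K.hPi c d hc.1, h2.2⟩))
  rw [h5] at h6
  have h7 : orderOf d ∣ 2 := orderOf_dvd_of_pow_eq_one (by rw [pow_two, h6])
  rw [hd] at h7
  omega

/-- elements of `P` exchanging non-commuting `x` and `y` in `F(d)` invert `d` -/
theorem inverts_of_swap [Finite H] {d x y c : H} (hd : orderOf d = 3) (hx : F P d x) (hy : F P d y)
    (hn : x * y ≠ y * x) (hc : P c) (h : c * x * c⁻¹ = y) : Inverts P d c := by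
  refine ⟨hc, ?_⟩
  have hcc := K.sq hc
  have hci := K.inv hc
  have hyx : c * y * c⁻¹ = x := by
    rw [← h]
    calc c * (c * x * c⁻¹) * c⁻¹ = (c * c) * x * (c * c)⁻¹ := by group
      _ = x := by rw [hcc]; group
  have h1 : (c * (d * x * d⁻¹) * c⁻¹) * y = y * (c * (d * x * d⁻¹) * c⁻¹) := by
    rw [← h]; exact (comm_conj c).2 hx.2
  rcases K.F_cases hd hy (K.hPi _ c (K.hPi x d hx.1)) h1 with h2 | h2 | h2
  · exfalso
    apply K.conj_ne hd hx.1
    rw [← h] at h2
    exact mul_left_cancel (mul_right_cancel h2)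
  · -- `c` commutes with `d`
    exfalso
    have h3 : d⁻¹ * c * d = c := by
      refine K.swap_unique hx.1 hn (K.P_conj' hc) hc ?_ h
      calc d⁻¹ * c * d * x * (d⁻¹ * c * d)⁻¹ = d⁻¹ * (c * (d * x * d⁻¹) * c⁻¹) * d := by group
        _ = y := by rw [h2, c3d]
    apply K.not_comm_three hc hd
    calc d * c = d * (d⁻¹ * c * d) := by rw [h3]
      _ = c * d := by group
  · -- `c x₁ c = y₂`, `c x₂ c = y₁`
    have h3 : c * (d⁻¹ * x * d) * c⁻¹ = d * y * d⁻¹ := by
      rw [K.tri hd hx]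
      calc c * (x * (d * x * d⁻¹)) * c⁻¹ = (c * x * c⁻¹) * (c * (d * x * d⁻¹) * c⁻¹) := by group
        _ = y * (y * (d * y * d⁻¹)) := by rw [h, h2, K.tri hd hy]
        _ = d * y * d⁻¹ := by rw [← mul_assoc, K.sq hy.1, one_mul]
    have hinv : ∀ a b : H, c * a * c⁻¹ = b → c * b * c⁻¹ = a := by
      rintro a b rfl
      calc c * (c * a * c⁻¹) * c⁻¹ = (c * c) * a * (c * c)⁻¹ := by group
        _ = a := by rw [hcc]; group
    set k := c * d * c * d with hk
    have hkc : ∀ a : H, k * a * k⁻¹ = c * (d * (c * (d * a * d⁻¹) * c⁻¹) * d⁻¹) * c⁻¹ := by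
      intro a; rw [hk]; group
    have hk1 : k * x = x * k := by
      rw [← conj_eq_iff, hkc, h2, c3b, hyx]
    have hk2 : k * (d * x * d⁻¹) = (d * x * d⁻¹) * k := by
      rw [← conj_eq_iff, hkc, c3a hd, h3, c3a hd]
      exact hinv _ _ h2
    have hk3 : k * y = y * k := by
      rw [← conj_eq_iff, hkc, hinv _ _ h3, c3b, h]
    have hone : ∀ v, InV P x v → v * y = y * v → v = 1 := by
      rintro v (hv | ⟨hv1, hv2⟩) hvy
      · exact hv
      · exact absurd (K.trans hx.1 hv1 hy.1 hv2.symm hvy) hn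
    have hk4 : k = 1 := by
      rcases K.cent_V hx.1 (K.hPi x d hx.1) (Ne.symm (K.conj_ne hd hx.1)) hx.2.symm hk1 hk2 with h4 | h4
      · exact hone k h4 hk3
      · exfalso
        have h5 := hone _ h4 (by rw [mul_assoc, hk3, ← mul_assoc, ← K.htc y, mul_assoc])
        have h6 : k = t := by
          calc k = t * (t * k) := by rw [← mul_assoc, K.tt, one_mul]
            _ = t := by rw [h5, mul_one]
        have h7 : c * d * c⁻¹ = t * d⁻¹ := by
          rw [hci]
          calc c * d * c = (c * d * c * d) * d⁻¹ := by group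
            _ = t * d⁻¹ := by rw [← h6]
        have h8 : (c * d * c⁻¹) * (c * d * c⁻¹) * (c * d * c⁻¹) = 1 := by
          calc (c * d * c⁻¹) * (c * d * c⁻¹) * (c * d * c⁻¹) = c * (d * d * d) * c⁻¹ := by group
            _ = 1 := by rw [pow3 hd]; group
        rw [h7] at h8
        have h9 : (t * d⁻¹) * (t * d⁻¹) * (t * d⁻¹) = (t * t) * t * (d⁻¹ * d⁻¹ * d⁻¹) := by
          calc (t * d⁻¹) * (t * d⁻¹) * (t * d⁻¹) = t * (d⁻¹ * t) * (d⁻¹ * t) * d⁻¹ := by group
            _ = t * (t * d⁻¹) * (t * d⁻¹) * d⁻¹ := by rw [K.htc d⁻¹]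
            _ = t * t * (d⁻¹ * t) * d⁻¹ * d⁻¹ := by group
            _ = t * t * (t * d⁻¹) * d⁻¹ * d⁻¹ := by rw [K.htc d⁻¹]
            _ = (t * t) * t * (d⁻¹ * d⁻¹ * d⁻¹) := by group
        rw [h9, K.tt, one_mul, inv3 hd, mul_inv_cancel, mul_one] at h8
        exact K.t_ne_one h8
    rw [hci]
    calc c * d * c = k * d⁻¹ := by rw [hk]; group
      _ = d⁻¹ := by rw [hk4, one_mul]

/-- `C(d)` is transitive on `F(d)` -/
theorem trans_F [Finite H] {d x y : H} (hd : orderOf d = 3) (hx : F P d x) (hy : F P d y) :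
    ∃ g, g * d = d * g ∧ g * x * g⁻¹ = y := by
  by_cases hn : x * y = y * x
  · rcases K.F_cases hd hx hy.1 hn.symm with h | h | h
    · exact ⟨1, by simp, by rw [h]; group⟩
    · exact ⟨d, rfl, h.symm⟩
    · exact ⟨d⁻¹, by simp, by rw [h]; group⟩
  · obtain ⟨c, hc, hcx⟩ := K.exists_swap hx.1 hy.1 hn
    have hi := K.inverts_of_swap hd hx hy hn hc hcx
    obtain ⟨s, hs1, hs2⟩ := K.exists_inv hd hx
    refine ⟨c * s, ?_, ?_⟩
    · rw [← conj_eq_iff]
      calc c * s * d * (c * s)⁻¹ = c * (s * d * s⁻¹) * c⁻¹ := by group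
        _ = (c * d * c⁻¹)⁻¹ := by rw [hs2]; group
        _ = d := by rw [hi.2, inv_inv]
    · calc c * s * x * (c * s)⁻¹ = c * (s * x * s⁻¹) * c⁻¹ := by group
        _ = y := by rw [conj_eq_iff.2 hs1, hcx]

/-- `C(d)` is transitive on the elements of `P` inverting `d` -/
theorem trans_I [Finite H] {d c c' : H} (hd : orderOf d = 3) (hc : Inverts P d c) (hc' : Inverts P d c') :
    ∃ g, g * d = d * g ∧ g * c * g⁻¹ = c' := by
  have h1 : (c * c') * d = d * (c * c') := by
    rw [← conj_eq_iff]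
    calc c * c' * d * (c * c')⁻¹ = c * (c' * d * c'⁻¹) * c⁻¹ := by group
      _ = (c * d * c⁻¹)⁻¹ := by rw [hc'.2]; group
      _ = d := by rw [hc.2, inv_inv]
  by_cases hne : c = c'
  · exact ⟨1, by simp, by rw [hne]; group⟩
  by_cases hcc : c * c' = c' * c
  · exact absurd h1.symm (K.not_comm_three (K.hmul c c' hc.1 hc'.1 hne hcc) hd)
  · obtain ⟨s, hs⟩ := exists_conj_of_odd (K.sq hc.1) (K.sq hc'.1) (K.odd_of_not_comm hc.1 hc'.1 hcc)
    refine ⟨_, ?_, hs⟩
    exact (Commute.zpow_left (show Commute (c * c') d from h1) s).eq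

theorem card_cent_F [Finite H] {d x : H} (hd : orderOf d = 3) (hx : F P d x) :
    Nat.card (centralizer ({d} : Set H)) = Nat.card {y // F P d y} * 2 := by
  have h := Order.card_orbit (centralizer ({d} : Set H)) x
  have h1 : Nat.card {y : H // ∃ c ∈ centralizer ({d} : Set H), c * x * c⁻¹ = y} = Nat.card {y // F P d y} := by
    refine Nat.card_congr (Equiv.subtypeEquivRight fun y => ?_)
    constructor
    · rintro ⟨c, hc, rfl⟩
      rw [mem_centralizer_singleton_iff] at hc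
      refine ⟨K.hPi x c hx.1, ?_⟩
      have h2 : d * (c * x * c⁻¹) * d⁻¹ = c * (d * x * d⁻¹) * c⁻¹ := by
        have h3 : c⁻¹ * d⁻¹ = d⁻¹ * c⁻¹ := by rw [← mul_inv_rev, ← mul_inv_rev, hc]
        calc d * (c * x * c⁻¹) * d⁻¹ = (d * c) * x * (c⁻¹ * d⁻¹) := by group
          _ = (c * d) * x * (d⁻¹ * c⁻¹) := by rw [hc, h3]
          _ = c * (d * x * d⁻¹) * c⁻¹ := by group
      rw [h2]
      exact (comm_conj c).2 hx.2
    · intro hy
      obtain ⟨g, hg, hgx⟩ := K.trans_F hd hx hy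
      exact ⟨g, mem_centralizer_singleton_iff.2 hg, hgx⟩
  have h2 : Nat.card (centralizer ({d} : Set H) ⊓ centralizer ({x} : Set H) : Subgroup H) = 2 := by
    have h3 : (centralizer ({d} : Set H) ⊓ centralizer ({x} : Set H) : Subgroup H) = zpowers t := by
      apply le_antisymm
      · intro k hk
        rw [mem_inf, mem_centralizer_singleton_iff, mem_centralizer_singleton_iff] at hk
        rcases K.cent_two hd hx hk.1 hk.2 with rfl | rfl
        · exact one_mem _
        · exact mem_zpowers _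
      · rw [zpowers_le, mem_inf, mem_centralizer_singleton_iff, mem_centralizer_singleton_iff]
        exact ⟨(K.htc d).symm, (K.htc x).symm⟩
    rw [h3, Nat.card_zpowers, K.ht]
  rw [h1, h2] at h
  exact h.symm

theorem card_cent_I [Finite H] {d c : H} (hd : orderOf d = 3) (hc : Inverts P d c) :
    ∃ m, Nat.card (centralizer ({d} : Set H)) = Nat.card {y // Inverts P d y} * (2 * m) := by
  have h := Order.card_orbit (centralizer ({d} : Set H)) c
  have h1 : Nat.card {y : H // ∃ g ∈ centralizer ({d} : Set H), g * c * g⁻¹ = y} =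
      Nat.card {y // Inverts P d y} := by
    refine Nat.card_congr (Equiv.subtypeEquivRight fun y => ?_)
    constructor
    · rintro ⟨g, hg, rfl⟩
      rw [mem_centralizer_singleton_iff] at hg
      refine ⟨K.hPi c g hc.1, ?_⟩
      have h3 : g⁻¹ * d * g = d := by
        calc g⁻¹ * d * g = g⁻¹ * (d * g) := by group
          _ = d := by rw [← hg]; group
      calc g * c * g⁻¹ * d * (g * c * g⁻¹)⁻¹ = g * (c * (g⁻¹ * d * g) * c⁻¹) * g⁻¹ := by group
        _ = (g * d * g⁻¹)⁻¹ := by rw [h3, hc.2]; group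
        _ = d⁻¹ := by rw [conj_eq_iff.2 hg]
    · intro hy
      obtain ⟨g, hg, hgx⟩ := K.trans_I hd hc hy
      exact ⟨g, mem_centralizer_singleton_iff.2 hg, hgx⟩
  have h2 : 2 ∣ Nat.card (centralizer ({d} : Set H) ⊓ centralizer ({c} : Set H) : Subgroup H) := by
    rw [← K.ht]
    apply Subgroup.orderOf_dvd_natCard
    rw [mem_inf, mem_centralizer_singleton_iff, mem_centralizer_singleton_iff]
    exact ⟨(K.htc d).symm, (K.htc c).symm⟩
  obtain ⟨m, hm⟩ := h2
  exact ⟨m, by rw [h1, hm] at h; exact h.symm⟩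

/-- `|F(d) ∖ V_x| = |I(d)|` -/
theorem card_F_sub [Finite H] {d x : H} (hd : orderOf d = 3) (hx : F P d x) :
    Nat.card {y // F P d y ∧ x * y ≠ y * x} = Nat.card {c // Inverts P d c} := by
  symm
  refine Nat.card_eq_of_bijective (fun c : {c // Inverts P d c} =>
    (⟨(c : H) * x * (c : H)⁻¹, K.inverts_F hx c.2, K.inverts_not_comm hd hx c.2⟩ :
      {y // F P d y ∧ x * y ≠ y * x})) ⟨?_, ?_⟩
  · rintro ⟨c, hc⟩ ⟨c', hc'⟩ h
    have h1 : c * x * c⁻¹ = c' * x * c'⁻¹ := congrArg Subtype.val h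
    exact Subtype.ext (K.swap_unique hx.1 (K.inverts_not_comm hd hx hc) hc.1 hc'.1 rfl h1.symm)
  · rintro ⟨y, hy, hn⟩
    obtain ⟨c, hc, hcx⟩ := K.exists_swap hx.1 hy.1 hn
    exact ⟨⟨c, K.inverts_of_swap hd hx hy hn hc hcx⟩, Subtype.ext hcx⟩

theorem card_F_add [Finite H] {d x : H} (hx : F P d x) :
    Nat.card {y // F P d y} = 3 + Nat.card {y // F P d y ∧ x * y ≠ y * x} := by
  have h1 : ({y | F P d y} : Set H) = {y | P y ∧ y * x = x * y} ∪ {y | F P d y ∧ x * y ≠ y * x} := by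
    ext y
    constructor
    · intro hy
      by_cases h : y * x = x * y
      · exact Or.inl ⟨hy.1, h⟩
      · exact Or.inr ⟨hy, fun h' => h h'.symm⟩
    · rintro (⟨hy, h⟩ | ⟨hy, _⟩)
      · exact K.F_of_comm hx hy h.symm
      · exact hy
  have h2 : Disjoint ({y | P y ∧ y * x = x * y} : Set H) {y | F P d y ∧ x * y ≠ y * x} := by
    rw [Set.disjoint_left]
    rintro y ⟨_, h⟩ ⟨_, h'⟩
    exact h' h.symm
  have h3 := Set.ncard_union_eq h2 (Set.toFinite _) (Set.toFinite _)
  rw [← h1] at h3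
  have h4 : ({y | P y ∧ y * x = x * y} : Set H).ncard = 3 := K.h3 x hx.1
  rw [h4] at h3
  exact h3

/-- the main numerical information -/
theorem numbers [Finite H] {d x y : H} (hd : orderOf d = 3) (hx : F P d x) (hy : F P d y)
    (hn : x * y ≠ y * x) :
    Nat.card {y // F P d y} = 6 ∧ Nat.card (centralizer ({d} : Set H)) = 12 := by
  obtain ⟨c, hc, hcx⟩ := K.exists_swap hx.1 hy.1 hn
  have hi := K.inverts_of_swap hd hx hy hn hc hcx
  have h1 := K.card_cent_F hd hx
  obtain ⟨m, h2⟩ := K.card_cent_I hd hi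
  have h3 := K.card_F_sub hd hx
  have h4 := K.card_F_add hx
  have h5 : 0 < Nat.card {c // Inverts P d c} := by
    have : Nonempty {c // Inverts P d c} := ⟨⟨c, hi⟩⟩
    exact Nat.card_pos
  have h6 : 3 ∣ Nat.card (centralizer ({d} : Set H)) := by
    rw [← hd]
    exact Subgroup.orderOf_dvd_natCard _ (mem_centralizer_singleton_iff.2 rfl)
  rw [h3] at h4
  generalize Nat.card {c // Inverts P d c} = i at *
  generalize Nat.card {y // F P d y} = f at *
  generalize Nat.card (centralizer ({d} : Set H)) = n at *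
  have h7 : i * m = i + 3 := by
    have : 2 * (i * m) = 2 * (i + 3) := by
      calc 2 * (i * m) = i * (2 * m) := by ring
        _ = 2 * (i + 3) := by rw [← h2, h1, h4]; ring
    omega
  have h8 : i ∣ 3 := (Nat.dvd_add_right (dvd_refl i)).1 (h7 ▸ Dvd.intro m rfl)
  have h9 : i ≤ 3 := Nat.le_of_dvd (by norm_num) h8
  interval_cases i
  · omega
  · exfalso; omega
  · omega

/-- non-commuting elements of `P` lie in a common `F(d)` -/
theorem exists_three [Finite H] {x y : H} (hx : P x) (hy : P y) (hn : x * y ≠ y * x) :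
    ∃ d, orderOf d = 3 ∧ F P d x ∧ F P d y := by
  obtain ⟨y', hy', hyy, hyc⟩ := K.exists_ne hy
  have hn' : x * y' ≠ y' * x := fun h => hn (K.trans hx hy' hy h hyc.symm)
  obtain ⟨c1, hc1, h1⟩ := K.exists_swap hx hy hn
  obtain ⟨c2, hc2, h2⟩ := K.exists_swap hx hy' hn'
  have hcc1 := K.sq hc1
  have hci1 := K.inv hc1
  have hci2 := K.inv hc2
  have h1' : c1 * y * c1⁻¹ = x := by
    rw [← h1]
    calc c1 * (c1 * x * c1⁻¹) * c1⁻¹ = (c1 * c1) * x * (c1 * c1)⁻¹ := by group
      _ = x := by rw [hcc1]; group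
  set w := c1 * c2 with hw
  have hwx : w * x * w⁻¹ = c1 * y' * c1⁻¹ := by
    rw [← h2, hw]; group
  set x' := w * x * w⁻¹ with hx'
  have hx'P : P x' := K.hPi x w hx
  have hx'x : x' * x = x * x' := by
    have := (comm_conj c1).2 hyc
    rw [h1', ← hwx] at this
    exact this.symm
  have hx'ne : x ≠ x' := by
    intro h
    apply hyy
    have : c1 * y * c1⁻¹ = c1 * y' * c1⁻¹ := by rw [h1', ← hwx, ← h]
    exact mul_left_cancel (mul_right_cancel this)
  have hcne : c1 ≠ c2 := by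
    intro h; apply hyy; rw [← h1, ← h2, h]
  have hcc : c1 * c2 ≠ c2 * c1 := by
    intro h
    have hwP := K.hmul c1 c2 hc1 hc2 hcne h
    have := K.comm_of_norm hx hwP hx'x
    exact hx'ne (conj_eq_iff.2 this).symm
  have hwo : Odd (orderOf w) := K.odd_of_not_comm hc1 hc2 hcc
  -- the third element
  set x'' := w * x' * w⁻¹ with hx''
  have hx''P : P x'' := K.hPi x' w hx'P
  have hx''x' : x'' * x' = x' * x'' := (comm_conj w).2 hx'x
  have hx''x : x'' * x = x * x'' := K.trans hx''P hx'P hx hx''x' hx'x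
  have hw2 : (w * w) * x * (w * w)⁻¹ = x'' := by rw [hx'', hx']; group
  have hx''v : x'' = x * x' := by
    rcases K.cases hx hx'P hx'ne hx'x.symm hx''P hx''x with h | h | h
    · exfalso
      rw [h] at hw2
      have h3 := K.eq_one_of_odd hx (conj_eq_iff.1 hw2) (by
        rw [← pow_two]
        exact Odd.of_dvd_nat hwo (orderOf_pow_dvd 2))
      have h4 : orderOf w ∣ 2 := orderOf_dvd_of_pow_eq_one (by rw [pow_two, h3])
      rcases (Nat.dvd_prime Nat.prime_two).1 h4 with h5 | h5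
      · rw [orderOf_eq_one_iff] at h5
        apply hx'ne
        rw [hx', h5]; group
      · rw [h5] at hwo
        exact absurd hwo (by decide)
    · exfalso
      apply hx'ne
      have : w * x' * w⁻¹ = w * x * w⁻¹ := by rw [← hx'', h]
      exact (mul_left_cancel (mul_right_cancel this)).symm
    · exact h
  have hw3 : (w * w * w) * x * (w * w * w)⁻¹ = x := by
    calc (w * w * w) * x * (w * w * w)⁻¹ = w * ((w * w) * x * (w * w)⁻¹) * w⁻¹ := by group
      _ = w * (x * x') * w⁻¹ := by rw [hw2, hx''v]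
      _ = (w * x * w⁻¹) * (w * x' * w⁻¹) := by group
      _ = x' * (x * x') := by rw [← hx', ← hx'', hx''v]
      _ = x := by rw [← mul_assoc, hx'x, mul_assoc, K.sq hx'P, mul_one]
  have hw3' : w * w * w = 1 := by
    refine K.eq_one_of_odd hx (conj_eq_iff.1 hw3) ?_
    have : w * w * w = w ^ 3 := by rw [pow_succ, pow_two]
    rw [this]
    exact Odd.of_dvd_nat hwo (orderOf_pow_dvd 3)
  have hw1 : w ≠ 1 := by
    intro h
    apply hx'ne
    rw [hx', h]; group
  have ho : orderOf w = 3 := by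
    have : Fact (Nat.Prime 3) := ⟨Nat.prime_three⟩
    exact orderOf_eq_prime (by rw [pow_succ, pow_two]; exact hw3') hw1
  refine ⟨w, ho, ⟨hx, hx'x⟩, hy, ?_⟩
  have h3 : w * y * w⁻¹ = c1 * (w⁻¹ * x * w) * c1⁻¹ := by
    have h4 : w⁻¹ = c2 * c1 := by rw [hw, mul_inv_rev, hci1, hci2]
    have h5 : c1 * w⁻¹ * c1⁻¹ = w := by
      rw [h4, hci1]
      calc c1 * (c2 * c1) * c1 = c1 * c2 * (c1 * c1) := by group
        _ = w := by rw [hcc1, mul_one]
    have h6 : c1 * w * c1⁻¹ = w⁻¹ := by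
      calc c1 * w * c1⁻¹ = (c1 * w⁻¹ * c1⁻¹)⁻¹ := by group
        _ = w⁻¹ := by rw [h5]
    calc w * y * w⁻¹ = (c1 * w⁻¹ * c1⁻¹) * (c1 * x * c1⁻¹) * (c1 * w * c1⁻¹) := by rw [h5, h6, h1]
      _ = c1 * (w⁻¹ * x * w) * c1⁻¹ := by group
  rw [h3]
  have h4 : (w⁻¹ * x * w) * x = x * (w⁻¹ * x * w) := comm2 (d := w) ⟨hx, hx'x⟩
  have h5 := (comm_conj c1).2 h4
  rw [h1] at h5
  exact h5

/-- ... and `d` is unique up to inversion -/
theorem three_unique [Finite H] {x y d e : H} (hd : orderOf d = 3) (he : orderOf e = 3) (hdx : F P d x)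
    (hdy : F P d y) (hex : F P e x) (hey : F P e y) (hn : x * y ≠ y * x) : e = d ∨ e = d⁻¹ := by
  obtain ⟨c, hc, hcx⟩ := K.exists_swap hdx.1 hdy.1 hn
  -- `f⁻¹ c` is in `P` and takes `x` to `f⁻¹ y f`
  have key : ∀ f : H, orderOf f = 3 → F P f x → F P f y → P (f⁻¹ * c) ∧
      (f⁻¹ * c) * x * (f⁻¹ * c)⁻¹ = f⁻¹ * y * f := by
    intro f hf hfx hfy
    have hi := K.inverts_of_swap hf hfx hfy hn hc hcx
    obtain ⟨h1, h2⟩ := inverts_conj (K.sq hc) hi.2
    refine ⟨?_, ?_⟩
    · have h3 : f⁻¹ * c = f * c * f⁻¹ := by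
        calc f⁻¹ * c = (f * f) * c := by rw [sq3 hf]
          _ = f * (f * c) := by group
          _ = f * (c * f⁻¹) := by rw [h1]
          _ = f * c * f⁻¹ := by group
      rw [h3]
      exact K.hPi c f hc
    · rw [← hcx]; group
  obtain ⟨h1, h2⟩ := key d hd hdx hdy
  obtain ⟨h3, h4⟩ := key e he hex hey
  obtain ⟨h5, h6⟩ := key d⁻¹ (by rw [orderOf_inv, hd]) (F_inv hdx) (F_inv hdy)
  have h7 : P (e⁻¹ * y * e) := K.P_conj' hey.1
  have h8 := comm2 hey
  have h9 : ∀ y', P y' → y' * y = y * y' → x * y' ≠ y' * x := fun y' hy' h h' =>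
    hn (K.trans hdx.1 hy' hdy.1 h' h)
  rcases K.F_cases hd hdy h7 h8 with h | h | h
  · exfalso
    apply K.conj_ne he hey.1
    have h10 := c3b e y
    rw [h] at h10
    exact h10
  · right
    rw [inv_inv] at h5 h6
    rw [h] at h4
    have h10 := K.swap_unique hdx.1 (h9 _ (K.hPi y d hdy.1) hdy.2) h3 h5 h4 h6
    rw [← mul_right_cancel h10, inv_inv]
  · left
    rw [h] at h4
    have h10 := K.swap_unique hdx.1 (h9 _ (K.P_conj' hdy.1) (comm2 hdy)) h3 h1 h4 h2
    exact inv_injective (mul_right_cancel h10)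

theorem card_three_xy [Finite H] {x y : H} (hx : P x) (hy : P y) (hn : x * y ≠ y * x) :
    Nat.card {d // orderOf d = 3 ∧ F P d x ∧ F P d y} = 2 := by
  obtain ⟨d, hd, hdx, hdy⟩ := K.exists_three hx hy hn
  have h1 : ({d | orderOf d = 3 ∧ F P d x ∧ F P d y} : Set H) = {d, d⁻¹} := by
    ext e
    constructor
    · rintro ⟨he, hex, hey⟩
      rcases K.three_unique hd he hdx hdy hex hey hn with h | h
      · exact Or.inl h
      · exact Or.inr h
    · rintro (rfl | rfl)
      · exact ⟨hd, hdx, hdy⟩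
      · exact ⟨by rw [orderOf_inv, hd], F_inv hdx, F_inv hdy⟩
  have h2 : d ≠ d⁻¹ := by
    intro h
    have h3 : orderOf d ∣ 2 := orderOf_dvd_of_pow_eq_one (by
      rw [pow_two]
      calc d * d = d * d⁻¹ := by rw [← h]
        _ = 1 := by group)
    rw [hd] at h3
    omega
  have h3 : ({d | orderOf d = 3 ∧ F P d x ∧ F P d y} : Set H).ncard = 2 := by
    rw [h1, Set.ncard_pair h2]
  exact h3

/-- all elements of order three are conjugate -/
theorem conj_three [Finite H] {x y : H} (hx : P x) (hy : P y) (hn : x * y ≠ y * x) :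
    ∃ d, orderOf d = 3 ∧ Nat.card {y // F P d y} = 6 ∧ Nat.card (centralizer ({d} : Set H)) = 12 ∧
      ∀ e, orderOf e = 3 → IsConj d e := by
  obtain ⟨d, hd, hdx, hdy⟩ := K.exists_three hx hy hn
  obtain ⟨h6, h12⟩ := K.numbers hd hdx hdy hn
  refine ⟨d, hd, h6, h12, ?_⟩
  have : Fact (Nat.Prime 3) := ⟨Nat.prime_three⟩
  -- 9 does not divide `|H|`
  have h9 : ¬ 3 ^ (1 + 1) ∣ Nat.card H := by
    intro h
    obtain ⟨L, hL, hdL⟩ := Sylow.exists_subgroup_card_pow_succ (p := 3) (n := 1) h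
      (H := zpowers d) (by rw [Nat.card_zpowers, hd, pow_one])
    have hcomm : ∀ a b : L, a * b = b * a := by
      have h1 : Nat.card L = 3 ^ 2 := hL
      have h2 := IsPGroup.isMulCommutative_of_card_eq_prime_sq h1
      exact fun a b => h2.is_comm.comm a b
    have h1 : L ≤ centralizer ({d} : Set H) := by
      intro g hg
      rw [mem_centralizer_singleton_iff]
      exact congrArg Subtype.val (hcomm ⟨g, hg⟩ ⟨d, hdL (mem_zpowers d)⟩)
    have h2 := Subgroup.card_dvd_of_le h1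
    rw [hL, h12] at h2
    omega
  have h3 : 3 ∣ Nat.card H := by rw [← hd]; exact orderOf_dvd_natCard d
  have hfac : (Nat.card H).factorization 3 = 1 := by
    have h1 : 1 ≤ (Nat.card H).factorization 3 := by
      rw [← Nat.Prime.dvd_iff_one_le_factorization Nat.prime_three Nat.card_pos.ne']
      exact h3
    have h2 : ¬ 2 ≤ (Nat.card H).factorization 3 := by
      intro h
      exact h9 ((Nat.Prime.pow_dvd_iff_le_factorization Nat.prime_three Nat.card_pos.ne').2 h)
    omega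
  intro e he
  let Sd : Sylow 3 H := Sylow.ofCard (zpowers d) (by rw [Nat.card_zpowers, hd, hfac, pow_one])
  let Se : Sylow 3 H := Sylow.ofCard (zpowers e) (by rw [Nat.card_zpowers, he, hfac, pow_one])
  obtain ⟨g, hg⟩ := MulAction.exists_smul_eq H Sd Se
  have hge : g * d * g⁻¹ ∈ zpowers e := by
    have h1 : g * d * g⁻¹ ∈ ((g • Sd : Sylow 3 H) : Subgroup H) := by
      rw [Sylow.coe_subgroup_smul]
      exact ⟨d, mem_zpowers d, rfl⟩
    rw [hg] at h1
    exact h1
  have hdc : g * d * g⁻¹ = e ∨ g * d * g⁻¹ = e⁻¹ := by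
    refine mem_zpowers_three he ?_ hge
    intro hk
    have : d = 1 := by
      calc d = g⁻¹ * (g * d * g⁻¹) * g := by group
        _ = 1 := by rw [hk]; group
    rw [this, orderOf_one] at hd
    omega
  rcases hdc with h | h
  · exact isConj_iff.2 ⟨g, h⟩
  · obtain ⟨c, hc, hcx⟩ := K.exists_swap hdx.1 hdy.1 hn
    have hi := K.inverts_of_swap hd hdx hdy hn hc hcx
    refine isConj_iff.2 ⟨g * c, ?_⟩
    calc g * c * d * (g * c)⁻¹ = g * (c * d * c⁻¹) * g⁻¹ := by group
      _ = (g * d * g⁻¹)⁻¹ := by rw [hi.2]; group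
      _ = e := by rw [h, inv_inv]

theorem F_conj_iff {d x : H} (g : H) : F P (g * d * g⁻¹) (g * x * g⁻¹) ↔ F P d x := by
  have h1 : (g * d * g⁻¹) * (g * x * g⁻¹) * (g * d * g⁻¹)⁻¹ = g * (d * x * d⁻¹) * g⁻¹ := by group
  have h2 : P (g * x * g⁻¹) ↔ P x := by
    constructor
    · intro h
      have := K.hPi _ g⁻¹ h
      have h3 : g⁻¹ * (g * x * g⁻¹) * g⁻¹⁻¹ = x := by group
      rwa [h3] at this
    · exact K.hPi x g
  unfold F
  rw [h1, h2, comm_conj]

theorem card_F_eq [Finite H] {d e : H} (h : IsConj d e) :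
    Nat.card {y // F P d y} = Nat.card {y // F P e y} := by
  obtain ⟨g, rfl⟩ := isConj_iff.1 h
  exact Nat.card_congr ((MulAut.conj g).toEquiv.subtypeEquiv (fun x => by
    change F P d x ↔ F P (g * d * g⁻¹) (g * x * g⁻¹)
    exact (K.F_conj_iff g).symm))

theorem card_not_comm [Finite H] {x : H} (hx : P x) :
    Nat.card {y // P y ∧ x * y ≠ y * x} = Nat.card {y // P y} - 3 := by
  have h1 : ({y | P y} : Set H) = {y | P y ∧ y * x = x * y} ∪ {y | P y ∧ x * y ≠ y * x} := by
    ext y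
    constructor
    · intro hy
      by_cases h : y * x = x * y
      · exact Or.inl ⟨hy, h⟩
      · exact Or.inr ⟨hy, fun h' => h h'.symm⟩
    · rintro (⟨hy, h⟩ | ⟨hy, _⟩)
      · exact hy
      · exact hy
  have h2 : Disjoint ({y | P y ∧ y * x = x * y} : Set H) {y | P y ∧ x * y ≠ y * x} := by
    rw [Set.disjoint_left]
    rintro y ⟨_, h⟩ ⟨_, h'⟩
    exact h' h.symm
  have h3 := Set.ncard_union_eq h2 (Set.toFinite _) (Set.toFinite _)
  rw [← h1] at h3
  have h4 : ({y | P y ∧ y * x = x * y} : Set H).ncard = 3 := K.h3 x hx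
  have h5 : Nat.card {y // P y} = 3 + Nat.card {y // P y ∧ x * y ≠ y * x} := by
    rw [h4] at h3
    exact h3
  omega

theorem card_H [Finite H] : Nat.card H = Nat.card {y // P y} * 16 := by
  obtain ⟨x, hx⟩ := K.hne
  have h := Cfsg.Agent.Involutions.PairCount.card_class_mul_card_centralizer x
  rw [K.h16 x hx] at h
  have h1 : Nat.card {u : H // IsConj x u} = Nat.card {y // P y} := by
    refine Nat.card_congr (Equiv.subtypeEquivRight fun y => ?_)
    constructor
    · intro h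
      obtain ⟨g, rfl⟩ := isConj_iff.1 h
      exact K.hPi x g hx
    · exact K.hPc x y hx
  rw [h1] at h
  exact h.symm

/-- Lemma K, second case -/
theorem fifteen [Finite H] {x y : H} (hx : P x) (hy : P y) (hn : x * y ≠ y * x) :
    Nat.card {y // P y} = 15 ∧ ∀ e, orderOf e = 3 →
      Nat.card {y // F P e y} = 6 ∧ Nat.card (centralizer ({e} : Set H)) = 12 := by
  obtain ⟨d, hd, h6, h12, hconj⟩ := K.conj_three hx hy hn
  have hF6 : ∀ e, orderOf e = 3 → Nat.card {y // F P e y} = 6 := fun e he => by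
    rw [← h6]; exact (K.card_F_eq (hconj e he)).symm
  have hN : Nat.card {e : H // orderOf e = 3} * 12 = Nat.card {y // P y} * 16 := by
    rw [← K.card_H, ← h12, ← Cfsg.Agent.Involutions.PairCount.card_class_mul_card_centralizer d]
    congr 1
    refine Nat.card_congr (Equiv.subtypeEquivRight fun e => ?_)
    exact ⟨hconj e, fun h => (Order.orderOf_of_isConj h).trans hd⟩
  -- double counting
  let A := Σ p : {p : H × H // P p.1 ∧ P p.2 ∧ p.1 * p.2 ≠ p.2 * p.1},
    {d : H // orderOf d = 3 ∧ F P d p.1.1 ∧ F P d p.1.2}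
  let B := Σ d : {d : H // orderOf d = 3}, {p : H × H // F P d p.1 ∧ F P d p.2 ∧ p.1 * p.2 ≠ p.2 * p.1}
  let e : A ≃ B :=
    { toFun := fun a => ⟨⟨a.2.1, a.2.2.1⟩, ⟨a.1.1, a.2.2.2.1, a.2.2.2.2, a.1.2.2.2⟩⟩
      invFun := fun b => ⟨⟨b.2.1, b.2.2.1.1, b.2.2.2.1.1, b.2.2.2.2⟩, ⟨b.1.1, b.1.2, b.2.2.1, b.2.2.2.1⟩⟩
      left_inv := fun a => rfl
      right_inv := fun b => rfl }
  have hA : Nat.card A = Nat.card {y // P y} * (Nat.card {y // P y} - 3) * 2 := by
    have h1 : Nat.card A = Nat.card {p : H × H // P p.1 ∧ P p.2 ∧ p.1 * p.2 ≠ p.2 * p.1} * 2 :=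
      Order.card_sigma_const 2 (fun p => K.card_three_xy p.2.1 p.2.2.1 p.2.2.2)
    let e1 : {p : H × H // P p.1 ∧ P p.2 ∧ p.1 * p.2 ≠ p.2 * p.1} ≃
        Σ x : {x // P x}, {y // P y ∧ (x : H) * y ≠ y * x} :=
      { toFun := fun a => ⟨⟨a.1.1, a.2.1⟩, ⟨a.1.2, a.2.2⟩⟩
        invFun := fun b => ⟨(b.1.1, b.2.1), b.1.2, b.2.2⟩
        left_inv := fun a => rfl
        right_inv := fun b => rfl }
    rw [h1, Nat.card_congr e1, Order.card_sigma_const _ (fun x => K.card_not_comm x.2)]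
  have hB : Nat.card B = Nat.card {e : H // orderOf e = 3} * 18 := by
    refine Order.card_sigma_const 18 (fun d => ?_)
    let e1 : {p : H × H // F P d p.1 ∧ F P d p.2 ∧ p.1 * p.2 ≠ p.2 * p.1} ≃
        Σ x : {x // F P (d : H) x}, {y // F P (d : H) y ∧ (x : H) * y ≠ y * x} :=
      { toFun := fun a => ⟨⟨a.1.1, a.2.1⟩, ⟨a.1.2, a.2.2⟩⟩
        invFun := fun b => ⟨(b.1.1, b.2.1), b.1.2, b.2.2⟩
        left_inv := fun a => rfl
        right_inv := fun b => rfl }
    rw [Nat.card_congr e1, Order.card_sigma_const 3, hF6 d d.2]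
    intro x
    have h1 := K.card_F_add x.2
    rw [hF6 d d.2] at h1
    omega
  have hAB : Nat.card A = Nat.card B := Nat.card_congr e
  rw [hA, hB] at hAB
  have hpos : 0 < Nat.card {y // P y} := by
    have : Nonempty {y // P y} := ⟨⟨x, hx⟩⟩
    exact Nat.card_pos
  have h15 : Nat.card {y // P y} = 15 := by
    generalize Nat.card {y // P y} = n at *
    generalize Nat.card {e : H // orderOf e = 3} = N at *
    have h1 : n * ((n - 3) * 24) = n * 288 := by
      calc n * ((n - 3) * 24) = 12 * (n * (n - 3) * 2) := by ring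
        _ = 18 * (N * 12) := by rw [hAB]; ring
        _ = n * 288 := by rw [hN]; ring
    have h2 := Nat.eq_of_mul_eq_mul_left hpos h1
    omega
  refine ⟨h15, fun e he => ⟨hF6 e he, ?_⟩⟩
  have h1 := Cfsg.Agent.Involutions.PairCount.card_class_mul_card_centralizer e
  have h2 := Cfsg.Agent.Involutions.PairCount.card_class_mul_card_centralizer d
  have h3 : Nat.card {u : H // IsConj e u} = Nat.card {u : H // IsConj d u} := by
    refine Nat.card_congr (Equiv.subtypeEquivRight fun y => ?_)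
    exact ⟨fun h => (hconj e he).trans h, fun h => (hconj e he).symm.trans h⟩
  rw [h3, ← h2, h12] at h1
  have h4 : 0 < Nat.card {u : H // IsConj d u} := by
    have : Nonempty {u : H // IsConj d u} := ⟨⟨d, IsConj.refl d⟩⟩
    exact Nat.card_pos
  exact Nat.eq_of_mul_eq_mul_left h4 h1

/-- Lemma K -/
theorem three_or_fifteen [Finite H] : Nat.card {y // P y} = 3 ∨
    (Nat.card {y // P y} = 15 ∧ Nat.card H = 240 ∧ ∀ e : H, orderOf e = 3 →
      Nat.card {y // F P e y} = 6 ∧ Nat.card (centralizer ({e} : Set H)) = 12) := by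
  by_cases h : ∃ x y, P x ∧ P y ∧ x * y ≠ y * x
  · right
    obtain ⟨x, y, hx, hy, hn⟩ := h
    obtain ⟨h1, h2⟩ := K.fifteen hx hy hn
    exact ⟨h1, by rw [K.card_H, h1], h2⟩
  · left
    push Not at h
    obtain ⟨x, hx⟩ := K.hne
    rw [← K.h3 x hx]
    refine Nat.card_congr (Equiv.subtypeEquivRight fun y => ?_)
    exact ⟨fun hy => ⟨hy, h y x hy hx⟩, fun hy => hy.1⟩

/-- the pairs whose product has odd order -/
theorem odd_pairs [Finite H] : Nat.card {p : H × H // P p.1 ∧ P p.2 ∧ Odd (orderOf (p.1 * p.2))} =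
    Nat.card {y // P y} * (Nat.card {y // P y} - 2) := by
  let e1 : {p : H × H // P p.1 ∧ P p.2 ∧ Odd (orderOf (p.1 * p.2))} ≃
      Σ x : {x // P x}, {y // P y ∧ Odd (orderOf ((x : H) * y))} :=
    { toFun := fun a => ⟨⟨a.1.1, a.2.1⟩, ⟨a.1.2, a.2.2⟩⟩
      invFun := fun b => ⟨(b.1.1, b.2.1), b.1.2, b.2.2⟩
      left_inv := fun a => rfl
      right_inv := fun b => rfl }
  rw [Nat.card_congr e1]
  refine Order.card_sigma_const _ ?_
  rintro ⟨x, hx⟩
  change Nat.card {y // P y ∧ Odd (orderOf (x * y))} = _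
  have h1 : ({y | P y ∧ Odd (orderOf (x * y))} : Set H) = insert x {y | P y ∧ x * y ≠ y * x} := by
    ext y
    constructor
    · rintro ⟨hy, ho⟩
      by_cases hxy : y = x
      · exact Or.inl hxy
      · right
        refine ⟨hy, fun hc => ?_⟩
        have := K.hmul x y hx hy (Ne.symm hxy) hc
        rw [K.hP2 _ this] at ho
        exact absurd ho (by decide)
    · rintro (rfl | ⟨hy, hn⟩)
      · refine ⟨hx, ?_⟩
        rw [K.sq hx, orderOf_one]
        decide
      · exact ⟨hy, K.odd_of_not_comm hx hy hn⟩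
  have h2 : ({y | P y ∧ Odd (orderOf (x * y))} : Set H).ncard =
      ({y | P y ∧ x * y ≠ y * x} : Set H).ncard + 1 := by
    rw [h1, Set.ncard_insert_of_notMem _ (Set.toFinite _)]
    rintro ⟨_, h⟩
    exact h rfl
  have h3 : ({y | P y ∧ x * y ≠ y * x} : Set H).ncard = Nat.card {y // P y} - 3 := K.card_not_comm hx
  have h4 : 3 ≤ Nat.card {y // P y} := by
    rw [← K.h3 x hx]
    refine Nat.card_le_card_of_injective (fun y : {y // P y ∧ y * x = x * y} => (⟨y.1, y.2.1⟩ : {y // P y})) ?_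
    rintro ⟨a, ha⟩ ⟨b, hb⟩ h
    exact Subtype.ext (congrArg (fun y : {y // P y} => (y : H)) h)
  change ({y | P y ∧ Odd (orderOf (x * y))} : Set H).ncard = _
  rw [h2, h3]
  omega

/-- no subgroup of order dividing 60 containing `t` is transitive on `P` -/
theorem no_trans [Finite H] (h15 : Nat.card {y // P y} = 15) (B : Subgroup H) (htB : t ∈ B) (z : H) (hz : P z)
    (htr : ∀ y, P y → ∃ b ∈ B, b * z * b⁻¹ = y) (hB : Nat.card B ∣ 60) : False := by
  have h3 : ∀ e : H, orderOf e = 3 →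
      Nat.card {y // F P e y} = 6 ∧ Nat.card (centralizer ({e} : Set H)) = 12 := by
    rcases K.three_or_fifteen with h | ⟨_, _, h⟩
    · omega
    · exact h
  -- `30 ∣ |B|`
  have hdvd : 30 ∣ Nat.card B := by
    have h1 : 15 ∣ Nat.card B := by
      rw [← Order.card_orbit B z, ← h15]
      have : Nat.card {y : H // ∃ c ∈ B, c * z * c⁻¹ = y} = Nat.card {y // P y} := by
        refine Nat.card_congr (Equiv.subtypeEquivRight fun y => ?_)
        constructor
        · rintro ⟨c, _, rfl⟩; exact K.hPi z c hz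
        · exact htr y
      rw [this]
      exact Dvd.intro _ rfl
    have h2 : 2 ∣ Nat.card B := by
      rw [← K.ht]; exact Subgroup.orderOf_dvd_natCard B htB
    exact Nat.Coprime.mul_dvd_of_dvd_of_dvd (by norm_num : Nat.Coprime 15 2) h1 h2
  obtain ⟨Q, hQ, hQn⟩ := exists_normal_small hdvd hB (⟨t, htB⟩ : B) (by rw [Subgroup.orderOf_mk]; exact K.ht)
    (fun h => Subtype.ext (K.htc h))
  have : Fact (Nat.Prime 3) := ⟨Nat.prime_three⟩
  have : Fact (Nat.Prime 5) := ⟨Nat.prime_five⟩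
  rcases hQ with hQ | hQ
  · -- normal subgroup of order 3
    obtain ⟨d, hd⟩ := exists_prime_orderOf_dvd_card' (G := Q) 3 (by rw [hQ])
    have hdH : orderOf (d : H) = 3 := by rw [Subgroup.orderOf_coe, Subgroup.orderOf_coe, hd]
    have hzp : zpowers (d : B) = Q := by
      apply Subgroup.eq_of_le_of_card_ge
      · rw [zpowers_le]; exact d.2
      · rw [Nat.card_zpowers, Subgroup.orderOf_coe, hd, hQ]
    have hinv : ∀ b ∈ B, ∀ x, F P (d : H) x → F P (d : H) (b * x * b⁻¹) := by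
      intro b hb x hx
      have h1 : (⟨b, hb⟩ : B) * (d : B) * (⟨b, hb⟩ : B)⁻¹ ∈ zpowers (d : B) := by
        rw [hzp]; exact hQn.conj_mem _ d.2 _
      have h2 : (⟨b, hb⟩ : B) * (d : B) * (⟨b, hb⟩ : B)⁻¹ ≠ 1 := by
        intro h
        have h4 : (d : B) = 1 := by
          calc (d : B) = (⟨b, hb⟩ : B)⁻¹ * ((⟨b, hb⟩ : B) * (d : B) * (⟨b, hb⟩ : B)⁻¹) * (⟨b, hb⟩ : B) := by
                group
            _ = 1 := by rw [h]; group
        rw [h4, OneMemClass.coe_one, orderOf_one] at hdH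
        omega
      have h4 := (K.F_conj_iff (d := (d : H)) (x := x) b).2 hx
      rcases mem_zpowers_three (by rw [Subgroup.orderOf_coe, hd]) h2 h1 with h | h
      · have h5 : b * (d : H) * b⁻¹ = d := congrArg Subtype.val h
        rwa [h5] at h4
      · have h5 : b * (d : H) * b⁻¹ = (d : H)⁻¹ := congrArg Subtype.val h
        rw [h5] at h4
        have := F_inv h4
        rwa [inv_inv] at this
    have hz' : ∃ x, F P (d : H) x := by
      have h4 : 0 < Nat.card {y // F P (d : H) y} := by rw [(h3 _ hdH).1]; norm_num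
      obtain ⟨⟨x, hx⟩⟩ := (Nat.card_pos_iff.1 h4).1
      exact ⟨x, hx⟩
    obtain ⟨x, hx⟩ := hz'
    have hzF : F P (d : H) z := by
      obtain ⟨b, hb, hbx⟩ := htr x hx.1
      have h4 := hinv b⁻¹ (B.inv_mem hb) x hx
      have h5 : b⁻¹ * x * b⁻¹⁻¹ = z := by rw [← hbx]; group
      rwa [h5] at h4
    have hall : Nat.card {y // F P (d : H) y} = Nat.card {y // P y} := by
      refine Nat.card_congr (Equiv.subtypeEquivRight fun y => ?_)
      refine ⟨fun h => h.1, fun h => ?_⟩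
      obtain ⟨b, hb, rfl⟩ := htr y h
      exact hinv b hb z hzF
    rw [h15, (h3 _ hdH).1] at hall
    omega
  · -- normal subgroup of order 5
    obtain ⟨f, hf⟩ := exists_prime_orderOf_dvd_card' (G := Q) 5 (by rw [hQ])
    obtain ⟨d, hd⟩ := exists_prime_orderOf_dvd_card' (G := B) 3 (dvd_trans (by norm_num) hdvd)
    have hdH : orderOf (d : H) = 3 := by rw [Subgroup.orderOf_coe, hd]
    have hzp : zpowers (f : B) = Q := by
      apply Subgroup.eq_of_le_of_card_ge
      · rw [zpowers_le]; exact f.2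
      · rw [Nat.card_zpowers, Subgroup.orderOf_coe, hf, hQ]
    have h1 : d * (f : B) * d⁻¹ ∈ zpowers (f : B) := by
      rw [hzp]; exact hQn.conj_mem _ f.2 _
    obtain ⟨k, hk⟩ := mem_zpowers_iff.1 h1
    have hpow : ∀ m : ℤ, d * (f : B) ^ m * d⁻¹ = (f : B) ^ (k * m) := by
      intro m
      rw [← conj_zpow, ← hk, ← zpow_mul]
    have h2 : (f : B) ^ (k * (k * k)) = f := by
      calc (f : B) ^ (k * (k * k)) = d * (d * (d * (f : B) * d⁻¹) * d⁻¹) * d⁻¹ := by
            rw [← hk, hpow, hpow]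
        _ = (d * d * d) * f * (d * d * d)⁻¹ := by group
        _ = f := by rw [pow3 hd]; group
    have hf5 : orderOf (f : B) = 5 := by rw [Subgroup.orderOf_coe, hf]
    have h4 : (f : B) ^ (k * (k * k) - 1) = 1 := by rw [zpow_sub_one, h2, mul_inv_cancel]
    have h5 : (5 : ℤ) ∣ k * (k * k) - 1 := by
      have := orderOf_dvd_iff_zpow_eq_one.2 h4
      rwa [hf5] at this
    have h6 : (5 : ℤ) ∣ k - 1 := by
      have h7 : k % 5 = 0 ∨ k % 5 = 1 ∨ k % 5 = 2 ∨ k % 5 = 3 ∨ k % 5 = 4 := by omega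
      have h8 : (k * (k * k) - 1) % 5 = 0 := Int.emod_eq_zero_of_dvd h5
      have h9 : (k * (k * k) - 1) % 5 = ((k % 5) * ((k % 5) * (k % 5)) - 1) % 5 := by
        simp [Int.sub_emod, Int.mul_emod]
      rw [h9] at h8
      rcases h7 with h | h | h | h | h <;> rw [h] at h8 <;> omega
    have h7 : (f : B) ^ (k - 1) = 1 := by
      apply orderOf_dvd_iff_zpow_eq_one.1
      rw [hf5]; exact h6
    have h8 : (f : B) ^ k = f := by
      rw [zpow_sub_one] at h7
      exact mul_inv_eq_one.1 h7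
    rw [h8] at hk
    have h9 : (f : H) * d = d * f := by
      have : d * (f : B) = f * d := conj_eq_iff.1 hk.symm
      exact (congrArg Subtype.val this).symm
    have h10 : 5 ∣ 12 := by
      rw [← (h3 _ hdH).2]
      have h11 : orderOf (f : H) = 5 := by rw [Subgroup.orderOf_coe, Subgroup.orderOf_coe, hf]
      rw [← h11]
      exact Subgroup.orderOf_dvd_natCard _ (mem_centralizer_singleton_iff.2 h9)
    omega

end Hyp

end K

/-! ### The statements with explicit hypotheses -/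

section explicit

variable {H : Type*} [Group H] [Finite H] (t : H) (ht : orderOf t = 2) (htc : ∀ h : H, h * t = t * h)
  (P : H → Prop) (hne : ∃ x, P x) (hP2 : ∀ x, P x → orderOf x = 2) (hPt : ¬ P t)
  (hPi : ∀ x g, P x → P (g * x * g⁻¹)) (hPc : ∀ x y, P x → P y → IsConj x y)
  (hmul : ∀ x y, P x → P y → x ≠ y → x * y = y * x → P (x * y))
  (h3 : ∀ x, P x → Nat.card {y // P y ∧ y * x = x * y} = 3)
  (h16 : ∀ x, P x → Nat.card (centralizer ({x} : Set H)) = 16)
  (h8 : ∀ x y, P x → P y → x ≠ y → x * y = y * x →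
    Nat.card (centralizer ({x} : Set H) ⊓ centralizer ({y} : Set H) : Subgroup H) = 8)
include ht htc hne hP2 hPt hPi hPc hmul h3 h16 h8

theorem main : Nat.card {x // P x} = 3 ∨
    (Nat.card {x // P x} = 15 ∧ Nat.card H = 240 ∧ ∀ d : H, orderOf d = 3 →
      Nat.card (centralizer ({d} : Set H)) = 12) := by
  rcases Hyp.three_or_fifteen ⟨ht, htc, hne, hP2, hPt, hPi, hPc, hmul, h3, h16, h8⟩ with h | ⟨h, h', h''⟩
  · exact Or.inl h
  · exact Or.inr ⟨h, h', fun d hd => (h'' d hd).2⟩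

theorem odd_pairs : Nat.card {p : H × H // P p.1 ∧ P p.2 ∧ Odd (orderOf (p.1 * p.2))} =
    Nat.card {x // P x} * (Nat.card {x // P x} - 2) :=
  Hyp.odd_pairs ⟨ht, htc, hne, hP2, hPt, hPi, hPc, hmul, h3, h16, h8⟩

theorem no_trans (h15 : Nat.card {x // P x} = 15) (B : Subgroup H) (htB : t ∈ B)
    (htr : ∀ x y, P x → P y → ∃ b ∈ B, b * x * b⁻¹ = y) (hB : Nat.card B ∣ 60) : False := by
  obtain ⟨z, hz⟩ := hne
  exact Hyp.no_trans ⟨ht, htc, ⟨z, hz⟩, hP2, hPt, hPi, hPc, hmul, h3, h16, h8⟩ h15 B htB z hz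
    (fun y hy => htr z y hz hy) hB

end explicit

/-! ### Application to `C(t)` -/

section app

universe v

variable {X : Type v} [Group X] [Finite X] {z t : X}

theorem hyp_of_fus (F : FusDef.Fus z t) :
    Hyp (⟨t, mem_centralizer_singleton_iff.2 rfl⟩ : centralizer ({t} : Set X)) (Order.P z t) where
  ht := Order.k_ht F
  htc := Order.k_htc
  hne := Order.k_hne F
  hP2 := Order.k_hP2 F
  hPt := Order.k_hPt F
  hPi := Order.k_hPi
  hPc := Order.k_hPc F
  hmul := Order.k_hmul F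
  h3 := Order.k_h3 F
  h16 := Order.k_h16 F
  h8 := Order.k_h8 F

theorem order_statement (F : FusDef.Fus z t) :
    Nat.card X = 95040 ∧ Nat.card (Subgroup.centralizer {t}) = 240 ∧
    ∀ B : Subgroup X, t ∈ B → B ≤ Subgroup.centralizer {t} →
      (∀ x, IsConj z x → x * t = t * x → ∃ b ∈ B, b * z * b⁻¹ = x) → Nat.card B ∣ 60 → False := by
  have K := hyp_of_fus F
  have h := Order.card_of_fus_of F (by
    rcases K.three_or_fifteen with h | ⟨h, _⟩
    · exact Or.inl h
    · exact Or.inr h) K.odd_pairs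
  refine ⟨h.1, h.2.1, fun B htB hB htr hc => ?_⟩
  have hzt : z ∈ centralizer ({t} : Set X) := mem_centralizer_singleton_iff.2 F.comm
  refine K.no_trans h.2.2 (B.subgroupOf (centralizer ({t} : Set X))) (mem_subgroupOf.2 htB) ⟨z, hzt⟩
    (IsConj.refl z) ?_ ?_
  · rintro ⟨y, hy⟩ hyz
    obtain ⟨b, hb, hbz⟩ := htr y hyz (mem_centralizer_singleton_iff.1 hy)
    exact ⟨⟨b, hB hb⟩, mem_subgroupOf.2 hb, Subtype.ext hbz⟩
  · rwa [Nat.card_congr (Subgroup.subgroupOfEquivOfLe hB).toEquiv]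

end app

end Cfsg.Agent.MTwelveType.LemmaK
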