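import Cfsg.Agent.Lib.Cores
import Cfsg.Agent.TwoFusion.QuatQuotient

/-!
Lift of "Theorem B" through a central subgroup of order two.
-/

set_option autoImplicit false

open Subgroup

namespace Cfsg.Agent.MTwelveType.Lift

theorem mem_of_mul_self_mem {G : Type*} [Group G] {x : G} (hx : Odd (orderOf x)) {H : Subgroup G}
    (h : x * x ∈ H) : x ∈ H := by
  obtain ⟨k, hk⟩ := hx
  have h1 : x = (x * x) ^ (k + 1) := by
    rw [← pow_two, ← pow_mul]
    have h2 : 2 * (k + 1) = orderOf x + 1 := by omega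
    rw [h2, pow_succ, pow_orderOf_eq_one, one_mul]
  rw [h1]
  exact H.pow_mem h _

theorem mem_of_pow_mem {G : Type*} [Group G] {x : G} {H : Subgroup G} {a b : ℕ}
    (hab : a.Coprime b) (ha : x ^ a ∈ H) (hb : x ^ b ∈ H) : x ∈ H := by
  have h := Nat.gcd_eq_gcd_ab a b
  rw [Nat.coprime_iff_gcd_eq_one.1 hab] at h
  have h1 : x = (x ^ a) ^ (a.gcdA b) * (x ^ b) ^ (a.gcdB b) := by
    rw [← zpow_natCast, ← zpow_natCast, ← zpow_mul, ← zpow_mul, ← zpow_add, ← h]
    simp
  rw [h1]
  exact H.mul_mem (H.zpow_mem ha _) (H.zpow_mem hb _)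

/-- an element of the normalizer of a Sylow 2-subgroup is a product of an element of odd order
and a 2-element of the Sylow subgroup: any subgroup containing both types contains it -/
theorem mem_of_normalizer {G : Type*} [Group G] [Finite G] (P : Sylow 2 G) {H : Subgroup G}
    (hP : (P : Subgroup G) ≤ H)
    (hodd : ∀ x ∈ normalizer (P : Set G), Odd (orderOf x) → x ∈ H) {x : G}
    (hx : x ∈ normalizer (P : Set G)) : x ∈ H := by
  have hn : orderOf x ≠ 0 := (orderOf_pos x).ne'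
  obtain ⟨a, m, hm, hxm⟩ := Nat.exists_eq_two_pow_mul_odd hn
  have hm0 : 0 < m := hm.pos
  refine mem_of_pow_mem (a := 2 ^ a) (b := m)
    (Nat.Coprime.pow_left _ (Nat.coprime_two_left.2 hm)) ?_ ?_
  · refine hodd _ (Subgroup.pow_mem _ hx _) ?_
    rw [orderOf_pow_of_dvd (by positivity) (by rw [hxm]; exact Dvd.intro _ rfl), hxm,
      Nat.mul_div_cancel_left _ (by positivity)]
    exact hm
  · have h2 : IsPGroup 2 (zpowers (x ^ m)) := by
      refine IsPGroup.of_card (n := a) ?_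
      rw [Nat.card_zpowers, orderOf_pow_of_dvd hm0.ne' (by rw [hxm]; exact Dvd.intro_left _ rfl),
        hxm, Nat.mul_div_cancel _ hm0]
    have h3 : x ^ m ∈ zpowers (x ^ m) ⊓ normalizer (P : Set G) :=
      ⟨mem_zpowers _, Subgroup.pow_mem _ hx _⟩
    rw [IsPGroup.inf_normalizer_sylow h2 P] at h3
    exact hP h3.2

/-- Burnside in the centralizer of an element of an abelian Sylow 2-subgroup -/
theorem exists_complement {Y : Type*} [Group Y] [Finite Y] (V : Sylow 2 Y)
    (hab : ∀ a ∈ V, ∀ b ∈ V, a * b = b * a) (v : Y) (hv : v ∈ V)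
    (hN : ∀ x ∈ normalizer (V : Set Y), Odd (orderOf x) → x * v = v * x →
      ∀ q ∈ V, x * q = q * x) :
    ∃ N : Subgroup Y, N ≤ Subgroup.centralizer {v} ∧ Odd (Nat.card N) ∧
      (∀ c ∈ Subgroup.centralizer {v}, ∀ n ∈ N, c * n * c⁻¹ ∈ N) ∧
      Subgroup.centralizer {v} ≤ N ⊔ V := by
  have hle : (V : Subgroup Y) ≤ centralizer {v} := fun a ha =>
    mem_centralizer_singleton_iff.2 (hab a ha v hv)
  set H := centralizer {v} with hH
  set VH : Sylow 2 H := V.subtype hle with hVH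
  have hmem : ∀ x : H, x ∈ VH ↔ (x : Y) ∈ V := fun x => Iff.rfl
  have hcen : normalizer (VH : Set H) ≤ centralizer (VH : Set H) := by
    intro x hx
    refine mem_of_normalizer VH (H := centralizer (VH : Set H)) ?_ ?_ hx
    · intro a ha
      rw [mem_centralizer_iff]
      intro b hb
      exact Subtype.ext (hab _ hb _ ha)
    · intro x hx hxo
      rw [mem_centralizer_iff]
      intro q hq
      have h1 : (x : Y) ∈ normalizer (V : Set Y) := by
        rw [mem_set_normalizer_iff] at hx ⊢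
        intro w
        have hx2 : (x : Y) ∈ centralizer {v} := x.2
        constructor
        · intro hw
          exact (hx ⟨w, hle hw⟩).1 hw
        · intro hw
          have h3 : w ∈ centralizer {v} := by
            have h4 : (x : Y) * w * (x : Y)⁻¹ ∈ centralizer {v} := hle hw
            have h5 := H.mul_mem (H.mul_mem (H.inv_mem x.2) h4) x.2
            convert h5 using 1
            group
          exact (hx ⟨w, h3⟩).2 hw
      have h2 := hN x h1 (by rwa [Subgroup.orderOf_coe]) (mem_centralizer_singleton_iff.1 x.2) q hq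
      exact Subtype.ext h2.symm
  have hc := MonoidHom.ker_transferSylow_isComplement' VH hcen
  have hnd := MonoidHom.not_dvd_card_ker_transferSylow VH hcen
  set K := (MonoidHom.transferSylow VH hcen).ker with hK
  refine ⟨K.map H.subtype, ?_, ?_, ?_, ?_⟩
  · rw [map_le_iff_le_comap]
    intro x _
    exact x.2
  · rw [Nat.card_congr (K.equivMapOfInjective _ H.subtype_injective).symm.toEquiv]
    rw [← Nat.not_even_iff_odd]
    intro h
    exact hnd h.two_dvd
  · rintro c hc' _ ⟨n, hn, rfl⟩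
    refine ⟨⟨c, hc'⟩ * n * ⟨c, hc'⟩⁻¹, ?_, rfl⟩
    exact (inferInstance : K.Normal).conj_mem n hn _
  · intro x hx
    have h1 : (⟨x, hx⟩ : H) ∈ K ⊔ (VH : Subgroup H) := by
      rw [hc.sup_eq_top]
      exact mem_top _
    have h2 : x ∈ (K ⊔ (VH : Subgroup H)).map H.subtype := ⟨⟨x, hx⟩, h1, rfl⟩
    rw [Subgroup.map_sup] at h2
    have h3 : (VH : Subgroup H).map H.subtype ≤ (V : Subgroup Y) := by
      rintro _ ⟨y, hy, rfl⟩
      exact hy
    exact (sup_le_sup_left h3 _) h2

universe u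

/-- Theorem B of the blueprint -/
def ThmB : Prop := ∀ (Y : Type u) [Group Y] [Finite Y] (V : Sylow 2 Y), (∀ a ∈ V, a * a = 1) →
  8 ≤ Nat.card V →
  (∀ v ∈ V, v ≠ 1 → ∃ N : Subgroup Y, N ≤ Subgroup.centralizer {v} ∧ Odd (Nat.card N) ∧
    (∀ c ∈ Subgroup.centralizer {v}, ∀ n ∈ N, c * n * c⁻¹ ∈ N) ∧
    Subgroup.centralizer {v} ≤ N ⊔ V) →
  (∃ x y : Y, orderOf x = 2 ∧ orderOf y = 2 ∧ ¬ IsConj x y) →
  ((V : Subgroup Y) ⊔ Cfsg.oddCore Y).Normal

/-- Theorem B lifted through a central subgroup of order two -/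
theorem normal_of_thmB (hB : ThmB.{u}) {X : Type u} [Group X] [Finite X] (P : Sylow 2 X) (z : X)
    (hz : orderOf z = 2) (hzc : z ∈ center X) (hzP : z ∈ P) (hsq : ∀ a ∈ P, a * a = 1 ∨ a * a = z)
    (hcard : 16 ≤ Nat.card P) (hO : Cfsg.oddCore X = ⊥)
    (hfix : ∀ x ∈ normalizer (P : Set X), Odd (orderOf x) → ∀ v ∈ P, v ≠ 1 → v ≠ z →
      (x * v * x⁻¹ = v ∨ x * v * x⁻¹ = v * z) → ∀ q ∈ P, x * q = q * x)
    (a b : X) (ha : a ∈ P) (hb : b ∈ P) (ha1 : a ≠ 1) (haz : a ≠ z) (hb1 : b ≠ 1) (hbz : b ≠ z)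
    (hab : ∀ x ∈ normalizer (P : Set X), x * a * x⁻¹ ≠ b ∧ x * a * x⁻¹ ≠ b * z) :
    (P : Subgroup X).Normal := by
  have hZn : (zpowers z).Normal := by
    refine ⟨fun n hn g => ?_⟩
    obtain ⟨k, rfl⟩ := hn
    have h1 : z ^ k ∈ center X := Subgroup.zpow_mem _ hzc k
    have h2 : g * z ^ k * g⁻¹ = z ^ k := by
      rw [mem_center_iff.1 h1 g, mul_inv_cancel_right]
    show g * z ^ k * g⁻¹ ∈ zpowers z
    rw [h2]
    exact ⟨k, rfl⟩
  have hzz : z * z = 1 := by rw [← pow_two, ← hz, pow_orderOf_eq_one]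
  have hmemZ : ∀ y, y ∈ zpowers z ↔ y = 1 ∨ y = z := by
    intro y
    constructor
    · intro hy
      obtain ⟨k, rfl⟩ := mem_zpowers_iff.1 hy
      rcases Int.even_or_odd' k with ⟨j, rfl | rfl⟩
      · left
        rw [zpow_mul, zpow_two, hzz, one_zpow]
      · right
        rw [zpow_add, zpow_mul, zpow_two, hzz, one_zpow, one_mul, zpow_one]
    · rintro (rfl | rfl)
      · exact one_mem _
      · exact mem_zpowers _
  set π := QuotientGroup.mk' (zpowers z) with hπ
  have hπs : Function.Surjective π := QuotientGroup.mk'_surjective _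
  have hπeq : ∀ x y : X, π x = π y ↔ y = x ∨ y = x * z := by
    intro x y
    rw [hπ, QuotientGroup.mk'_apply, QuotientGroup.mk'_apply, QuotientGroup.eq, hmemZ]
    constructor
    · rintro (h | h)
      · left; rw [inv_mul_eq_one] at h; exact h.symm
      · right; rw [← h, mul_inv_cancel_left]
    · rintro (rfl | rfl)
      · left; rw [inv_mul_cancel]
      · right; rw [inv_mul_cancel_left]
  have hπ1 : ∀ x, π x = 1 ↔ x = 1 ∨ x = z := by
    intro x
    rw [← map_one π, eq_comm, hπeq, one_mul]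
  set V := P.mapSurjective hπs with hV
  have hVmem : ∀ x, π x ∈ V ↔ x ∈ P := by
    intro x
    constructor
    · rintro ⟨p, hp, hpx⟩
      rcases (hπeq p x).1 hpx with rfl | rfl
      · exact hp
      · exact P.mul_mem hp hzP
    · intro hx
      exact ⟨x, hx, rfl⟩
  have hVsq : ∀ v ∈ V, v * v = 1 := by
    intro v hv
    obtain ⟨p, rfl⟩ := hπs v
    rw [← map_mul, hπ1]
    exact hsq p ((hVmem p).1 hv)
  have hVab : ∀ v ∈ V, ∀ w ∈ V, v * w = w * v := by
    intro v hv w hw
    have h1 := hVsq _ (V.mul_mem hv hw)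
    have h2 : v⁻¹ = v := inv_eq_of_mul_eq_one_left (hVsq v hv)
    have h3 : w⁻¹ = w := inv_eq_of_mul_eq_one_left (hVsq w hw)
    calc v * w = (v * w)⁻¹ := (inv_eq_of_mul_eq_one_left h1).symm
      _ = w * v := by rw [mul_inv_rev, h2, h3]
  have hlift : ∀ y ∈ normalizer (V : Set (X ⧸ zpowers z)), ∃ x ∈ normalizer (P : Set X), π x = y := by
    intro y hy
    obtain ⟨x, rfl⟩ := hπs y
    refine ⟨x, ?_, rfl⟩
    apply mem_normalizer_fintype
    intro n hn
    have h1 : π x * π n * (π x)⁻¹ ∈ V := ((mem_set_normalizer_iff.1 hy) (π n)).1 ((hVmem n).2 hn)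
    rw [← map_mul, ← map_inv, ← map_mul] at h1
    exact (hVmem _).1 h1
  have hliftodd : ∀ y ∈ normalizer (V : Set (X ⧸ zpowers z)), Odd (orderOf y) →
      ∃ x ∈ normalizer (P : Set X), π x = y ∧ Odd (orderOf x) := by
    intro y hy hyo
    obtain ⟨x, hx, rfl⟩ := hlift y hy
    obtain ⟨k, hk⟩ := id hyo
    have h1 : x ^ orderOf (π x) = 1 ∨ x ^ orderOf (π x) = z := by
      rw [← hπ1, map_pow, pow_orderOf_eq_one]
    have h2 : x ^ (2 * orderOf (π x)) = 1 := by
      rw [mul_comm, pow_mul, pow_two]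
      rcases h1 with h1 | h1
      · rw [h1, one_mul]
      · rw [h1, hzz]
    refine ⟨x ^ (orderOf (π x) + 1), Subgroup.pow_mem _ hx _, ?_, ?_⟩
    · rw [map_pow, pow_succ, pow_orderOf_eq_one, one_mul]
    · refine Odd.of_dvd_nat hyo (orderOf_dvd_of_pow_eq_one ?_)
      rw [← pow_mul]
      have h3 : (orderOf (π x) + 1) * orderOf (π x) = (2 * orderOf (π x)) * (k + 1) := by
        rw [hk]; ring
      rw [h3, pow_mul, h2, one_pow]
  have hOY : Cfsg.oddCore (X ⧸ zpowers z) = ⊥ :=
    Cfsg.Agent.TwoFusion.QuatQuotient.oddCore_quotient_eq_bot hO z hzc hz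
  have hVcard : 8 ≤ Nat.card V := by
    have h1 : (π.comp (P : Subgroup X).subtype).range = (V : Subgroup (X ⧸ zpowers z)) := by
      rw [MonoidHom.range_comp, range_subtype]
      rfl
    have h2 := index_ker (π.comp (P : Subgroup X).subtype)
    rw [h1] at h2
    have h3 := card_mul_index (π.comp (P : Subgroup X).subtype).ker
    have h4 : Nat.card (π.comp (P : Subgroup X).subtype).ker ≤ 2 := by
      have h40 : Nat.card (zpowers z) = 2 := by rw [Nat.card_zpowers, hz]
      refine le_trans ?_ h40.le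
      refine Nat.card_le_card_of_injective
        (fun x => (⟨((x : (P : Subgroup X)) : X), ?_⟩ : zpowers z)) ?_
      · have h5 := x.2
        rw [MonoidHom.mem_ker] at h5
        exact (hmemZ _).2 ((hπ1 _).1 h5)
      · intro x y hxy
        exact Subtype.ext (Subtype.ext (congrArg (fun w : zpowers z => (w : X)) hxy))
    rw [h2] at h3
    change 8 ≤ Nat.card ((V : Subgroup (X ⧸ zpowers z)) : Type u)
    have h6 : 16 ≤ Nat.card ((P : Subgroup X) : Type u) := hcard
    by_contra h7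
    push Not at h7
    have h8 : Nat.card (π.comp (P : Subgroup X).subtype).ker *
      Nat.card ((V : Subgroup (X ⧸ zpowers z)) : Type u) ≤ 2 * 7 := Nat.mul_le_mul h4 (by omega)
    omega
  have hnorm : (V : Subgroup (X ⧸ zpowers z)).Normal := by
    have h := hB (X ⧸ zpowers z) V hVsq hVcard ?_ ?_
    · rwa [hOY, sup_bot_eq] at h
    · intro v hv hv1
      refine exists_complement V hVab v hv ?_
      intro y hy hyo hyv q hq
      obtain ⟨x, hx, rfl, hxo⟩ := hliftodd y hy hyo
      obtain ⟨p, rfl⟩ := hπs v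
      obtain ⟨q, rfl⟩ := hπs q
      rw [Ne, hπ1, not_or] at hv1
      have h1 : x * p * x⁻¹ = p ∨ x * p * x⁻¹ = p * z := by
        rw [← hπeq, map_mul, map_mul, map_inv, hyv, mul_inv_cancel_right]
      rw [← map_mul, ← map_mul, hfix x hx hxo p ((hVmem p).1 hv) hv1.1 hv1.2 h1 q ((hVmem q).1 hq)]
    · refine ⟨π a, π b, ?_, ?_, ?_⟩
      · refine orderOf_eq_prime ?_ ?_
        · rw [pow_two]; exact hVsq _ ((hVmem a).2 ha)
        · rw [Ne, hπ1, not_or]; exact ⟨ha1, haz⟩
      · refine orderOf_eq_prime ?_ ?_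
        · rw [pow_two]; exact hVsq _ ((hVmem b).2 hb)
        · rw [Ne, hπ1, not_or]; exact ⟨hb1, hbz⟩
      · intro h
        obtain ⟨g, hg⟩ := isConj_iff.1 h
        have : IsMulCommutative V := ⟨⟨fun x y => Subtype.ext (hVab _ x.2 _ y.2)⟩⟩
        obtain ⟨n, hn, hn2⟩ := Sylow.conj_eq_normalizer_conj_of_mem V (π a) g⁻¹
          ((hVmem a).2 ha) (by rw [inv_inv, hg]; exact (hVmem b).2 hb)
        rw [inv_inv, hg] at hn2
        obtain ⟨x, hx, hxn⟩ := hlift n⁻¹ (Subgroup.inv_mem _ hn)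
        have h1 : π (x * a * x⁻¹) = π b := by
          rw [map_mul, map_mul, map_inv, hxn, inv_inv, hn2]
        rcases (hπeq _ _).1 h1.symm with h2 | h2
        · exact (hab x hx).1 h2
        · exact (hab x hx).2 h2
  have hcomap : (P : Subgroup X) = (V : Subgroup (X ⧸ zpowers z)).comap π := by
    ext x
    exact (hVmem x).symm
  rw [hcomap]
  exact hnorm.comap π

end Cfsg.Agent.MTwelveType.Lift
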