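import Cfsg.Agent.ClassificationK.GTwoFusionB

/-!
Computations in the group `T 4` of order 64 (the Sylow 2-subgroup of `M₁₂`), by `decide`.
-/

set_option autoImplicit false

namespace Cfsg.Agent.MTwelveType.ModelFour

open Cfsg.Agent.ClassificationK.GTwoModel Cfsg.Agent.ClassificationK.GTwoModel.T

instance instDecEqT {m : ℕ} : DecidableEq (T m) := fun x y =>
  decidable_of_iff (x.i = y.i ∧ x.j = y.j ∧ x.e = y.e ∧ x.d = y.d)
    ⟨fun h => T.ext h.1 h.2.1 h.2.2.1 h.2.2.2, fun h => by subst h; exact ⟨rfl, rfl, rfl, rfl⟩⟩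

/-- the four group elements used below -/
abbrev T4 := T (2 * 2)

theorem forall_T {P : T4 → Prop} (h : ∀ (i j : ZMod (2 * 2)) (e d : Bool), P ⟨i, j, e, d⟩) : ∀ x, P x :=
  fun ⟨i, j, e, d⟩ => h i j e d

/-- `z ∈ ⟨x⟩` -/
def Zp (x : T4) : Prop := x = z 2 ∨ x * x = z 2 ∨ (x * x) * (x * x) = z 2

instance (x : T4) : Decidable (Zp x) := by unfold Zp; infer_instance

/-- membership in `Q = 2^{1+4}_+` -/
def QP (x : T4) : Prop := x.i + x.j = 0 ∨ x.i + x.j = 2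

instance (x : T4) : Decidable (QP x) := by unfold QP; infer_instance

/-- the 2-central involutions of `Q` different from `z` -/
def EE : Finset T4 := {⟨2, 0, false, false⟩, ⟨0, 2, false, false⟩, ⟨1, 1, true, false⟩,
  ⟨1, 3, true, false⟩, ⟨3, 1, true, false⟩, ⟨3, 3, true, false⟩}

/-- the involutions outside `Q` -/
def SS : Finset T4 := {⟨1, 0, true, false⟩, ⟨1, 2, true, false⟩, ⟨3, 0, true, false⟩, ⟨3, 2, true, false⟩,
  ⟨0, 1, true, false⟩, ⟨0, 3, true, false⟩, ⟨2, 1, true, false⟩, ⟨2, 3, true, false⟩}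

/-- the 12 non-2-central involutions -/
def TT : Finset T4 := {⟨0, 0, true, false⟩, ⟨0, 2, true, false⟩, ⟨2, 0, true, false⟩, ⟨2, 2, true, false⟩,
  ⟨0, 0, false, true⟩, ⟨1, 3, false, true⟩, ⟨2, 2, false, true⟩, ⟨3, 1, false, true⟩,
  ⟨0, 0, true, true⟩, ⟨1, 1, true, true⟩, ⟨2, 2, true, true⟩, ⟨3, 3, true, true⟩}

set_option maxRecDepth 100000 in
theorem inv_cases4 : ∀ (i j : ZMod (2 * 2)) (e d : Bool), (⟨i, j, e, d⟩ : T4) * ⟨i, j, e, d⟩ = 1 →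
    (⟨i, j, e, d⟩ : T4) = 1 ∨ (⟨i, j, e, d⟩ : T4) = z 2 ∨ (⟨i, j, e, d⟩ : T4) ∈ EE ∨
      (⟨i, j, e, d⟩ : T4) ∈ SS ∨ (⟨i, j, e, d⟩ : T4) ∈ TT := by
  decide

theorem inv_cases' (x : T4) (hx : x * x = 1) (hx1 : x ≠ 1) : x = z 2 ∨ x ∈ EE ∨ x ∈ SS ∨ x ∈ TT :=
  (inv_cases4 x.i x.j x.e x.d hx).resolve_left hx1

set_option maxRecDepth 100000 in
theorem pow_eight : ∀ (i j : ZMod (2 * 2)) (e d : Bool),
    ((((⟨i, j, e, d⟩ : T4) * ⟨i, j, e, d⟩) * (⟨i, j, e, d⟩ * ⟨i, j, e, d⟩)) *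
      ((⟨i, j, e, d⟩ * ⟨i, j, e, d⟩) * (⟨i, j, e, d⟩ * ⟨i, j, e, d⟩))) = 1 := by
  decide

theorem pow_eight' (x : T4) : x ^ 8 = 1 := by
  have := pow_eight x.i x.j x.e x.d
  calc x ^ 8 = ((x * x) * (x * x)) * ((x * x) * (x * x)) := by
        simp only [pow_succ, pow_zero, one_mul, mul_assoc]
    _ = 1 := this

set_option maxRecDepth 100000 in
theorem zp_pow : ∀ (i j : ZMod (2 * 2)) (e d : Bool) (k : Fin 8), (⟨i, j, e, d⟩ : T4) ^ (k : ℕ) = z 2 →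
    Zp ⟨i, j, e, d⟩ := by
  decide

theorem zp_iff (x : T4) : z 2 ∈ Subgroup.zpowers x ↔ Zp x := by
  constructor
  · rintro ⟨n, hn⟩
    have h8 : x ^ 8 = 1 := pow_eight' x
    have h2 : x ^ n = x ^ (n % 8) := by
      conv_lhs => rw [← Int.emod_add_mul_ediv n 8]
      rw [zpow_add, zpow_mul, show x ^ (8 : ℤ) = 1 by exact_mod_cast h8, one_zpow, mul_one]
    have h3 : 0 ≤ n % 8 := Int.emod_nonneg n (by norm_num)
    have h4 : n % 8 < 8 := Int.emod_lt_of_pos n (by norm_num)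
    have h5 : x ^ ((n % 8).toNat) = z 2 := by
      rw [← zpow_natCast, Int.toNat_of_nonneg h3, ← h2]; exact hn
    exact zp_pow x.i x.j x.e x.d ⟨(n % 8).toNat, by omega⟩ h5
  · rintro (h | h | h)
    · rw [← h]; exact Subgroup.mem_zpowers x
    · rw [← h]; exact mul_mem (Subgroup.mem_zpowers x) (Subgroup.mem_zpowers x)
    · rw [← h]
      exact mul_mem (mul_mem (Subgroup.mem_zpowers x) (Subgroup.mem_zpowers x))
        (mul_mem (Subgroup.mem_zpowers x) (Subgroup.mem_zpowers x))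

set_option maxRecDepth 100000 in
theorem card_PE : ((EE ×ˢ TT).filter fun p => Zp (p.1 * p.2)).card = 48 := by decide

set_option maxRecDepth 100000 in
theorem card_PS : ((SS ×ˢ TT).filter fun p => Zp (p.1 * p.2)).card = 64 := by decide

set_option maxRecDepth 100000 in
theorem card_PZ : ((SS ×ˢ SS).filter fun p => Zp (p.1 * p.2)).card = 40 := by decide

set_option maxRecDepth 100000 in
theorem card_TT : TT.card = 12 := by decide

theorem qp_of_EE : ∀ x ∈ EE, QP x := by decide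

theorem qp_of_TT : ∀ x ∈ TT, QP x := by decide

theorem not_qp_of_SS : ∀ x ∈ SS, ¬ QP x := by decide

theorem qp_z : QP (z 2) := by decide

theorem qp_iff_lam (x : T4) : QP x ↔ lam 2 1 0 0 x = 1 := by
  rw [lam_eq_one_iff]
  have h : ∀ a b : ZMod (2 * 2), (a + b = 0 ∨ a + b = 2) ↔ par 2 (a + b) = 0 := by decide
  rw [QP, h, map_add]
  simp

/-- `Q` as a subgroup -/
def QQ : Subgroup T4 := (lam 2 1 0 0).ker

theorem mem_QQ (x : T4) : x ∈ QQ ↔ QP x := by rw [QQ, MonoidHom.mem_ker, qp_iff_lam]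

set_option maxRecDepth 100000 in
theorem qp_or (x : T4) (hx : x ∈ SS) : ∀ v : T4, QP v ∨ QP (v * x) := by
  have : ∀ x ∈ SS, ∀ (i j : ZMod (2 * 2)) (e d : Bool), QP ⟨i, j, e, d⟩ ∨ QP (⟨i, j, e, d⟩ * x) := by decide
  exact forall_T (this x hx)

set_option maxRecDepth 100000 in
theorem sq_cases : ∀ (i j : ZMod (2 * 2)) (e d : Bool),
    ((⟨i, j, e, d⟩ : T4) * ⟨i, j, e, d⟩) * (⟨i, j, e, d⟩ * ⟨i, j, e, d⟩) = 1 →
      (⟨i, j, e, d⟩ : T4) * ⟨i, j, e, d⟩ = 1 ∨ (⟨i, j, e, d⟩ : T4) * ⟨i, j, e, d⟩ = z 2 ∨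
      (⟨i, j, e, d⟩ : T4) * ⟨i, j, e, d⟩ = a' 2 ∨ (⟨i, j, e, d⟩ : T4) * ⟨i, j, e, d⟩ = b' 2 := by
  decide

theorem a_sq : (⟨1, 0, false, false⟩ : T4) * ⟨1, 0, false, false⟩ = a' 2 := by decide

/-- the centralizer of `t` -/
def CT : Finset T4 := {⟨0, 0, true, false⟩, ⟨0, 2, true, false⟩, ⟨2, 0, true, false⟩, ⟨2, 2, true, false⟩,
  ⟨0, 0, false, true⟩, ⟨0, 2, false, true⟩, ⟨2, 0, false, true⟩, ⟨2, 2, false, true⟩,
  ⟨0, 0, true, true⟩, ⟨0, 2, true, true⟩, ⟨2, 0, true, true⟩, ⟨2, 2, true, true⟩,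
  ⟨0, 0, false, false⟩, ⟨0, 2, false, false⟩, ⟨2, 0, false, false⟩, ⟨2, 2, false, false⟩}

set_option maxRecDepth 100000 in
theorem mem_CT : ∀ x : T4, x ∈ CT ↔ x * t 2 = t 2 * x := by
  have : ∀ (i j : ZMod (2 * 2)) (e d : Bool), (⟨i, j, e, d⟩ : T4) ∈ CT ↔
    (⟨i, j, e, d⟩ : T4) * t 2 = t 2 * ⟨i, j, e, d⟩ := by decide
  exact forall_T this

set_option maxRecDepth 100000 in
theorem card_CT : CT.card = 16 := by decide

set_option maxRecDepth 100000 in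
theorem card_CT3 : (CT.filter fun x => x = z 2 ∨ x ∈ EE ∨ x ∈ SS).card = 3 := by decide

set_option maxRecDepth 100000 in
theorem card_CT8 : ∀ v ∈ CT, v ∈ EE ∨ v ∈ SS → (CT.filter fun x => x * v = v * x).card = 8 := by decide

set_option maxRecDepth 100000 in
theorem conj_EE : ∀ x ∈ EE, x = a' 2 ∨ x = b' 2 ∨ ∃ (i j : ZMod (2 * 2)), 
    (⟨i, j, false, false⟩ : T4) * r 2 = x * ⟨i, j, false, false⟩ := by decide

set_option maxRecDepth 100000 in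
theorem conj_SS : ∀ x ∈ SS, ∃ (i j : ZMod (2 * 2)) (d : Bool), 
    (⟨i, j, false, d⟩ : T4) * s 2 = x * ⟨i, j, false, d⟩ := by decide

set_option maxRecDepth 100000 in
theorem conj_TT : ∀ x ∈ TT, (∃ (i j : ZMod (2 * 2)), (⟨i, j, false, false⟩ : T4) * t 2 = x * ⟨i, j, false, false⟩) ∨
    (∃ (i j : ZMod (2 * 2)), (⟨i, j, false, false⟩ : T4) * u 2 = x * ⟨i, j, false, false⟩) ∨
    (∃ (i j : ZMod (2 * 2)), (⟨i, j, false, false⟩ : T4) * w 2 = x * ⟨i, j, false, false⟩) := by decide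

set_option maxRecDepth 100000 in
theorem z_mul_EE : ∀ x ∈ EE, z 2 * x ∈ EE := by decide

set_option maxRecDepth 100000 in
theorem z_mul_SS : ∀ x ∈ SS, z 2 * x ∈ SS := by decide

theorem z_mul_t : z 2 * t 2 ∈ TT := by decide

end Cfsg.Agent.MTwelveType.ModelFour
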