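import Mathlib

/-!
# Two-point stabilizers (S1741, task T8)

`H` a finite group, `L` a subgroup, `P` a class of involutions of `H` such that an element of `P` lying in `L` is
`H`-conjugate into `L` only by elements of `L` (so elements of `P` fix at most one point of `H ⧸ L`), and such that
the product of two distinct elements of `P` contained in a common 2-subgroup is in `P`. Then every two-point
stabilizer `L ∩ d L d⁻¹` is transitive on the elements of `P` in `L`.
-/

set_option autoImplicit false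

namespace Cfsg.Agent.MTwelveType.TwoPoint

open Subgroup

variable {H : Type*} [Group H]

/-- The group `K₀ ∪ K₀ b` for `K₀ = L ∩ b L b`. -/
def swapGroup (L : Subgroup H) (b : H) (hb : b * b = 1) : Subgroup H where
  carrier := {k | (k ∈ L ∧ b * k * b ∈ L) ∨ (k * b ∈ L ∧ b * k ∈ L)}
  one_mem' := Or.inl ⟨L.one_mem, by rw [mul_one, hb]; exact L.one_mem⟩
  mul_mem' := by
    rintro x y (⟨h1, h2⟩ | ⟨h1, h2⟩) (⟨h3, h4⟩ | ⟨h3, h4⟩)
    · refine Or.inl ⟨L.mul_mem h1 h3, ?_⟩
      have : b * (x * y) * b = (b * x * b) * (b * y * b) := by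
        calc b * (x * y) * b = b * x * 1 * y * b := by group
          _ = b * x * (b * b) * y * b := by rw [hb]
          _ = _ := by group
      rw [this]; exact L.mul_mem h2 h4
    · refine Or.inr ⟨?_, ?_⟩
      · rw [mul_assoc]; exact L.mul_mem h1 h3
      · have : b * (x * y) = (b * x * b) * (b * y) := by
          calc b * (x * y) = b * x * 1 * y := by group
            _ = b * x * (b * b) * y := by rw [hb]
            _ = _ := by group
        rw [this]; exact L.mul_mem h2 h4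
    · refine Or.inr ⟨?_, ?_⟩
      · have : x * y * b = (x * b) * (b * y * b) := by
          calc x * y * b = x * 1 * y * b := by group
            _ = x * (b * b) * y * b := by rw [hb]
            _ = _ := by group
        rw [this]; exact L.mul_mem h1 h4
      · rw [← mul_assoc]; exact L.mul_mem h2 h3
    · refine Or.inl ⟨?_, ?_⟩
      · have : x * y = (x * b) * (b * y) := by
          calc x * y = x * 1 * y := by group
            _ = x * (b * b) * y := by rw [hb]
            _ = _ := by group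
        rw [this]; exact L.mul_mem h1 h4
      · have : b * (x * y) * b = (b * x) * (y * b) := by group
        rw [this]; exact L.mul_mem h2 h3
  inv_mem' := by
    have hbi : b⁻¹ = b := inv_eq_of_mul_eq_one_left hb
    rintro x (⟨h1, h2⟩ | ⟨h1, h2⟩)
    · refine Or.inl ⟨L.inv_mem h1, ?_⟩
      have : b * x⁻¹ * b = (b * x * b)⁻¹ := by
        rw [mul_inv_rev, mul_inv_rev, hbi, mul_assoc]
      rw [this]; exact L.inv_mem h2
    · refine Or.inr ⟨?_, ?_⟩
      · have : x⁻¹ * b = (b * x)⁻¹ := by rw [mul_inv_rev, hbi]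
        rw [this]; exact L.inv_mem h2
      · have : b * x⁻¹ = (x * b)⁻¹ := by rw [mul_inv_rev, hbi]
        rw [this]; exact L.inv_mem h1

theorem mem_swapGroup (L : Subgroup H) (b : H) (hb : b * b = 1) (k : H) :
    k ∈ swapGroup L b hb ↔ (k ∈ L ∧ b * k * b ∈ L) ∨ (k * b ∈ L ∧ b * k ∈ L) := Iff.rfl

/-- `L ∩ b L b` is transitive on the elements of `P` exchanging the points `L` and `b L`. -/
theorem exists_conj_of_swap [Finite H] (L : Subgroup H) (P : H → Prop)
    (hPi : ∀ x g, P x → P (g * x * g⁻¹)) (hP2 : ∀ x, P x → x * x = 1)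
    (hPm : ∀ x y, P x → P y → x ≠ y → ∀ F : Subgroup H, IsPGroup 2 F → x ∈ F → y ∈ F → P (x * y))
    (hL : ∀ x g, P x → x ∈ L → g * x * g⁻¹ ∈ L → g ∈ L)
    (a b : H) (ha : P a) (hb : P b) (hbL : b ∉ L) (h1 : a * b ∈ L) (h2 : b * a ∈ L) :
    ∃ g ∈ L, b * g * b ∈ L ∧ g * a * g⁻¹ = b := by
  have hbb := hP2 b hb
  have hbi : b⁻¹ = b := inv_eq_of_mul_eq_one_left hbb
  have haL : a ∉ L := fun h => hbL ((L.mul_mem_cancel_left h).1 h1)
  set K := swapGroup L b hbb with hK
  have haK : a ∈ K := Or.inr ⟨h1, h2⟩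
  have hbK : b ∈ K := Or.inr ⟨by rw [hbb]; exact L.one_mem, by rw [hbb]; exact L.one_mem⟩
  -- Sylow in `K`
  have hpz : ∀ x : K, x * x = 1 → IsPGroup 2 (zpowers x) := by
    intro x hx
    have hd : orderOf x ∣ 2 := orderOf_dvd_of_pow_eq_one (by rw [pow_two, hx])
    rcases (Nat.dvd_prime Nat.prime_two).1 hd with h | h
    · exact IsPGroup.of_card (n := 0) (by rw [Nat.card_zpowers, h, pow_zero])
    · exact IsPGroup.of_card (n := 1) (by rw [Nat.card_zpowers, h, pow_one])
  obtain ⟨Pa, hPa⟩ := (hpz ⟨a, haK⟩ (Subtype.ext (hP2 a ha))).exists_le_sylow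
  obtain ⟨Pb, hPb⟩ := (hpz ⟨b, hbK⟩ (Subtype.ext hbb)).exists_le_sylow
  obtain ⟨k, hk⟩ := MulAction.exists_smul_eq K Pa Pb
  have hka : k * ⟨a, haK⟩ * k⁻¹ ∈ (Pb : Subgroup K) := by
    rw [← hk, Sylow.coe_subgroup_smul]
    exact ⟨_, hPa (mem_zpowers _), rfl⟩
  have hbPb : (⟨b, hbK⟩ : K) ∈ (Pb : Subgroup K) := hPb (mem_zpowers _)
  -- parity
  have hkaK : ((k : H) * a * (k : H)⁻¹) ∈ K := K.mul_mem (K.mul_mem k.2 haK) (K.inv_mem k.2)
  have hkP : P ((k : H) * a * (k : H)⁻¹) := hPi a k ha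
  have hkaL : (k : H) * a * (k : H)⁻¹ ∉ L := by
    intro h
    rcases (mem_swapGroup L b hbb k).1 k.2 with ⟨h3, h4⟩ | ⟨h3, h4⟩
    · apply haL
      have h5 : a = (k : H)⁻¹ * ((k : H) * a * (k : H)⁻¹) * (k : H) := by group
      rw [h5]
      exact L.mul_mem (L.mul_mem (L.inv_mem h3) h) h3
    · apply hbL
      have h5 : b * a * b ∈ L := by
        have h6 : b * a * b = ((k : H) * b)⁻¹ * ((k : H) * a * (k : H)⁻¹) * ((k : H) * b) := by
          rw [mul_inv_rev, hbi]; group
        rw [h6]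
        exact L.mul_mem (L.mul_mem (L.inv_mem h3) h) h3
      exact (L.mul_mem_cancel_left h2).1 h5
  have heq : (k : H) * a * (k : H)⁻¹ = b := by
    by_contra hne
    have hF : IsPGroup 2 ((Pb : Subgroup K).map K.subtype) := Pb.isPGroup'.map _
    have hpr := hPm _ b hkP hb hne _ hF ⟨_, hka, rfl⟩ ⟨_, hbPb, rfl⟩
    rcases (mem_swapGroup L b hbb _).1 hkaK with ⟨h3, h4⟩ | ⟨h3, h4⟩
    · exact hkaL h3
    · apply hbL
      refine hL _ b hpr h3 ?_
      rw [hbi]
      have h5 : b * ((k : H) * a * (k : H)⁻¹ * b) * b = b * ((k : H) * a * (k : H)⁻¹) * (b * b) := by group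
      rw [h5, hbb, mul_one]
      exact h4
  rcases (mem_swapGroup L b hbb k).1 k.2 with ⟨h3, h4⟩ | ⟨h3, h4⟩
  · exact ⟨k, h3, h4, heq⟩
  · refine ⟨(k : H) * a, ?_, ?_, ?_⟩
    · have h5 : (k : H) * a = ((k : H) * b) * (b * a) := by
        calc (k : H) * a = (k : H) * 1 * a := by group
          _ = (k : H) * (b * b) * a := by rw [hbb]
          _ = _ := by group
      rw [h5]
      exact L.mul_mem h3 h2
    · have h5 : b * ((k : H) * a) * b = (b * (k : H)) * (a * b) := by group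
      rw [h5]
      exact L.mul_mem h4 h1
    · calc (k : H) * a * a * ((k : H) * a)⁻¹ = (k : H) * a * (k : H)⁻¹ := by group
        _ = b := heq

/-- Double cosets. -/
theorem exists_eq_mul_mul [Finite H] (L : Subgroup H) (P : H → Prop)
    (hPi : ∀ x g, P x → P (g * x * g⁻¹)) (hP2 : ∀ x, P x → x * x = 1)
    (hPm : ∀ x y, P x → P y → x ≠ y → ∀ F : Subgroup H, IsPGroup 2 F → x ∈ F → y ∈ F → P (x * y))
    (hL : ∀ x g, P x → x ∈ L → g * x * g⁻¹ ∈ L → g ∈ L)
    (z : H) (hz : P z) (hzL : z ∈ L) (h : H) (l : H) (hl : l ∈ L) :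
    ∃ c, c * z = z * c ∧ ∃ l' ∈ L, l * h = c * h * l' := by
  -- centralizer of `z` is in `L`
  have hC : ∀ c, c * z = z * c → c ∈ L := fun c hc => hL z c hz hzL (by rw [hc, mul_inv_cancel_right]; exact hzL)
  let relA : Setoid H :=
    { r := fun x y => ∃ c, c * z = z * c ∧ ∃ l' ∈ L, y = c * x * l'
      iseqv := by
        refine ⟨fun x => ⟨1, by simp, 1, L.one_mem, by simp⟩, ?_, ?_⟩
        · rintro x y ⟨c, hc, l', hl', rfl⟩
          refine ⟨c⁻¹, ?_, l'⁻¹, L.inv_mem hl', by group⟩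
          have : Commute c z := hc
          exact this.inv_left.eq
        · rintro x y w ⟨c, hc, l', hl', rfl⟩ ⟨c', hc', l'', hl'', rfl⟩
          refine ⟨c' * c, ?_, l' * l'', L.mul_mem hl' hl'', by group⟩
          have h1 : Commute c z := hc
          have h2 : Commute c' z := hc'
          exact (h2.mul_left h1).eq }
  let relB : Setoid H :=
    { r := fun x y => ∃ c ∈ L, ∃ l' ∈ L, y = c * x * l'
      iseqv := by
        refine ⟨fun x => ⟨1, L.one_mem, 1, L.one_mem, by simp⟩, ?_, ?_⟩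
        · rintro x y ⟨c, hc, l', hl', rfl⟩
          exact ⟨c⁻¹, L.inv_mem hc, l'⁻¹, L.inv_mem hl', by group⟩
        · rintro x y w ⟨c, hc, l', hl', rfl⟩ ⟨c', hc', l'', hl'', rfl⟩
          exact ⟨c' * c, L.mul_mem hc' hc, l' * l'', L.mul_mem hl' hl'', by group⟩ }
  -- the surjection
  let ψ : Quotient relA → Quotient relB := Quotient.map' (s₁ := relA) (s₂ := relB) id (by
    rintro x y ⟨c, hc, l', hl', h⟩
    exact ⟨c, hC c hc, l', hl', h⟩)
  have hψ : Function.Surjective ψ := by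
    intro q
    obtain ⟨x, rfl⟩ := Quotient.exists_rep q
    exact ⟨Quotient.mk _ x, rfl⟩
  -- the injection
  let φ : Quotient relA → Quotient relB := Quotient.map' (s₁ := relA) (s₂ := relB) (fun x => x⁻¹ * z * x) (by
    rintro x y ⟨c, hc, l', hl', rfl⟩
    refine ⟨l'⁻¹, L.inv_mem hl', l', hl', ?_⟩
    have h1 : c⁻¹ * z * c = z := by
      rw [mul_assoc, ← hc]; group
    calc (c * x * l')⁻¹ * z * (c * x * l') = l'⁻¹ * x⁻¹ * (c⁻¹ * z * c) * x * l' := by group
      _ = _ := by rw [h1]; group)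
  have hPx : ∀ x : H, P (x⁻¹ * z * x) := fun x => by
    have := hPi z x⁻¹ hz
    rwa [inv_inv] at this
  have hφ : Function.Injective φ := by
    intro q q' hqq
    obtain ⟨x, rfl⟩ := Quotient.exists_rep q
    obtain ⟨y, rfl⟩ := Quotient.exists_rep q'
    apply Quotient.sound
    obtain ⟨l1, hl1, l2, hl2, he⟩ := (Quotient.exact hqq : relB.r _ _)
    have he' : y⁻¹ * z * y = l1 * (x⁻¹ * z * x) * l2 := he
    change ∃ c, c * z = z * c ∧ ∃ l' ∈ L, y = c * x * l'
    by_cases hxL : x ∈ L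
    · -- then `y ∈ L`
      have h1 : x⁻¹ * z * x ∈ L := L.mul_mem (L.mul_mem (L.inv_mem hxL) hzL) hxL
      have h2 : y⁻¹ * z * y ∈ L := by
        rw [he']; exact L.mul_mem (L.mul_mem hl1 h1) hl2
      have h3 : y⁻¹ ∈ L := hL z y⁻¹ hz hzL (by rw [inv_inv]; exact h2)
      have h4 : y ∈ L := by simpa using L.inv_mem h3
      exact ⟨1, by simp, x⁻¹ * y, L.mul_mem (L.inv_mem hxL) h4, by group⟩
    · -- general case
      set b := y⁻¹ * z * y with hb
      set a := l1 * (x⁻¹ * z * x) * l1⁻¹ with ha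
      have hPa : P a := hPi _ _ (hPx x)
      have hPb : P b := hPx y
      have haL : x⁻¹ * z * x ∉ L := by
        intro h1
        have h3 : x⁻¹ ∈ L := hL z x⁻¹ hz hzL (by rw [inv_inv]; exact h1)
        exact hxL (by simpa using L.inv_mem h3)
      have hbL : b ∉ L := by
        intro h1
        apply haL
        have h2 : x⁻¹ * z * x = l1⁻¹ * b * l2⁻¹ := by rw [he']; group
        rw [h2]
        exact L.mul_mem (L.mul_mem (L.inv_mem hl1) h1) (L.inv_mem hl2)
      have haa : a * a = 1 := hP2 a hPa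
      have hbb : b * b = 1 := hP2 b hPb
      have hab : a * b ∈ L := by
        have h1 : a * b = l1 * l2 := by
          have h2 : b = a * (l1 * l2) := by rw [he', ha]; group
          rw [h2, ← mul_assoc, haa, one_mul]
        rw [h1]; exact L.mul_mem hl1 hl2
      have hba : b * a ∈ L := by
        have h1 : b * a = (a * b)⁻¹ := by
          rw [mul_inv_rev, inv_eq_of_mul_eq_one_left hbb, inv_eq_of_mul_eq_one_left haa]
        rw [h1]; exact L.inv_mem hab
      obtain ⟨g, hg, -, hgab⟩ := exists_conj_of_swap L P hPi hP2 hPm hL a b hPa hPb hbL hab hba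
      refine ⟨y * g * l1 * x⁻¹, ?_, (g * l1)⁻¹, L.inv_mem (L.mul_mem hg hl1), by group⟩
      have h5 : g * (l1 * (x⁻¹ * z * x) * l1⁻¹) * g⁻¹ = y⁻¹ * z * y := hgab
      calc y * g * l1 * x⁻¹ * z = y * (g * (l1 * (x⁻¹ * z * x) * l1⁻¹) * g⁻¹) * g * l1 * x⁻¹ := by group
        _ = z * (y * g * l1 * x⁻¹) := by rw [h5]; group
  have hfinA : Finite (Quotient relA) := Quotient.finite _
  have hfinB : Finite (Quotient relB) := Quotient.finite _
  have hcard : Nat.card (Quotient relA) = Nat.card (Quotient relB) :=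
    le_antisymm (Nat.card_le_card_of_injective φ hφ) (Nat.card_le_card_of_surjective ψ hψ)
  have hψi : Function.Injective ψ := by
    obtain ⟨e⟩ : Nonempty (Quotient relB ≃ Quotient relA) := (Finite.card_eq.1 hcard).map Equiv.symm
    have h1 : Function.Surjective (e ∘ ψ) := e.surjective.comp hψ
    have h2 : Function.Injective (e ∘ ψ) := Finite.injective_iff_surjective.2 h1
    exact h2.of_comp
  have h1 : ψ (Quotient.mk relA h) = ψ (Quotient.mk relA (l * h)) :=
    Quotient.sound (⟨l, hl, 1, L.one_mem, by simp⟩ : relB.r h (l * h))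
  exact (Quotient.exact (hψi h1) : relA.r h (l * h))

/-- Every two-point stabilizer is transitive on the elements of `P` in `L`. -/
theorem exists_conj_mem_inf [Finite H] (L : Subgroup H) (P : H → Prop)
    (hPi : ∀ x g, P x → P (g * x * g⁻¹)) (hP2 : ∀ x, P x → x * x = 1)
    (hPm : ∀ x y, P x → P y → x ≠ y → ∀ F : Subgroup H, IsPGroup 2 F → x ∈ F → y ∈ F → P (x * y))
    (hL : ∀ x g, P x → x ∈ L → g * x * g⁻¹ ∈ L → g ∈ L)
    (z : H) (hz : P z) (hzL : z ∈ L) (hconj : ∀ x, P x → ∃ g, g * z * g⁻¹ = x) (d : H) (x : H) (hx : P x)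
    (hxL : x ∈ L) : ∃ g ∈ L, d⁻¹ * g * d ∈ L ∧ g * z * g⁻¹ = x := by
  obtain ⟨l, hl⟩ := hconj x hx
  have hlL : l ∈ L := hL z l hz hzL (by rw [hl]; exact hxL)
  obtain ⟨c, hc, l', hl', h⟩ := exists_eq_mul_mul L P hPi hP2 hPm hL z hz hzL d l⁻¹ (L.inv_mem hlL)
  have hcL : c ∈ L := hL z c hz hzL (by rw [hc, mul_inv_cancel_right]; exact hzL)
  have h1 : l * c = d * l'⁻¹ * d⁻¹ := by
    have h2 : c⁻¹ * l⁻¹ = d * l' * d⁻¹ := by
      calc c⁻¹ * l⁻¹ = c⁻¹ * (l⁻¹ * d) * d⁻¹ := by group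
        _ = c⁻¹ * (c * d * l') * d⁻¹ := by rw [h]
        _ = _ := by group
    calc l * c = (c⁻¹ * l⁻¹)⁻¹ := by group
      _ = _ := by rw [h2]; group
  refine ⟨l * c, L.mul_mem hlL hcL, ?_, ?_⟩
  · rw [h1]
    have : d⁻¹ * (d * l'⁻¹ * d⁻¹) * d = l'⁻¹ := by group
    rw [this]
    exact L.inv_mem hl'
  · calc l * c * z * (l * c)⁻¹ = l * (c * z) * c⁻¹ * l⁻¹ := by group
      _ = l * (z * c) * c⁻¹ * l⁻¹ := by rw [hc]
      _ = l * z * l⁻¹ := by group
      _ = x := hl

end Cfsg.Agent.MTwelveType.TwoPoint
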